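import Cfsg.Agent.Lib.BPair.Sat

/-!
# Blocks with abelian maximal pairs
-/

set_option autoImplicit false
set_option linter.unusedSectionVars false
set_option linter.unusedSimpArgs false
set_option linter.unusedVariables false

open scoped ComplexConjugate Pointwise
open Cfsg MonoidAlgebra
open Cfsg.Agent.Lib.Block Cfsg.Agent.Lib.Char Cfsg.Agent.Lib.CharExtra

namespace Cfsg.Agent.Lib.BPair

attribute [local instance] subFintype

section Abel

variable {G : Type*} [Group G] [Fintype G] {M : Ideal AlgInt} [hMp : M.IsPrime] {p : ℕ} [hp : Fact p.Prime]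
  {B : Set (IrrCharacter G)} {P Q : Subgroup G} {e : Set (IrrCharacter (Cen P))} {f : Set (IrrCharacter (Cen Q))}

theorem le_cen_of_abelian (hab : ∀ x ∈ P, ∀ y ∈ P, x * y = y * x) (hQP : Q ≤ P) : P ≤ Cen Q := by
  intro u hu
  rw [Subgroup.mem_centralizer_iff]
  intro v hv
  exact hab _ (hQP hv) _ hu

theorem fnorm_of_abelian (hM : IsPModular p M) (hmax : IsMaximalBrauerPair p M B P e)
    (hab : ∀ x ∈ P, ∀ y ∈ P, x * y = y * x) (hle : SubpairLE p M Q f P e) : FNorm p M P ⟨Q, f⟩ := by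
  classical
  have hPe := (isBrauerPairOf_iff.1 hmax.1).1
  have hf : IsPBlock M f := (isBrauerPair_of_subpairLE hPe hle).2
  have hQP := le_of_subpairLE hle
  intro T hT
  have hPN : P ≤ Subgroup.normalizer (Q : Set G) := (le_cen_of_abelian hab hQP).trans (cen_le_normalizer Q)
  obtain ⟨F₁, hF₁, hc⟩ := exists_blockT_of_le hM hmax hle hf hT
  refine ⟨F₁, hF₁, hc, ?_⟩
  obtain ⟨D, hD, hle₁⟩ := stab_defect_ge hM hmax hle hT hF₁ hc
  obtain ⟨y, -, hy⟩ := exists_conj_defect_le hM hmax (isBrauerPairOf_of_le hM hmax hle)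
    (fun t ht => ((hT t).1 ht).1) (fun t ht => ((hT t).1 ht).2) hc hD
  have h1 : Nat.card D ≤ Nat.card P := by
    have := Subgroup.card_le_of_le hy
    rwa [card_cj, Subgroup.card_map_of_injective (Subgroup.subtype_injective _)] at this
  have heq : (P ⊓ Subgroup.normalizer (Q : Set G)).subgroupOf T = D := by
    refine Subgroup.eq_of_le_of_card_ge hle₁ ?_
    rw [card_subgroupOf_of_le (inf_normalizer_le_T hM hmax hle hT), inf_eq_left.2 hPN]
    exact h1
  rw [heq]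
  exact hD

/-- Elements of the stabilizer lift to `T_P`. -/
theorem exists_stab_mul (hM : IsPModular p M) (hmax : IsMaximalBrauerPair p M B P e)
    (hab : ∀ x ∈ P, ∀ y ∈ P, x * y = y * x) (hle : SubpairLE p M Q f P e) {x : G}
    (hxN : x ∈ Subgroup.normalizer (Q : Set G)) (hxs : StabilizesBlock (Cen Q) f x) :
    ∃ y : G, y ∈ Subgroup.normalizer (P : Set G) ∧ StabilizesBlock (Cen P) e y ∧
      ∃ c ∈ Cen Q, x = y * c := by
  classical
  have hPe := (isBrauerPairOf_iff.1 hmax.1).1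
  have hf : IsPBlock M f := (isBrauerPair_of_subpairLE hPe hle).2
  have hQP := le_of_subpairLE hle
  have hPN : P ≤ Subgroup.normalizer (Q : Set G) := (le_cen_of_abelian hab hQP).trans (cen_le_normalizer Q)
  have hn : IsNormalSubpair p M Q f P e := isNormalSubpair_of_le hM hPe hle .refl hQP hPN
  have hn' := isNormalSubpair_conj (x := x) hn
  have h3 := conjIdx_eq_of_stabilizes hf hxN hxs
  have hn'' : NormalSubpairRel p M (conjIdx x ⟨Q, f⟩) (conjIdx x ⟨P, e⟩) := hn'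
  rw [h3] at hn''
  obtain ⟨T, hT⟩ := exists_pairT hf
  obtain ⟨F₀, hF₀, hc₀, hdef⟩ := fnorm_of_abelian hM hmax hab hle T hT
  have hSL : cj x P ≤ (P ⊓ Subgroup.normalizer (Q : Set G)) ⊔ Cen Q := by
    refine le_trans ?_ le_sup_right
    rintro _ ⟨u, hu, rfl⟩
    have h1 : x * u * x⁻¹ ∈ Cen (cj x Q) := conj_mem_cen_cj.2 (le_cen_of_abelian hab hQP hu)
    rw [cj_eq_of_mem_normalizer hxN] at h1
    exact h1
  obtain ⟨c, hc, hch⟩ := exists_cen_conj hM hmax hle hf hT hF₀ hc₀ hdef hSL hn''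
  have hch' : Relation.ReflTransGen (NormalSubpairRel p M) (conjIdx c (conjIdx x ⟨P, e⟩)) ⟨P, e⟩ := hch
  rw [conjIdx_mul] at hch'
  have hcj : cj (c * x) P = P := eq_of_cj_le (le_of_subpairLE hch')
  have h4 := eq_of_chain_of_fst_eq hM hPe hch' hcj
  obtain ⟨h5, h6⟩ := stabilizes_of_conjIdx_eq hPe.2 h4
  refine ⟨c * x, h5, h6, (c * x)⁻¹ * c⁻¹ * (c * x), ?_, by group⟩
  have hcN : c * x ∈ Subgroup.normalizer (Q : Set G) :=
    Subgroup.mul_mem _ (cen_le_normalizer Q hc) hxN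
  have h7 : ∀ v ∈ Q, (c * x)⁻¹ * v * (c * x) ∈ Q := by
    intro v hv
    have := (Subgroup.mem_normalizer_iff.1 ((Subgroup.normalizer (Q : Set G)).inv_mem hcN) v).1 hv
    simpa using this
  rw [Subgroup.mem_centralizer_iff]
  intro v hv
  have h8 : (c * x) * v * (c * x)⁻¹ ∈ Q := (Subgroup.mem_normalizer_iff.1 hcN v).1 hv
  have h9 : c⁻¹ * ((c * x) * v * (c * x)⁻¹) = ((c * x) * v * (c * x)⁻¹) * c⁻¹ :=
    ((Subgroup.mem_centralizer_iff.1 ((Cen Q).inv_mem hc) _ h8)).symm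
  have e1 : v * ((c * x)⁻¹ * c⁻¹ * (c * x)) = (c * x)⁻¹ * (((c * x) * v * (c * x)⁻¹) * c⁻¹) * (c * x) := by group
  rw [e1, ← h9]
  group

theorem inf_le_stab (hM : IsPModular p M) (hmax : IsMaximalBrauerPair p M B P e) (hle : SubpairLE p M Q f P e)
    {y : G} (hyN : y ∈ Subgroup.normalizer (P : Set G)) (hys : StabilizesBlock (Cen P) e y)
    (hyQ : y ∈ Subgroup.normalizer (Q : Set G)) : StabilizesBlock (Cen Q) f y := by
  have hPe := (isBrauerPairOf_iff.1 hmax.1).1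
  have hf : IsPBlock M f := (isBrauerPair_of_subpairLE hPe hle).2
  have h1 : Relation.ReflTransGen (NormalSubpairRel p M) (conjIdx y ⟨Q, f⟩) (conjIdx y ⟨P, e⟩) := chain_conj y hle
  rw [conjIdx_eq_of_stabilizes hPe.2 hyN hys] at h1
  have h2 : conjIdx y ⟨Q, f⟩ = ⟨Q, f⟩ := eq_idx_of_chain hM hPe hle h1 (cj_eq_of_mem_normalizer hyQ)
  exact (stabilizes_of_conjIdx_eq hf h2).2

/-- **The inertial quotients agree.** -/
theorem abelian_stab (hM : IsPModular p M) (hmax : IsMaximalBrauerPair p M B P e)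
    (hab : ∀ x ∈ P, ∀ y ∈ P, x * y = y * x) (hle : SubpairLE p M Q f P e) {TQ TP : Subgroup G}
    (hTQ : ∀ y : G, y ∈ TQ ↔ y ∈ Subgroup.normalizer (Q : Set G) ∧ StabilizesBlock (Cen Q) f y)
    (hTP : ∀ y : G, y ∈ TP ↔ y ∈ Subgroup.normalizer (P : Set G) ∧ StabilizesBlock (Cen P) e y) :
    (∀ x ∈ TQ, ∃ y ∈ TP, ∃ c ∈ Cen Q, x = y * c) ∧
      ((Cen Q).subgroupOf TQ).index = ((TP ⊓ Cen Q).subgroupOf (TP ⊓ Subgroup.normalizer (Q : Set G))).index := by
  classical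
  have h1 : ∀ x ∈ TQ, ∃ y ∈ TP, ∃ c ∈ Cen Q, x = y * c := by
    intro x hx
    obtain ⟨hx1, hx2⟩ := (hTQ x).1 hx
    obtain ⟨y, hy1, hy2, c, hc, rfl⟩ := exists_stab_mul hM hmax hab hle hx1 hx2
    exact ⟨y, (hTP y).2 ⟨hy1, hy2⟩, c, hc, rfl⟩
  refine ⟨h1, ?_⟩
  have hCT : Cen Q ≤ TQ := fun c hc => (hTQ c).2 ⟨cen_le_normalizer Q hc, stabilizes_of_mem_cen hc⟩
  have hAT : TP ⊓ Subgroup.normalizer (Q : Set G) ≤ TQ := by
    rintro y ⟨hy1, hy2⟩
    obtain ⟨h3, h4⟩ := (hTP y).1 hy1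
    exact (hTQ y).2 ⟨hy2, inf_le_stab hM hmax hle h3 h4 hy2⟩
  haveI hNn : ((Cen Q).subgroupOf TQ).Normal := by
    refine ⟨fun n hn t => ?_⟩
    rw [Subgroup.mem_subgroupOf] at hn ⊢
    exact (Subgroup.mem_normalizer_iff.1 (normalizer_le_normalizer_cen ((hTQ t).1 t.2).1) _).1 hn
  have htop : (Cen Q).subgroupOf TQ ⊔ (TP ⊓ Subgroup.normalizer (Q : Set G)).subgroupOf TQ = ⊤ := by
    rw [eq_top_iff]
    rintro ⟨x, hx⟩ -
    obtain ⟨y, hy, c, hc, rfl⟩ := h1 x hx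
    have hyN : y ∈ Subgroup.normalizer (Q : Set G) := by
      have h5 : y * c ∈ Subgroup.normalizer (Q : Set G) := ((hTQ _).1 hx).1
      have h6 := Subgroup.mul_mem _ h5 ((Subgroup.normalizer (Q : Set G)).inv_mem (cen_le_normalizer Q hc))
      simpa using h6
    have hyT : y ∈ TQ := hAT ⟨hy, hyN⟩
    have e1 : (⟨y * c, hx⟩ : TQ) = ⟨y, hyT⟩ * ⟨c, hCT hc⟩ := rfl
    rw [e1]
    exact Subgroup.mul_mem _ (Subgroup.mem_sup_right (Subgroup.mem_subgroupOf.2 ⟨hy, hyN⟩))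
      (Subgroup.mem_sup_left (Subgroup.mem_subgroupOf.2 hc))
  have h2 := Subgroup.relIndex_sup_left ((TP ⊓ Subgroup.normalizer (Q : Set G)).subgroupOf TQ) ((Cen Q).subgroupOf TQ)
  rw [htop, Subgroup.relIndex_top_right] at h2
  rw [h2]
  have h3 : ((Cen Q).subgroupOf TQ).relIndex ((TP ⊓ Subgroup.normalizer (Q : Set G)).subgroupOf TQ) =
      (Cen Q).relIndex (TP ⊓ Subgroup.normalizer (Q : Set G)) := by
    unfold Subgroup.subgroupOf
    rw [Subgroup.relIndex_comap]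
    have := Subgroup.map_subgroupOf_eq_of_le hAT
    unfold Subgroup.subgroupOf at this
    rw [this]
  rw [h3]
  have h4 : TP ⊓ Cen Q = Cen Q ⊓ (TP ⊓ Subgroup.normalizer (Q : Set G)) := by
    ext u
    constructor
    · rintro ⟨h5, h6⟩
      exact ⟨h6, h5, cen_le_normalizer Q h6⟩
    · rintro ⟨h5, h6, -⟩
      exact ⟨h6, h5⟩
  show _ = Subgroup.relIndex (TP ⊓ Cen Q) (TP ⊓ Subgroup.normalizer (Q : Set G))
  rw [h4, Subgroup.inf_relIndex_right]

/-- **Nilpotency for abelian maximal pairs.** -/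
theorem nilpotent_iff_of_abelian (hM : IsPModular p M) (hmax : IsMaximalBrauerPair p M B P e)
    (hab : ∀ x ∈ P, ∀ y ∈ P, x * y = y * x) :
    IsNilpotentBlock p M B ↔ ∀ x : G, x ∈ Subgroup.normalizer (P : Set G) → StabilizesBlock (Cen P) e x → x ∈ Cen P := by
  classical
  have hPe := (isBrauerPairOf_iff.1 hmax.1).1
  constructor
  · intro hnil x hx1 hx2
    have h3 := conjIdx_eq_of_stabilizes hPe.2 hx1 hx2
    have h4 : SubpairLE p M (cj x P) (conjBlock P x e) P e := by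
      show Relation.ReflTransGen (NormalSubpairRel p M) (conjIdx x ⟨P, e⟩) ⟨P, e⟩
      rw [h3]
    obtain ⟨u, hu, huv⟩ := innerOn_of_nilpotent hM hmax hnil .refl h4
    rw [Subgroup.mem_centralizer_iff]
    intro v hv
    have h5 := huv v hv
    have h6 : u * v * u⁻¹ = v := by
      rw [hab u hu v hv]
      group
    rw [h6] at h5
    rw [mul_inv_eq_iff_eq_mul] at h5
    exact h5.symm
  · intro h
    refine ⟨(isBrauerPairOf_iff.1 hmax.1).2.1, fun Q f hQf x hxN hxs hxreg => ?_⟩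
    obtain ⟨y, hy⟩ := exists_conj_subpair hM hmax hQf
    have hQf' := (isBrauerPairOf_iff.1 hQf).1
    have hzN : y * x * y⁻¹ ∈ Subgroup.normalizer ((cj y Q : Subgroup G) : Set G) := conj_mem_normalizer_cj.2 hxN
    have hzs := (stabilizes_conj_iff (x := y) hQf'.2).2 hxs
    obtain ⟨y₁, h1, h2, c, hc, hzeq⟩ := exists_stab_mul hM hmax hab hy hzN hzs
    have h3 := h y₁ h1 h2
    have h4 : y₁ ∈ Cen (cj y Q) := cen_le_cen (le_of_subpairLE hy) h3
    have h5 : y * x * y⁻¹ ∈ Cen (cj y Q) := by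
      rw [hzeq]
      exact Subgroup.mul_mem _ h4 hc
    have := mem_cen_cj.1 h5
    have e1 : y⁻¹ * (y * x * y⁻¹) * y = x := by group
    rwa [e1] at this

end Abel

end Cfsg.Agent.Lib.BPair
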