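import Cfsg.Agent.Lib.BPair.NormalCase
import Cfsg.Agent.Lib.CharExtra.PIndex

/-!
# Defect groups of the blocks below a maximal pair
-/

set_option autoImplicit false
set_option linter.unusedSectionVars false
set_option linter.unusedSimpArgs false
set_option linter.unusedVariables false

open scoped ComplexConjugate
open Cfsg MonoidAlgebra
open Cfsg.Agent.Lib.Block Cfsg.Agent.Lib.Char Cfsg.Agent.Lib.CharExtra

namespace Cfsg.Agent.Lib.BPair

attribute [local instance] subFintype

section Map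

variable {H K : Type*} [Group H] [Group K] [Fintype H] [Fintype K] {M : Ideal AlgInt} [hMp : M.IsPrime]
  {p : ℕ} [hp : Fact p.Prime]

theorem centralizer_singleton_map (φ : H ≃* K) (d : H) :
    Subgroup.centralizer ({φ d} : Set K) = (Subgroup.centralizer ({d} : Set H)).map φ.toMonoidHom := by
  ext k
  rw [Subgroup.mem_centralizer_singleton_iff]
  constructor
  · intro h
    refine ⟨φ.symm k, ?_, by simp⟩
    rw [SetLike.mem_coe, Subgroup.mem_centralizer_singleton_iff]
    apply φ.injective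
    simpa using h
  · rintro ⟨v, hv, rfl⟩
    rw [SetLike.mem_coe, Subgroup.mem_centralizer_singleton_iff] at hv
    have := congrArg φ hv
    simpa using this

theorem centralChar_mapIrr (φ : H ≃* K) (χ : IrrCharacter H) (d : H) :
    centralChar (mapIrr φ χ : K → ℂ) (φ d) = centralChar (χ : H → ℂ) d := by
  unfold centralChar
  have hidx : (Subgroup.centralizer ({φ d} : Set K)).index = (Subgroup.centralizer ({d} : Set H)).index := by
    rw [centralizer_singleton_map]
    exact Subgroup.index_map_equiv _ φ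
  have h1 : (mapIrr φ χ : K → ℂ) 1 = (χ : H → ℂ) 1 := by simp [mapIrr]
  rw [hidx, mapIrr_apply, h1]

theorem isDefectClass_mapBlock (φ : H ≃* K) {b : Set (IrrCharacter H)} {d : H} (h : IsDefectClass M b d) :
    IsDefectClass M (mapBlock φ b) (φ d) := by
  obtain ⟨h1, h2, h3⟩ := h
  refine ⟨by rwa [blockCoeff_mapBlock], by rwa [blockCoeff_mapBlock], fun χ hχ => ?_⟩
  obtain ⟨ψ, hψ, rfl⟩ := hχ
  rw [centralChar_mapIrr]
  exact h3 ψ hψ

/-- Defect groups transport along isomorphisms. -/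
theorem isDefectGroup_mapBlock (φ : H ≃* K) {b : Set (IrrCharacter H)} {D : Subgroup H}
    (hD : IsDefectGroup p M b D) : IsDefectGroup p M (mapBlock φ b) (D.map φ.toMonoidHom) := by
  classical
  obtain ⟨g, hg, P, rfl⟩ := hD
  refine ⟨φ g, isDefectClass_mapBlock φ hg, ?_⟩
  obtain ⟨D', hD'⟩ : ∃ D' : Subgroup K, D' = ((P : Subgroup (Subgroup.centralizer ({g} : Set H))).map
      (Subgroup.centralizer ({g} : Set H)).subtype).map φ.toMonoidHom := ⟨_, rfl⟩
  rw [← hD']
  have hle : D' ≤ Subgroup.centralizer ({φ g} : Set K) := by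
    rw [hD', centralizer_singleton_map]
    exact Subgroup.map_mono (Subgroup.map_subtype_le _)
  have hcardD' : Nat.card D' = Nat.card (P : Subgroup (Subgroup.centralizer ({g} : Set H))) := by
    rw [hD']
    rw [Subgroup.card_map_of_injective φ.injective, Subgroup.card_map_of_injective (Subgroup.subtype_injective _)]
  have hcardC : Nat.card (Subgroup.centralizer ({φ g} : Set K)) = Nat.card (Subgroup.centralizer ({g} : Set H)) := by
    rw [centralizer_singleton_map, Subgroup.card_map_of_injective φ.injective]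
  have hcard : Nat.card (D'.subgroupOf (Subgroup.centralizer ({φ g} : Set K))) =
      p ^ (Nat.card (Subgroup.centralizer ({φ g} : Set K))).factorization p := by
    rw [Nat.card_congr (Subgroup.subgroupOfEquivOfLe hle).toEquiv, hcardD', P.card_eq_multiplicity, hcardC]
  refine ⟨Sylow.ofCard _ hcard, ?_⟩
  rw [Sylow.coe_ofCard, Subgroup.subgroupOf_map_subtype, inf_eq_left.mpr hle]

end Map

section Local

variable {G : Type*} [Group G] [Fintype G] {M : Ideal AlgInt} [hMp : M.IsPrime] {p : ℕ} [hp : Fact p.Prime]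
  {B : Set (IrrCharacter G)} {P Q : Subgroup G} {e : Set (IrrCharacter (Cen P))} {f : Set (IrrCharacter (Cen Q))}

theorem isBrauerPair_of_chain {a b : BrauerPairIdx G} (hb : IsBrauerPair p M b.1 b.2)
    (h : Relation.ReflTransGen (NormalSubpairRel p M) a b) : IsBrauerPair p M a.1 a.2 := by
  induction h using Relation.ReflTransGen.head_induction_on with
  | refl => exact hb
  | head hab _ _ => exact (isNormalSubpair_iff.1 hab).1

theorem isBrauerPair_of_subpairLE (hPe : IsBrauerPair p M P e) (h : SubpairLE p M Q f P e) :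
    IsBrauerPair p M Q f :=
  isBrauerPair_of_chain (a := ⟨Q, f⟩) (b := ⟨P, e⟩) hPe h

theorem le_of_subpairLE (h : SubpairLE p M Q f P e) : Q ≤ P := chain_le (a := ⟨Q, f⟩) (b := ⟨P, e⟩) h

/-- A subpair on a bigger subgroup lies above. -/
theorem subpairLE_of_le (hM : IsPModular p M) (hPe : IsBrauerPair p M P e) (h₁ : SubpairLE p M Q f P e)
    {S : Subgroup G} {g : Set (IrrCharacter (Cen S))} (h₂ : SubpairLE p M S g P e) (hQS : Q ≤ S) :
    SubpairLE p M Q f S g := by
  have hSg := isBrauerPair_of_subpairLE hPe h₂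
  have hQf := isBrauerPair_of_subpairLE hPe h₁
  obtain ⟨f', ⟨hf', hle'⟩, -⟩ := existsUnique_subpair hM hSg hQS
  have h3 := (existsUnique_subpair hM hPe (hQS.trans (le_of_subpairLE h₂))).unique
    ⟨hf', Relation.ReflTransGen.trans hle' h₂⟩ ⟨hQf.2, h₁⟩
  rwa [h3] at hle'

theorem isNormalSubpair_of_le (hM : IsPModular p M) (hPe : IsBrauerPair p M P e) (h₁ : SubpairLE p M Q f P e)
    {S : Subgroup G} {g : Set (IrrCharacter (Cen S))} (h₂ : SubpairLE p M S g P e) (hQS : Q ≤ S)
    (hSN : S ≤ Subgroup.normalizer (Q : Set G)) : IsNormalSubpair p M Q f S g :=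
  normal_of_chain hM (a := ⟨Q, f⟩) (b := ⟨S, g⟩) (subpairLE_of_le hM hPe h₁ h₂ hQS)
    (isBrauerPair_of_subpairLE hPe h₁) hSN

/-- Elements of `N_P(Q)` stabilize the block below. -/
theorem stabilizes_of_le (hM : IsPModular p M) (hPe : IsBrauerPair p M P e) (h₁ : SubpairLE p M Q f P e)
    {u : G} (hu : u ∈ P) (huN : u ∈ Subgroup.normalizer (Q : Set G)) : StabilizesBlock (Cen Q) f u := by
  obtain ⟨g, ⟨hg, hSg⟩, -⟩ := existsUnique_subpair hM hPe (show P ⊓ Subgroup.normalizer (Q : Set G) ≤ P from inf_le_left)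
  have hQP := le_of_subpairLE h₁
  have hn := isNormalSubpair_of_le hM hPe h₁ hSg (le_inf hQP Subgroup.le_normalizer) inf_le_right
  exact (isNormalSubpair_iff.1 hn).2.2.2.2.1 u ⟨hu, huN⟩

theorem exists_coeff_of_le (hM : IsPModular p M) (hPe : IsBrauerPair p M P e) (hle : SubpairLE p M Q f P e)
    {R : Subgroup G} (hRP : R ≤ P) (hRN : R ≤ Subgroup.normalizer (Q : Set G)) :
    ∃ c, c ∈ Cen (Q ⊔ R) ∧ ¬ MemLocalIdeal M ((Ee Q f).coeff c) := by
  classical
  have hQP := le_of_subpairLE hle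
  obtain ⟨g, ⟨hg, hSg⟩, -⟩ := existsUnique_subpair hM hPe (show Q ⊔ R ≤ P from sup_le hQP hRP)
  have hn := isNormalSubpair_of_le hM hPe hle hSg le_sup_left (sup_le Subgroup.le_normalizer hRN)
  obtain ⟨-, hSg', -, -, -, hom⟩ := isNormalSubpair_iff.1 hn
  obtain ⟨ξ, hξ⟩ := IsPBlock_nonempty hSg'.2
  by_contra hcon
  push Not at hcon
  have h1 : LocalIdealCoeff M (resAlg (Cen (Q ⊔ R)) (Ee Q f)) := by
    intro c
    rw [coeff_resAlg]
    exact hcon c c.2
  have h2 := memLocalIdeal_om_of_localIdealCoeff ξ.2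
    (isCentralElt_resAlg_of_isInvBy (isInvBy_Ee_of_le (cen_le_cen le_sup_left) f)) h1
  apply not_memLocalIdeal_one (M := M)
  simpa using memLocalIdeal_sub h2 (hom ξ hξ)

theorem blockCoeff_eq_Ee {H : Subgroup G} {b : Set (IrrCharacter H)}
    (hc : ∀ t : H, blockCoeff b t = subgroupBlockCoeff (Cen Q) f (t : G)) (t : H) :
    blockCoeff b t = (Ee Q f).coeff (t : G) := by
  rw [hc, subgroupBlockCoeff_fun]
  rfl

/-- **The part of `P` in `H` lies in a defect group.** -/
theorem exists_defect_ge (hM : IsPModular p M) (hPe : IsBrauerPair p M P e) (hle : SubpairLE p M Q f P e)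
    {H : Subgroup G} (hCH : Cen Q ≤ H) (hHN : H ≤ Subgroup.normalizer (Q : Set G)) {b : Set (IrrCharacter H)}
    (hb : IsPBlock M b) (hc : ∀ t : H, blockCoeff b t = subgroupBlockCoeff (Cen Q) f (t : G))
    {R : Subgroup G} (hRP : R ≤ P) (hRH : R ≤ H) :
    ∃ D : Subgroup H, IsDefectGroup p M b D ∧ R.subgroupOf H ≤ D := by
  classical
  obtain ⟨c, hcC, hcu⟩ := exists_coeff_of_le hM hPe hle hRP (hRH.trans hHN)
  have hcQ : c ∈ Cen Q := cen_le_cen le_sup_left hcC
  have hcR : c ∈ Cen R := cen_le_cen le_sup_right hcC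
  have hd : ¬ MemLocalIdeal M (blockCoeff b (⟨c, hCH hcQ⟩ : H)) := by
    rw [blockCoeff_eq_Ee hc]
    exact hcu
  have hE : IsPGroup p (R.subgroupOf H) := (hPe.1.to_le hRP).comap_subtype
  have hEd : R.subgroupOf H ≤ Subgroup.centralizer ({(⟨c, hCH hcQ⟩ : H)} : Set H) := by
    intro u hu
    rw [Subgroup.mem_centralizer_singleton_iff]
    rw [Subgroup.mem_subgroupOf] at hu
    apply Subtype.ext
    exact Subgroup.mem_centralizer_iff.1 hcR _ hu
  obtain ⟨D₀, hD₀⟩ := Cfsg.Agent.Lib.CharExtra.exists_isDefectGroup hM hb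
  obtain ⟨g, hg, S, hS⟩ := id hD₀
  obtain ⟨χ, hχ⟩ := IsPBlock_nonempty hb
  obtain ⟨x, hx⟩ := minmax_le hM hb hχ (hg.2.2 χ hχ) hd hE hEd S
  rw [← hS] at hx
  exact ⟨_, isDefectGroup_conj hD₀ x, hx⟩

/-- A normal overpair from a unit coefficient. -/
theorem exists_normal_above (hM : IsPModular p M) (hQf : IsBrauerPair p M Q f) {S : Subgroup G} (hS : IsPGroup p S)
    (hQS : Q ≤ S) (hSN : S ≤ Subgroup.normalizer (Q : Set G)) (hst : ∀ x ∈ S, StabilizesBlock (Cen Q) f x) {c : G}
    (hc : c ∈ Cen S) (hu : ¬ MemLocalIdeal M ((Ee Q f).coeff c)) :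
    ∃ g : Set (IrrCharacter (Cen S)), IsNormalSubpair p M Q f S g := by
  classical
  have hCinv : IsInvBy (Cen S) (Ee Q f) := isInvBy_Ee_of_le (cen_le_cen hQS) f
  have hSinv : IsInvBy S (Ee Q f) := isInvBy_Ee_of_stable hQf.2 hst
  have hl := localCoeff_Ee hQf.2
  have hex : ∃ ξ : IrrCharacter (Cen S), ¬ MemLocalIdeal M (om (ξ : Cen S → ℂ) (resAlg (Cen S) (Ee Q f))) := by
    by_contra hcon
    push Not at hcon
    have h1 : LocalIdealCoeff M (resAlg (Cen S) (Ee Q f)) := by
      refine localIdealCoeff_of_idem_of_om (isCentralElt_resAlg_of_isInvBy hCinv)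
        (localCoeff_resAlg _ hl) ?_ hcon
      have h2 := localIdealCoeff_resAlg_mul_sub hM hS hSinv hSinv hl hl
      rw [Ee_mul_self] at h2
      simpa using localIdealCoeff_neg h2
    have h2 := h1 ⟨c, hc⟩
    rw [coeff_resAlg] at h2
    exact hu h2
  obtain ⟨ξ, hξ⟩ := hex
  have h1 := (om_idem_cases hM hS ξ hSinv hCinv hl (Ee_mul_self Q f)).resolve_left hξ
  have hg : IsPBlock M (blockOf M (ξ : Cen S → ℂ)) := isPBlock_blockOf ξ
  exact ⟨_, isNormalSubpair_iff.2 ⟨hQf, ⟨hS, hg⟩, hQS, hSN, hst, fun η hη =>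
    om_block_congr hg hη (mem_blockOf_self ξ) hCinv hl h1⟩⟩

/-- A conjugate of a pair `(Q,f)` lies below the maximal pair and the defect group gets into `P`. -/
theorem exists_conj_defect_le (hM : IsPModular p M) (hmax : IsMaximalBrauerPair p M B P e)
    (hQf : IsBrauerPairOf p M B Q f) {H : Subgroup G} (hHN : H ≤ Subgroup.normalizer (Q : Set G))
    (hHst : ∀ t ∈ H, StabilizesBlock (Cen Q) f t) {b : Set (IrrCharacter H)}
    (hc : ∀ t : H, blockCoeff b t = subgroupBlockCoeff (Cen Q) f (t : G)) {D : Subgroup H}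
    (hD : IsDefectGroup p M b D) :
    ∃ y : G, SubpairLE p M (cj y Q) (conjBlock Q y f) P e ∧ cj y (D.map H.subtype) ≤ P := by
  classical
  have hQf' := (isBrauerPairOf_iff.1 hQf).1
  obtain ⟨d, hd, S₀, hS₀⟩ := id hD
  have hD'p : IsPGroup p (D.map H.subtype) := by
    rw [hS₀]
    exact IsPGroup.map (IsPGroup.map S₀.isPGroup' _) _
  have hD'H : D.map H.subtype ≤ H := Subgroup.map_subtype_le _
  have hD'c : D.map H.subtype ≤ Subgroup.centralizer ({(d : G)} : Set G) := by
    rw [hS₀]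
    rintro _ ⟨_, ⟨u, hu, rfl⟩, rfl⟩
    have h1 := u.2
    rw [Subgroup.mem_centralizer_singleton_iff] at h1 ⊢
    exact congrArg Subtype.val h1
  have hSp : IsPGroup p (Q ⊔ D.map H.subtype : Subgroup G) :=
    hQf'.1.to_sup_of_normal_left' hD'p (hD'H.trans hHN)
  have hcoef : ¬ MemLocalIdeal M ((Ee Q f).coeff (d : G)) := by
    rw [← blockCoeff_eq_Ee hc]
    exact hd.2.1
  have hdQ : (d : G) ∈ Cen Q := by
    by_contra hcon
    apply hcoef
    unfold Ee
    rw [coeff_incl_of_notMem _ _ hcon]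
    exact memLocalIdeal_zero
  have hdS : (d : G) ∈ Cen (Q ⊔ D.map H.subtype) := by
    rw [Subgroup.mem_centralizer_iff]
    intro u hu
    have hQc : Q ≤ Subgroup.centralizer ({(d : G)} : Set G) := by
      intro v hv
      rw [Subgroup.mem_centralizer_singleton_iff]
      exact Subgroup.mem_centralizer_iff.1 hdQ v hv
    have := (sup_le hQc hD'c) hu
    rwa [Subgroup.mem_centralizer_singleton_iff] at this
  have hSN : Q ⊔ D.map H.subtype ≤ Subgroup.normalizer (Q : Set G) :=
    sup_le Subgroup.le_normalizer (hD'H.trans hHN)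
  have hSst : ∀ x ∈ Q ⊔ D.map H.subtype, StabilizesBlock (Cen Q) f x := by
    obtain ⟨T, hT⟩ := exists_pairT (P := Q) hQf'.2
    have hle : Q ⊔ D.map H.subtype ≤ T := by
      refine sup_le (fun x hx => (hT x).2 ⟨Subgroup.le_normalizer hx, stabilizes_of_mem hx⟩) ?_
      intro x hx
      exact (hT x).2 ⟨hHN (hD'H hx), hHst x (hD'H hx)⟩
    intro x hx
    exact ((hT x).1 (hle hx)).2
  obtain ⟨g, hn⟩ := exists_normal_above hM hQf' hSp le_sup_left hSN hSst hdS hcoef
  have hSB := isBrauerPairOf_of_normal_up hM hn hQf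
  obtain ⟨y, hy⟩ := exists_conj_subpair hM hmax hSB
  refine ⟨y, Relation.ReflTransGen.trans (subpairLE_conj (Relation.ReflTransGen.single hn)) hy, ?_⟩
  exact (Subgroup.map_mono (le_sup_right)).trans (le_of_subpairLE hy)

theorem card_defect_eq (hM : IsPModular p M) {H : Type*} [Group H] [Fintype H] {b : Set (IrrCharacter H)}
    (hb : IsPBlock M b) {D D' : Subgroup H} (hD : IsDefectGroup p M b D) (hD' : IsDefectGroup p M b D') :
    Nat.card D = Nat.card D' := by
  rw [card_defect_group hM hb hD, card_defect_group hM hb hD']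

theorem card_subgroupOf_of_le {H R : Subgroup G} (h : R ≤ H) : Nat.card (R.subgroupOf H) = Nat.card R :=
  Nat.card_congr (Subgroup.subgroupOfEquivOfLe h).toEquiv

/-- **Final step**: transport gives a defect group inside `P`. -/
theorem isDefectGroup_of_conj (hM : IsPModular p M) (hmax : IsMaximalBrauerPair p M B P e)
    {H : Subgroup G} (hCH : Cen Q ≤ H) (hHN : H ≤ Subgroup.normalizer (Q : Set G))
    {b : Set (IrrCharacter H)} (hb : IsPBlock M b)
    (hc : ∀ t : H, blockCoeff b t = subgroupBlockCoeff (Cen Q) f (t : G)) {D : Subgroup H}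
    (hD : IsDefectGroup p M b D) {y : G} (hy : SubpairLE p M (cj y Q) (conjBlock Q y f) P e)
    (hyD : cj y (D.map H.subtype) ≤ P) {H' : Subgroup G} (φ : H ≃* H') (hφ : ∀ h : H, ((φ h : H') : G) = y * h * y⁻¹) :
    IsDefectGroup p M (mapBlock φ b) ((P ⊓ H').subgroupOf H') := by
  classical
  have hPe := (isBrauerPairOf_iff.1 hmax.1).1
  have hb' : IsPBlock M (mapBlock φ b) := isPBlock_mapBlock φ hb
  have hCH' : Cen (cj y Q) ≤ H' := by
    intro c' hc'
    have h1 : y⁻¹ * c' * y ∈ Cen Q := mem_cen_cj.1 hc'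
    have h2 := hφ ⟨_, hCH h1⟩
    have h3 : y * (y⁻¹ * c' * y) * y⁻¹ = c' := by group
    simp only at h2
    rw [h3] at h2
    rw [← h2]
    exact (φ _).2
  have hc' : ∀ t : H', blockCoeff (mapBlock φ b) t = subgroupBlockCoeff (Cen (cj y Q)) (conjBlock Q y f) (t : G) := by
    intro t'
    have h0 : t' = φ (φ.symm t') := by simp
    have h1 : blockCoeff (mapBlock φ b) t' = blockCoeff b (φ.symm t') := by
      conv_lhs => rw [h0]
      exact blockCoeff_mapBlock φ b _
    rw [h1, blockCoeff_eq_Ee hc, subgroupBlockCoeff_fun]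
    show _ = (Ee (cj y Q) (conjBlock Q y f)).coeff (t' : G)
    rw [Ee_conj, coeff_conjElt]
    congr 1
    have h2 := hφ (φ.symm t')
    rw [← h0] at h2
    rw [h2]
    group
  have hH'N : H' ≤ Subgroup.normalizer ((cj y Q : Subgroup G) : Set G) := by
    intro t' ht'
    have h0 := hφ (φ.symm ⟨t', ht'⟩)
    have h0' : ((φ (φ.symm ⟨t', ht'⟩) : H') : G) = t' := by simp
    rw [h0'] at h0
    rw [Subgroup.mem_normalizer_iff]
    intro u
    rw [mem_cj, mem_cj, h0]
    have hN := Subgroup.mem_normalizer_iff.1 (hHN (φ.symm ⟨t', ht'⟩).2) (y⁻¹ * u * y)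
    have e1 : y⁻¹ * (y * ((φ.symm ⟨t', ht'⟩ : H) : G) * y⁻¹ * u * (y * ((φ.symm ⟨t', ht'⟩ : H) : G) * y⁻¹)⁻¹) * y =
        ((φ.symm ⟨t', ht'⟩ : H) : G) * (y⁻¹ * u * y) * ((φ.symm ⟨t', ht'⟩ : H) : G)⁻¹ := by group
    rw [e1]
    exact hN
  obtain ⟨D₂, hD₂, hle₂⟩ := exists_defect_ge hM hPe hy hCH' hH'N hb' hc' (R := P ⊓ H') inf_le_left inf_le_right
  have hD₃ := isDefectGroup_mapBlock (p := p) φ hD
  have hcard : Nat.card D₂ = Nat.card D := by
    rw [card_defect_eq hM hb' hD₂ hD₃, Subgroup.card_map_of_injective φ.injective]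
  have hsub : cj y (D.map H.subtype) ≤ P ⊓ H' := by
    refine le_inf hyD ?_
    rintro _ ⟨_, ⟨u, hu, rfl⟩, rfl⟩
    have := hφ u
    simp only [Subgroup.subtype_apply, MulEquiv.coe_toMonoidHom, MulAut.conj_apply]
    rw [← this]
    exact (φ u).2
  have hcard2 : Nat.card D ≤ Nat.card ((P ⊓ H').subgroupOf H') := by
    rw [card_subgroupOf_of_le inf_le_right]
    have := Subgroup.card_le_of_le hsub
    rwa [card_cj, Subgroup.card_map_of_injective (Subgroup.subtype_injective _)] at this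
  have heq : (P ⊓ H').subgroupOf H' = D₂ := Subgroup.eq_of_le_of_card_ge hle₂ (by rw [hcard]; exact hcard2)
  rw [heq]
  exact hD₂

end Local

end Cfsg.Agent.Lib.BPair
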