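import Cfsg.Agent.Lib.BPair.RealOdd
import Cfsg.Agent.Lib.Block.Quick
import Cfsg.Agent.Lib.BPair.Defect

/-!
# Alperin–Dade: principal blocks for `G = N C_G(P)`
-/

set_option autoImplicit false
set_option linter.unusedSectionVars false
set_option linter.unusedSimpArgs false
set_option linter.unusedVariables false

open scoped ComplexConjugate
open Cfsg MonoidAlgebra
open Cfsg.Agent.Lib.Block Cfsg.Agent.Lib.Char Cfsg.Agent.Lib.CharExtra

namespace Cfsg.Agent.Lib.BPair

attribute [local instance] subFintype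

section Dual

variable (Q : Type*) [CommGroup Q] [Finite Q]

theorem neZero_exponent : NeZero (Monoid.exponent Q : ℂ) := by
  refine ⟨?_⟩
  have : Monoid.exponent Q ≠ 0 := Monoid.exponent_ne_zero_of_finite
  exact_mod_cast this

theorem card_dual : Nat.card (Q →* ℂˣ) = Nat.card Q := by
  haveI := neZero_exponent Q
  exact CommGroup.card_monoidHom_of_hasEnoughRootsOfUnity Q ℂ

theorem finite_dual : Finite (Q →* ℂˣ) :=
  Nat.finite_of_card_ne_zero (by rw [card_dual]; exact Nat.card_pos.ne')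

/-- The dual group is finite. -/
noncomputable def dualFintype : Fintype (Q →* ℂˣ) :=
  haveI := finite_dual Q
  Fintype.ofFinite _

attribute [local instance] dualFintype

variable {Q}

open Classical in
theorem sum_dual (q : Q) : ∑ l : Q →* ℂˣ, ((l q : ℂˣ) : ℂ) = if q = 1 then (Nat.card Q : ℂ) else 0 := by
  haveI := neZero_exponent Q
  by_cases hq : q = 1
  · rw [if_pos hq, hq]
    simp only [map_one, Units.val_one, Finset.sum_const, Finset.card_univ, nsmul_eq_mul, mul_one]
    rw [← Nat.card_eq_fintype_card, card_dual]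
  · rw [if_neg hq]
    obtain ⟨l₀, hl₀⟩ := CommGroup.exists_apply_ne_one_of_hasEnoughRootsOfUnity Q ℂ hq
    have h1 : ((l₀ q : ℂˣ) : ℂ) * ∑ l : Q →* ℂˣ, ((l q : ℂˣ) : ℂ) = ∑ l : Q →* ℂˣ, ((l q : ℂˣ) : ℂ) := by
      rw [Finset.mul_sum]
      refine Fintype.sum_equiv (Equiv.mulLeft l₀) _ _ fun l => ?_
      simp
    have h2 : ((l₀ q : ℂˣ) : ℂ) ≠ 1 := by
      intro h
      exact hl₀ (Units.ext h)
    have h3 : (((l₀ q : ℂˣ) : ℂ) - 1) * ∑ l : Q →* ℂˣ, ((l q : ℂˣ) : ℂ) = 0 := by
      rw [sub_mul, h1, one_mul, sub_self]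
    exact (mul_eq_zero.mp h3).resolve_left (sub_ne_zero.mpr h2)

end Dual

attribute [local instance] dualFintype

section Root

variable {M : Ideal AlgInt} {p : ℕ} [hp : Fact p.Prime]

/-- A `p'`-root of unity congruent to `1` is `1`. -/
theorem eq_one_of_memLocalIdeal_sub_one (hM : IsPModular p M) {m : ℕ} (hm : ¬ p ∣ m) {z : ℂ} (hz : z ^ m = 1)
    (hm0 : m ≠ 0) (h : MemLocalIdeal M (z - 1)) : z = 1 := by
  haveI := isPModular_isPrime hM
  by_contra hne
  have hint : MemLocalRing M z := by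
    refine memLocalRing_of_isIntegral ?_
    exact IsIntegral.of_pow (Nat.pos_of_ne_zero hm0) (hz ▸ isIntegral_one)
  have h0 : ∑ j ∈ Finset.range m, z ^ j = 0 := by
    have h1 := geom_sum_mul z m
    rw [hz, sub_self] at h1
    exact (mul_eq_zero.mp h1).resolve_right (sub_ne_zero.mpr hne)
  have h1 : ∀ j : ℕ, MemLocalIdeal M (z ^ j - 1) := by
    intro j
    have h2 := geom_sum_mul z j
    rw [← h2]
    exact memLocalIdeal_mul_left (memLocalRing_sum _ _ fun i _ => memLocalRing_pow hint i) h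
  have h2 : MemLocalIdeal M (∑ j ∈ Finset.range m, (z ^ j - 1)) := memLocalIdeal_sum _ _ fun j _ => h1 j
  rw [Finset.sum_sub_distrib, h0] at h2
  simp only [Finset.sum_const, Finset.card_range, nsmul_eq_mul, mul_one, zero_sub] at h2
  exact not_memLocalIdeal_natCast hM hm (by simpa using memLocalIdeal_neg h2)

end Root

section Filter

open Classical in
theorem blockCoeff_eq_sum_filter {G : Type*} [Group G] [Fintype G] (A : Set (IrrCharacter G)) (g : G) :
    blockCoeff A g = (Nat.card G : ℂ)⁻¹ * ∑ χ ∈ Finset.univ.filter (· ∈ A), (χ : G → ℂ) 1 * conj ((χ : G → ℂ) g) := by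
  rw [blockCoeff_eq_sum, Finset.sum_filter]

end Filter

section Step

variable {K : Type*} [Group K] [Fintype K] {Q : Type*} [CommGroup Q] [Finite Q]
variable {M : Ideal AlgInt} {p : ℕ} [hp : Fact p.Prime]

/-- The linear character of `K` attached to a character of `Q`. -/
noncomputable def linI (π : K →* Q) (l : Q →* ℂˣ) : IrrCharacter K :=
  ⟨fun g => ((l.comp π) g : ℂ), isIrrCharacter_of_hom _⟩

theorem card_ker_mul (π : K →* Q) (hπ : Function.Surjective π) : Nat.card π.ker * Nat.card Q = Nat.card K := by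
  rw [← Subgroup.card_mul_index π.ker, Subgroup.index_ker, MonoidHom.range_eq_top.mpr hπ, Nat.card_congr Subgroup.topEquiv.toEquiv]

/-- Restriction to the kernel, in terms of twists. -/
theorem inner_ker (π : K →* Q) (hπ : Function.Surjective π) (χ χ' : K → ℂ) :
    classInner (fun n : π.ker => χ n) (fun n : π.ker => χ' n) =
      ∑ l : Q →* ℂˣ, classInner (fun t => χ t * ((l (π t) : ℂˣ) : ℂ)) χ' := by
  classical
  have hK : (Nat.card K : ℂ) ≠ 0 := by
    have : Nat.card K ≠ 0 := Nat.card_pos.ne'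
    exact_mod_cast this
  have hQ : (Nat.card Q : ℂ) ≠ 0 := by
    have : Nat.card Q ≠ 0 := Nat.card_pos.ne'
    exact_mod_cast this
  have hN : (Nat.card π.ker : ℂ) ≠ 0 := by
    have : Nat.card π.ker ≠ 0 := Nat.card_pos.ne'
    exact_mod_cast this
  have hc : (Nat.card K : ℂ) = (Nat.card π.ker : ℂ) * (Nat.card Q : ℂ) := by
    rw [← card_ker_mul π hπ]
    push_cast
    rfl
  simp only [classInner_def]
  rw [← Finset.mul_sum]
  have h1 : ∑ l : Q →* ℂˣ, ∑ t, χ t * ((l (π t) : ℂˣ) : ℂ) * conj (χ' t) =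
      ∑ t, χ t * conj (χ' t) * (if π t = 1 then (Nat.card Q : ℂ) else 0) := by
    rw [Finset.sum_comm]
    refine Finset.sum_congr rfl fun t _ => ?_
    rw [← sum_dual, Finset.mul_sum]
    refine Finset.sum_congr rfl fun l _ => ?_
    ring
  rw [h1]
  have h2 : ∑ t, χ t * conj (χ' t) * (if π t = 1 then (Nat.card Q : ℂ) else 0) =
      ∑ n : π.ker, χ n * conj (χ' n) * (Nat.card Q : ℂ) := by
    rw [sum_eq_sum_subgroup π.ker]
    · refine Finset.sum_congr rfl fun n _ => ?_
      rw [if_pos (MonoidHom.mem_ker.mp n.2)]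
    · intro k hk
      rw [if_neg (fun h => hk (MonoidHom.mem_ker.mpr h)), mul_zero]
  rw [h2, ← Finset.sum_mul, hc]
  field_simp

variable (hM : IsPModular p M) (π : K →* Q) (hπ : Function.Surjective π) (hQ : ¬ p ∣ Nat.card Q)
  (hC : ∀ q : Q, ∃ x : K, π x = q ∧ ¬ p ∣ (Subgroup.centralizer ({x} : Set K)).index)

include hM hQ hC in
theorem linI_notMem (l : Q →* ℂˣ) (hl : l ≠ 1) : linI π l ∉ principalBlock M K := by
  haveI := isPModular_isPrime hM
  intro hmem
  obtain ⟨q, hq⟩ : ∃ q, l q ≠ 1 := by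
    by_contra hc
    push Not at hc
    exact hl (MonoidHom.ext fun q => by simpa using hc q)
  obtain ⟨x, rfl, hx⟩ := hC q
  have h1 : MemLocalIdeal M (centralChar (fun _ : K => (1 : ℂ)) x - centralChar (linI π l : K → ℂ) x) := hmem x
  have e : centralChar (fun _ : K => (1 : ℂ)) x - centralChar (linI π l : K → ℂ) x =
      (1 - ((l (π x) : ℂˣ) : ℂ)) * ((Subgroup.centralizer ({x} : Set K)).index : ℂ) := by
    unfold centralChar linI
    simp
    ring
  rw [e] at h1
  have h2 := memLocalIdeal_of_mul_unit (memLocalRing_natCast _) (not_memLocalIdeal_natCast hM hx) h1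
  have h3 : ((l (π x) : ℂˣ) : ℂ) ^ Nat.card Q = 1 := by
    rw [← Units.val_pow_eq_pow_val, ← map_pow, pow_card_eq_one', map_one, Units.val_one]
  have h4 := eq_one_of_memLocalIdeal_sub_one hM hQ h3 Nat.card_pos.ne'
    (by simpa using memLocalIdeal_neg h2)
  exact hq (Units.ext h4)

include hM hQ hC in
theorem twist_notMem (l : Q →* ℂˣ) (hl : l ≠ 1) {χ : IrrCharacter K} (hχ : χ ∈ principalBlock M K) :
    twistI (l.comp π) χ ∉ principalBlock M K := by
  haveI := isPModular_isPrime hM
  intro hmem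
  have h1 : SameBlock M (fun _ : K => (1 : ℂ)) (twistI (l.comp π) χ : K → ℂ) := hmem
  have h2 := sameBlock_twistI (l.comp π) (show SameBlock M ((oneIrr K : IrrCharacter K) : K → ℂ) (χ : K → ℂ) from hχ)
  have h3 : (twistI (l.comp π) (oneIrr K) : K → ℂ) = (linI π l : K → ℂ) := by
    funext g
    rw [twistI_apply]
    simp [linI, oneIrr]
  rw [h3] at h2
  exact linI_notMem hM π hQ hC l hl (sameBlock_trans h1 (sameBlock_symm h2))

include hM hQ hC in
theorem inner_twist_eq_zero (l : Q →* ℂˣ) (hl : l ≠ 1) {χ χ' : IrrCharacter K} (hχ : χ ∈ principalBlock M K)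
    (hχ' : χ' ∈ principalBlock M K) :
    classInner (fun t => (χ : K → ℂ) t * ((l (π t) : ℂˣ) : ℂ)) (χ' : K → ℂ) = 0 := by
  have h1 := twist_notMem hM π hQ hC l hl hχ
  refine classInner_irr_of_ne (twistI (l.comp π) χ).2 χ'.2 ?_
  intro h
  apply h1
  have : twistI (l.comp π) χ = χ' := Subtype.ext h
  rw [this]
  exact hχ'

include hM hπ hQ hC in
theorem inner_ker_principal {χ χ' : IrrCharacter K} (hχ : χ ∈ principalBlock M K) (hχ' : χ' ∈ principalBlock M K) :
    classInner (fun n : π.ker => (χ : K → ℂ) n) (fun n : π.ker => (χ' : K → ℂ) n) =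
      classInner (χ : K → ℂ) (χ' : K → ℂ) := by
  classical
  rw [inner_ker π hπ, Finset.sum_eq_single (1 : Q →* ℂˣ)]
  · simp
  · intro l _ hl
    exact inner_twist_eq_zero hM π hQ hC l hl hχ hχ'
  · simp

include hM hπ hQ hC in
theorem restrict_isIrr {χ : IrrCharacter K} (hχ : χ ∈ principalBlock M K) :
    IsIrrCharacter π.ker (fun n : π.ker => (χ : K → ℂ) n) := by
  refine isIrr_of_character_norm_one (IsCharacter.restrict _ (IsIrrCharacter.isCharacter χ.2)) ?_
  rw [inner_ker_principal hM π hπ hQ hC hχ hχ, classInner_irr_self χ.2]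

include hM hπ hQ hC in
theorem restrict_inj {χ χ' : IrrCharacter K} (hχ : χ ∈ principalBlock M K) (hχ' : χ' ∈ principalBlock M K)
    (h : ∀ n ∈ π.ker, (χ : K → ℂ) n = (χ' : K → ℂ) n) : χ = χ' := by
  have h1 := inner_ker_principal hM π hπ hQ hC hχ hχ'
  have h2 : (fun n : π.ker => (χ' : K → ℂ) n) = fun n : π.ker => (χ : K → ℂ) n := by
    funext n
    exact (h n n.2).symm
  rw [h2, classInner_irr_self (restrict_isIrr hM π hπ hQ hC hχ)] at h1
  by_contra hne
  rw [classInner_irr_of_ne χ.2 χ'.2 (fun h3 => hne (Subtype.ext h3))] at h1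
  exact one_ne_zero h1

include hM in
theorem restrict_mem {χ : IrrCharacter K} (hχ : χ ∈ principalBlock M K) {θ : IrrCharacter π.ker}
    (h : ∀ n : π.ker, (χ : K → ℂ) n = (θ : π.ker → ℂ) n) : θ ∈ principalBlock M π.ker := by
  classical
  haveI := isPModular_isPrime hM
  have hU : IsBlockUnion M (principalBlock M π.ker) := isBlockUnion_of_isPBlock ⟨oneIrr π.ker, rfl⟩
  have h1 : oneIrr K ∈ overSet π.ker (principalBlock M π.ker) :=
    principal_subset_over π.ker hM (oneIrr_mem_principalBlock)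
  have h2 : classInner (fun n : π.ker => (χ : K → ℂ) n) (θ : π.ker → ℂ) ≠ 0 := by
    have : (fun n : π.ker => (χ : K → ℂ) n) = θ := funext h
    rw [this, classInner_irr_self θ.2]
    exact one_ne_zero
  exact constituent_mem_of_sameBlock π.ker (isStable_principal π.ker) hU (χ := oneIrr K) (χ' := χ) hχ h1 h2

include hM hπ hQ hC in
/-- Every member of the principal block of the kernel extends into the principal block. -/
theorem exists_extension {θ : IrrCharacter π.ker} (hθ : θ ∈ principalBlock M π.ker) :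
    ∃ χ ∈ principalBlock M K, ∀ n : π.ker, (χ : K → ℂ) n = (θ : π.ker → ℂ) n := by
  classical
  haveI := isPModular_isPrime hM
  -- the restriction map on the principal block
  let r : IrrCharacter K → IrrCharacter π.ker := fun χ =>
    if h : χ ∈ principalBlock M K then ⟨_, restrict_isIrr hM π hπ hQ hC h⟩ else oneIrr _
  have hr : ∀ χ (h : χ ∈ principalBlock M K) (n : π.ker), (r χ : π.ker → ℂ) n = (χ : K → ℂ) n := by
    intro χ h n
    simp only [r, dif_pos h]
  let B₀ : Finset (IrrCharacter K) := Finset.univ.filter (· ∈ principalBlock M K)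
  let A : Set (IrrCharacter π.ker) := {θ | ∃ χ ∈ principalBlock M K, r χ = θ}
  have hinj : Set.InjOn r (B₀ : Set (IrrCharacter K)) := by
    intro a ha b hb hab
    have ha' : a ∈ principalBlock M K := (Finset.mem_filter.mp ha).2
    have hb' : b ∈ principalBlock M K := (Finset.mem_filter.mp hb).2
    refine restrict_inj hM π hπ hQ hC ha' hb' fun n hn => ?_
    have h1 := hr a ha' ⟨n, hn⟩
    have h2 := hr b hb' ⟨n, hn⟩
    rw [hab] at h1
    exact h1.symm.trans h2
  have hcoeff : ∀ n : π.ker, blockCoeff A n = (Nat.card Q : ℂ) * blockCoeff (principalBlock M K) n := by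
    intro n
    rw [blockCoeff_eq_sum_filter, blockCoeff_eq_sum_filter]
    have key : ∀ s : Finset (IrrCharacter π.ker), (∀ θ', θ' ∈ s ↔ θ' ∈ A) →
        ∑ χ ∈ s, (χ : π.ker → ℂ) 1 * conj ((χ : π.ker → ℂ) n) =
          ∑ χ ∈ B₀, (r χ : π.ker → ℂ) 1 * conj ((r χ : π.ker → ℂ) n) := by
      intro s hs
      have h2 : s = B₀.image r := by
        ext θ'
        rw [hs]
        simp only [Finset.mem_image, A, Set.mem_setOf_eq, B₀, Finset.mem_filter, Finset.mem_univ, true_and]
      rw [h2, Finset.sum_image hinj]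
    have key2 : ∀ s : Finset (IrrCharacter K), (∀ θ', θ' ∈ s ↔ θ' ∈ principalBlock M K) →
        ∑ χ ∈ s, (χ : K → ℂ) 1 * conj ((χ : K → ℂ) n) = ∑ χ ∈ B₀, (χ : K → ℂ) 1 * conj ((χ : K → ℂ) n) := by
      intro s hs
      have h2 : s = B₀ := by
        ext θ'
        rw [hs]
        simp only [B₀, Finset.mem_filter, Finset.mem_univ, true_and]
      rw [h2]
    rw [key _ (fun θ' => by simp only [Finset.mem_filter, Finset.mem_univ, true_and]),
      key2 _ (fun θ' => by simp only [Finset.mem_filter, Finset.mem_univ, true_and])]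
    have h4 : ∑ χ ∈ B₀, (r χ : π.ker → ℂ) 1 * conj ((r χ : π.ker → ℂ) n) =
        ∑ χ ∈ B₀, (χ : K → ℂ) 1 * conj ((χ : K → ℂ) n) := by
      refine Finset.sum_congr rfl fun χ hχ => ?_
      have hχ' : χ ∈ principalBlock M K := (Finset.mem_filter.mp hχ).2
      rw [hr χ hχ', hr χ hχ']
      rfl
    rw [h4, ← mul_assoc]
    congr 1
    have hKc : (Nat.card K : ℂ) = (Nat.card π.ker : ℂ) * (Nat.card Q : ℂ) := by
      rw [← card_ker_mul π hπ]
      push_cast
      rfl
    have hQ0 : (Nat.card Q : ℂ) ≠ 0 := by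
      have : Nat.card Q ≠ 0 := Nat.card_pos.ne'
      exact_mod_cast this
    have hN0 : (Nat.card π.ker : ℂ) ≠ 0 := by
      have : Nat.card π.ker ≠ 0 := Nat.card_pos.ne'
      exact_mod_cast this
    rw [hKc]
    field_simp
  have hU0 : IsBlockUnion M (principalBlock M K) := isBlockUnion_of_isPBlock ⟨oneIrr K, rfl⟩
  have hloc : LocalCoeff M (blockElt A) := by
    intro n
    rw [coeff_blockElt, hcoeff]
    exact memLocalRing_mul (memLocalRing_natCast _) (memLocalRing_blockCoeff hU0 _)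
  have hA : IsBlockUnion M A := isBlockUnion_of_localCoeff hloc
  have hone : oneIrr π.ker ∈ A := by
    refine ⟨oneIrr K, oneIrr_mem_principalBlock, ?_⟩
    apply Subtype.ext
    funext n
    rw [hr _ oneIrr_mem_principalBlock n]
    rfl
  have hθA : θ ∈ A := by
    by_contra hc
    exact hA _ hone θ hc hθ
  obtain ⟨χ, hχ, rfl⟩ := hθA
  exact ⟨χ, hχ, fun n => (hr χ hχ n).symm⟩

include hM hπ hQ hC in
/-- The norm over a coset of the kernel. -/
theorem coset_norm {χ : IrrCharacter K} (hχ : χ ∈ principalBlock M K) (q : Q) :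
    ∑ t, (open Classical in if π t = q then (χ : K → ℂ) t * conj ((χ : K → ℂ) t) else 0) = (Nat.card π.ker : ℂ) := by
  classical
  have hQ0 : (Nat.card Q : ℂ) ≠ 0 := by
    have : Nat.card Q ≠ 0 := Nat.card_pos.ne'
    exact_mod_cast this
  have hK0 : (Nat.card K : ℂ) ≠ 0 := by
    have : Nat.card K ≠ 0 := Nat.card_pos.ne'
    exact_mod_cast this
  have hKc : (Nat.card K : ℂ) = (Nat.card π.ker : ℂ) * (Nat.card Q : ℂ) := by
    rw [← card_ker_mul π hπ]
    push_cast
    rfl
  have h1 : (Nat.card Q : ℂ) * ∑ t, (if π t = q then (χ : K → ℂ) t * conj ((χ : K → ℂ) t) else 0) =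
      ∑ l : Q →* ℂˣ, (((l q)⁻¹ : ℂˣ) : ℂ) * ∑ t, (χ : K → ℂ) t * ((l (π t) : ℂˣ) : ℂ) * conj ((χ : K → ℂ) t) := by
    simp only [Finset.mul_sum]
    rw [Finset.sum_comm]
    refine Finset.sum_congr rfl fun t _ => ?_
    have h3 := sum_dual (π t * q⁻¹)
    have h4 : (if π t * q⁻¹ = 1 then (Nat.card Q : ℂ) else 0) * ((χ : K → ℂ) t * conj ((χ : K → ℂ) t)) =
        (Nat.card Q : ℂ) * (if π t = q then (χ : K → ℂ) t * conj ((χ : K → ℂ) t) else 0) := by
      by_cases h : π t = q
      · rw [if_pos (by rw [h, mul_inv_cancel]), if_pos h]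
      · rw [if_neg (fun h' => h (mul_inv_eq_one.mp h')), if_neg h]
        ring
    rw [← h4, ← h3, Finset.sum_mul]
    refine Finset.sum_congr rfl fun l _ => ?_
    simp only [map_mul, map_inv, Units.val_mul]
    ring
  have h2 : ∀ l : Q →* ℂˣ, ∑ t, (χ : K → ℂ) t * ((l (π t) : ℂˣ) : ℂ) * conj ((χ : K → ℂ) t) =
      (Nat.card K : ℂ) * classInner (fun t => (χ : K → ℂ) t * ((l (π t) : ℂˣ) : ℂ)) (χ : K → ℂ) := by
    intro l
    rw [classInner_def, ← mul_assoc, mul_inv_cancel₀ hK0, one_mul]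
  simp only [h2] at h1
  rw [Finset.sum_eq_single (1 : Q →* ℂˣ)] at h1
  · have h5 : classInner (fun t => (χ : K → ℂ) t * (((1 : Q →* ℂˣ) (π t) : ℂˣ) : ℂ)) (χ : K → ℂ) = 1 := by
      simp only [MonoidHom.one_apply, Units.val_one, mul_one]
      exact classInner_irr_self χ.2
    rw [h5] at h1
    simp only [MonoidHom.one_apply, inv_one, Units.val_one, one_mul, mul_one] at h1
    rw [hKc, mul_comm (Nat.card π.ker : ℂ)] at h1
    exact mul_left_cancel₀ hQ0 h1
  · intro l _ hl
    rw [inner_twist_eq_zero hM π hQ hC l hl hχ hχ]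
    simp
  · simp

end Step

section Ambient

open scoped commutatorElement

universe u

variable {G : Type u} [Group G] [Fintype G] {M : Ideal AlgInt} {p : ℕ} [hp : Fact p.Prime]

theorem sameBlock_mapIrr_iff {H K : Type*} [Group H] [Group K] [Fintype H] [Fintype K] (φ : H ≃* K) {χ ψ : IrrCharacter H} :
    SameBlock M (mapIrr φ χ : K → ℂ) (mapIrr φ ψ : K → ℂ) ↔ SameBlock M (χ : H → ℂ) (ψ : H → ℂ) := by
  constructor
  · intro h d
    have := h (φ d)
    rwa [centralChar_mapIrr, centralChar_mapIrr] at this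
  · intro h g
    obtain ⟨d, rfl⟩ := φ.surjective g
    rw [centralChar_mapIrr, centralChar_mapIrr]
    exact h d

theorem mapIrr_oneIrr {H K : Type*} [Group H] [Group K] (φ : H ≃* K) : mapIrr φ (oneIrr H) = oneIrr K := by
  apply Subtype.ext
  funext v
  rfl

theorem mapIrr_mem_principal {H K : Type*} [Group H] [Group K] [Fintype H] [Fintype K] (φ : H ≃* K) {θ : IrrCharacter H} :
    mapIrr φ θ ∈ principalBlock M K ↔ θ ∈ principalBlock M H := by
  have h := sameBlock_mapIrr_iff (M := M) φ (χ := oneIrr H) (ψ := θ)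
  rw [mapIrr_oneIrr] at h
  exact h

/-- The principal blocks of `L ≤ T` correspond under restriction. -/
def ExtRel (M : Ideal AlgInt) (L T : Subgroup G) (h : L ≤ T) : Prop :=
  (∀ θ ∈ principalBlock M L, ∃ χ ∈ principalBlock M T, ∀ n : L, (χ : T → ℂ) (Subgroup.inclusion h n) = (θ : L → ℂ) n) ∧
  (∀ χ ∈ principalBlock M T, ∃ θ ∈ principalBlock M L, ∀ n : L, (χ : T → ℂ) (Subgroup.inclusion h n) = (θ : L → ℂ) n)

theorem ExtRel.refl (L : Subgroup G) (h : L ≤ L) : ExtRel M L L h := by
  have e : ∀ n : L, Subgroup.inclusion h n = n := fun n => Subtype.ext rfl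
  refine ⟨fun θ hθ => ⟨θ, hθ, fun n => by rw [e]⟩, fun χ hχ => ⟨χ, hχ, fun n => by rw [e]⟩⟩

theorem ExtRel.trans {L T U : Subgroup G} {h₁ : L ≤ T} {h₂ : T ≤ U} (H₁ : ExtRel M L T h₁) (H₂ : ExtRel M T U h₂)
    (h₃ : L ≤ U) : ExtRel M L U h₃ := by
  have e : ∀ n : L, Subgroup.inclusion h₃ n = Subgroup.inclusion h₂ (Subgroup.inclusion h₁ n) := fun n => Subtype.ext rfl
  refine ⟨fun θ hθ => ?_, fun χ hχ => ?_⟩
  · obtain ⟨χ₁, h1, h2⟩ := H₁.1 θ hθ
    obtain ⟨χ₂, h3, h4⟩ := H₂.1 χ₁ h1
    exact ⟨χ₂, h3, fun n => by rw [e, h4, h2]⟩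
  · obtain ⟨χ₁, h1, h2⟩ := H₂.2 χ hχ
    obtain ⟨χ₂, h3, h4⟩ := H₁.2 χ₁ h1
    exact ⟨χ₂, h3, fun n => by rw [e, h2, h4]⟩

/-- The data for the abelian step. -/
theorem abelian_setup (L T : Subgroup G) (hLT : L ≤ T) (hcomm : ⁅T, T⁆ ≤ L) (P : Subgroup G)
    (hPL : P ≤ L) (hPi : ¬ p ∣ P.index)
    (hdec : ∀ t ∈ T, ∃ n ∈ L, ∃ c ∈ Subgroup.centralizer (P : Set G), t = n * c) :
    ∃ (Q : Type u) (_ : CommGroup Q) (_ : Finite Q) (π : T →* Q), Function.Surjective π ∧ ¬ p ∣ Nat.card Q ∧
      (∀ q, ∃ x : T, π x = q ∧ ¬ p ∣ (Subgroup.centralizer ({x} : Set T)).index) ∧ ∀ t : T, π t = 1 ↔ (t : G) ∈ L := by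
  classical
  haveI hK₀ : (L.subgroupOf T).Normal := by
    refine ⟨fun a ha b => ?_⟩
    rw [Subgroup.mem_subgroupOf] at ha ⊢
    have h1 : ⁅(b : G), (a : G)⁆ ∈ L := hcomm (Subgroup.commutator_mem_commutator b.2 a.2)
    have h2 : ((b * a * b⁻¹ : T) : G) = ⁅(b : G), (a : G)⁆ * a := by
      simp [commutatorElement_def]
    rw [h2]
    exact L.mul_mem h1 ha
  let π : T →* Abelianization (T ⧸ L.subgroupOf T) := (Abelianization.of).comp (QuotientGroup.mk' _)
  have hπ : Function.Surjective π := by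
    intro q
    obtain ⟨r, rfl⟩ := QuotientGroup.mk'_surjective (commutator (T ⧸ L.subgroupOf T)) q
    obtain ⟨g, rfl⟩ := QuotientGroup.mk'_surjective (L.subgroupOf T) r
    exact ⟨g, rfl⟩
  have hab : ∀ a b : T ⧸ L.subgroupOf T, a * b = b * a := by
    intro a b
    obtain ⟨a, rfl⟩ := QuotientGroup.mk'_surjective (L.subgroupOf T) a
    obtain ⟨b, rfl⟩ := QuotientGroup.mk'_surjective (L.subgroupOf T) b
    rw [← map_mul, ← map_mul]
    refine QuotientGroup.eq.mpr ?_
    rw [Subgroup.mem_subgroupOf]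
    have h1 : ⁅(b⁻¹ : G), (a⁻¹ : G)⁆ ∈ L := by
      have := hcomm (Subgroup.commutator_mem_commutator (b⁻¹ : T).2 (a⁻¹ : T).2)
      simpa using this
    have h2 : (((a * b)⁻¹ * (b * a) : T) : G) = ⁅(b⁻¹ : G), (a⁻¹ : G)⁆ := by
      simp [commutatorElement_def, mul_assoc]
    rw [h2]
    exact h1
  have hker : ∀ t : T, π t = 1 ↔ (t : G) ∈ L := by
    intro t
    constructor
    · intro h
      have h1 : (QuotientGroup.mk' (L.subgroupOf T)) t ∈ commutator (T ⧸ L.subgroupOf T) :=
        (QuotientGroup.eq_one_iff _).mp h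
      have h2 : commutator (T ⧸ L.subgroupOf T) = ⊥ := by
        rw [commutator_def, Subgroup.commutator_eq_bot_iff_le_centralizer]
        intro a _ 
        rw [Subgroup.mem_centralizer_iff]
        intro b _
        exact hab b a
      rw [h2, Subgroup.mem_bot] at h1
      have h3 := (QuotientGroup.eq_one_iff _).mp h1
      exact Subgroup.mem_subgroupOf.mp h3
    · intro h
      have h1 : (QuotientGroup.mk' (L.subgroupOf T)) t = 1 :=
        (QuotientGroup.eq_one_iff _).mpr (Subgroup.mem_subgroupOf.mpr h)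
      show Abelianization.of ((QuotientGroup.mk' (L.subgroupOf T)) t) = 1
      rw [h1, map_one]
  have hQ : ¬ p ∣ Nat.card (Abelianization (T ⧸ L.subgroupOf T)) := by
    intro hd
    have h1 : Nat.card (Abelianization (T ⧸ L.subgroupOf T)) ∣ Nat.card (T ⧸ L.subgroupOf T) :=
      Subgroup.card_quotient_dvd_card _
    have h2 : Nat.card (T ⧸ L.subgroupOf T) = L.relIndex T := rfl
    have h3 : L.relIndex T ∣ P.index := by
      have h4 := Subgroup.relIndex_mul_relIndex P L T hPL hLT
      have h5 := Subgroup.relIndex_mul_index (hPL.trans hLT)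
      rw [← h5, ← h4]
      exact Dvd.dvd.mul_right (Dvd.intro_left _ rfl) _
    exact hPi (hd.trans (h1.trans (h2 ▸ h3)))
  have hC : ∀ q, ∃ x : T, π x = q ∧ ¬ p ∣ (Subgroup.centralizer ({x} : Set T)).index := by
    intro q
    obtain ⟨t, rfl⟩ := hπ q
    obtain ⟨n, hn, c, hc, hnc⟩ := hdec t t.2
    have hcT : c ∈ T := by
      have : c = n⁻¹ * t := by rw [hnc]; group
      rw [this]
      exact T.mul_mem (T.inv_mem (hLT hn)) t.2
    refine ⟨⟨c, hcT⟩, ?_, ?_⟩
    · have h1 : t = (⟨n, hLT hn⟩ : T) * ⟨c, hcT⟩ := Subtype.ext hnc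
      conv_rhs => rw [h1]
      rw [map_mul, (hker ⟨n, hLT hn⟩).mpr hn, one_mul]
    · intro hd
      have h1 : P.subgroupOf T ≤ Subgroup.centralizer ({(⟨c, hcT⟩ : T)} : Set T) := by
        intro y hy
        rw [Subgroup.mem_centralizer_singleton_iff]
        apply Subtype.ext
        have h2 := Subgroup.mem_centralizer_iff.mp hc y (Subgroup.mem_subgroupOf.mp hy)
        exact h2
      have h2 := Subgroup.index_dvd_of_le h1
      have h3 : (P.subgroupOf T).index ∣ P.index := by
        have h5 := Subgroup.relIndex_mul_index (hPL.trans hLT)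
        rw [← h5]
        exact Dvd.intro _ rfl
      exact hPi (hd.trans (h2.trans h3))
  haveI : Finite (Abelianization (T ⧸ L.subgroupOf T)) :=
    inferInstanceAs (Finite ((T ⧸ L.subgroupOf T) ⧸ commutator (T ⧸ L.subgroupOf T)))
  exact ⟨_, inferInstance, inferInstance, π, hπ, hQ, hC, hker⟩

/-- The abelian step. -/
theorem extRel_of_abelian (hM : IsPModular p M) (L T : Subgroup G) (hLT : L ≤ T) (hcomm : ⁅T, T⁆ ≤ L) (P : Subgroup G)
    (hPL : P ≤ L) (hPi : ¬ p ∣ P.index)
    (hdec : ∀ t ∈ T, ∃ n ∈ L, ∃ c ∈ Subgroup.centralizer (P : Set G), t = n * c) : ExtRel M L T hLT := by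
  classical
  haveI := isPModular_isPrime hM
  obtain ⟨Q, _, _, π, hπ, hQ, hC, hker⟩ := abelian_setup (p := p) L T hLT hcomm P hPL hPi hdec
  let φ₀ : L →* π.ker :=
    { toFun := fun n => ⟨Subgroup.inclusion hLT n, (hker _).mpr n.2⟩
      map_one' := rfl
      map_mul' := fun a b => rfl }
  let φ : L ≃* π.ker := MulEquiv.ofBijective φ₀
    (by
      constructor
      · intro a b hab'
        have := congrArg (fun x : π.ker => ((x : T) : G)) hab'
        exact Subtype.ext this
      · intro b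
        exact ⟨⟨b.1, (hker _).mp b.2⟩, rfl⟩)
  have hφ : ∀ n : L, ((φ n : π.ker) : T) = Subgroup.inclusion hLT n := fun n => rfl
  refine ⟨fun θ hθ => ?_, fun χ hχ => ?_⟩
  · obtain ⟨χ, h1, h2⟩ := exists_extension hM π hπ hQ hC ((mapIrr_mem_principal φ).mpr hθ)
    refine ⟨χ, h1, fun n => ?_⟩
    have h3 := h2 (φ n)
    rw [mapIrr_apply] at h3
    exact h3
  · have h1 := restrict_isIrr hM π hπ hQ hC hχ
    let θ' : IrrCharacter π.ker := ⟨_, h1⟩
    have h2 : θ' ∈ principalBlock M π.ker := restrict_mem hM π hχ (fun n => rfl)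
    refine ⟨mapIrr φ.symm θ', (mapIrr_mem_principal φ.symm).mpr h2, fun n => ?_⟩
    rw [mapIrr_apply']
    simp [θ']
    rfl

variable (N : Subgroup G) [hN : N.Normal] (P : Subgroup G) 

/-- The solvable case. -/
theorem extRel_of_solvable (hM : IsPModular p M) (hPN : P ≤ N) (hPi : ¬ p ∣ P.index)
    (hdec : ∀ g : G, ∃ n ∈ N, ∃ c ∈ Subgroup.centralizer (P : Set G), g = n * c) (k : ℕ) :
    ∀ (T : Subgroup G) (hNT : N ≤ T), Nat.card T ≤ k → Group.IsSolvable (T.map (QuotientGroup.mk' N)) → ExtRel M N T hNT := by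
  induction k with
  | zero =>
    intro T hNT hc _
    have : Nat.card T ≠ 0 := Nat.card_pos.ne'
    omega
  | succ k ih =>
    intro T hNT hc hs
    let L : Subgroup G := N ⊔ ⁅T, T⁆
    haveI := hs
    have hLT : L ≤ T := sup_le hNT (Subgroup.commutator_le.mpr fun a ha b hb =>
      T.mul_mem (T.mul_mem (T.mul_mem ha hb) (T.inv_mem ha)) (T.inv_mem hb))
    have hNL : N ≤ L := le_sup_left
    have hmap : L.map (QuotientGroup.mk' N) = ⁅T.map (QuotientGroup.mk' N), T.map (QuotientGroup.mk' N)⁆ := by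
      rw [Subgroup.map_sup, Subgroup.map_commutator]
      have : N.map (QuotientGroup.mk' N) = ⊥ := by
        rw [Subgroup.map_eq_bot_iff, QuotientGroup.ker_mk']
      rw [this, bot_sup_eq]
    by_cases hLe : L = T
    · -- perfect solvable quotient
      have h1 : ⁅T.map (QuotientGroup.mk' N), T.map (QuotientGroup.mk' N)⁆ = T.map (QuotientGroup.mk' N) := by
        rw [← hmap, hLe]
      have h2 : commutator (T.map (QuotientGroup.mk' N)) = ⊤ := by
        have h3 : (commutator (T.map (QuotientGroup.mk' N))).map (T.map (QuotientGroup.mk' N)).subtype =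
            (⊤ : Subgroup (T.map (QuotientGroup.mk' N))).map (T.map (QuotientGroup.mk' N)).subtype := by
          rw [commutator_def, Subgroup.map_commutator, ← MonoidHom.range_eq_map, Subgroup.range_subtype, h1]
        exact Subgroup.map_injective (Subgroup.subtype_injective _) h3
      have h4 : ¬ Nontrivial (T.map (QuotientGroup.mk' N)) := by
        intro hnt
        have := IsSolvable.commutator_lt_top_of_nontrivial (T.map (QuotientGroup.mk' N))
        rw [h2] at this
        exact lt_irrefl _ this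
      have h5 : T ≤ N := by
        intro t ht
        by_contra hn
        apply h4
        refine ⟨⟨⟨(t : G ⧸ N), t, ht, rfl⟩, 1, ?_⟩⟩
        intro h
        have := congrArg Subtype.val h
        exact hn ((QuotientGroup.eq_one_iff t).mp this)
      have h6 : T = N := le_antisymm h5 hNT
      subst h6
      exact ExtRel.refl _ _
    · have hlt : L < T := lt_of_le_of_ne hLT hLe
      have hcard : Nat.card L < Nat.card T := by
        have h := Set.ncard_lt_ncard (SetLike.coe_ssubset_coe.mpr hlt) (Set.toFinite _)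
        rw [← Nat.card_coe_set_eq, ← Nat.card_coe_set_eq] at h
        exact h
      have hsL : Group.IsSolvable (L.map (QuotientGroup.mk' N)) := by
        have hle : L.map (QuotientGroup.mk' N) ≤ T.map (QuotientGroup.mk' N) := Subgroup.map_mono hLT
        exact solvable_of_solvable_injective (Subgroup.inclusion_injective hle)
      have h1 := ih L hNL (by omega) hsL
      have h2 : ExtRel M L T hLT := by
        refine extRel_of_abelian hM L T hLT le_sup_right P (hPN.trans hNL) hPi ?_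
        intro t ht
        obtain ⟨n, hn, c, hc', e⟩ := hdec t
        exact ⟨n, hNL hn, c, hc', e⟩
      exact h1.trans h2 hNT

end Ambient

end Cfsg.Agent.Lib.BPair
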