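import Cfsg.Agent.Lib.BPair.AlperinDade
import Cfsg.Agent.Lib.Char.QuasiPrim
import Cfsg.Agent.Lib.Degree.Inflate

/-!
# Alperin–Dade: the general case (via Brauer's characterization)
-/

set_option autoImplicit false
set_option linter.unusedSectionVars false
set_option linter.unusedSimpArgs false
set_option linter.unusedVariables false

open scoped ComplexConjugate
open Cfsg MonoidAlgebra
open Cfsg.Agent.Lib.Block Cfsg.Agent.Lib.Char Cfsg.Agent.Lib.CharExtra

namespace Cfsg.Agent.Lib.BPair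

attribute [local instance] subFintype

open scoped commutatorElement

universe u

section Basic

variable {X : Type*} [Group X] [Fintype X] {M : Ideal AlgInt} {p : ℕ} [hp : Fact p.Prime]

theorem principal_ratio (hM : IsPModular p M) {χ : IrrCharacter X} (hχ : χ ∈ principalBlock M X) {x : X}
    (hx : ¬ p ∣ (Subgroup.centralizer ({x} : Set X)).index) :
    MemLocalIdeal M ((χ : X → ℂ) x / (χ : X → ℂ) 1 - 1) := by
  haveI := isPModular_isPrime hM
  have h1 : MemLocalIdeal M (centralChar (fun _ : X => (1 : ℂ)) x - centralChar (χ : X → ℂ) x) := hχ x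
  have e : centralChar (fun _ : X => (1 : ℂ)) x - centralChar (χ : X → ℂ) x =
      (-((χ : X → ℂ) x / (χ : X → ℂ) 1 - 1)) * ((Subgroup.centralizer ({x} : Set X)).index : ℂ) := by
    unfold centralChar
    simp only [mul_one, div_one]
    ring
  rw [e] at h1
  have h2 := memLocalIdeal_of_mul_unit (memLocalRing_natCast _) (not_memLocalIdeal_natCast hM hx) h1
  simpa using memLocalIdeal_neg h2

/-- Two extensions of an irreducible character differ by a linear character. -/
theorem exists_linear_of_two_ext (K : Subgroup X) [hK : K.Normal] (ζ ζ' : IrrCharacter X)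
    (hag : ∀ k : K, (ζ : X → ℂ) k = (ζ' : X → ℂ) k) (hirr : IsIrrCharacter K fun k : K => (ζ : X → ℂ) k) :
    ∃ lam : X →* ℂˣ, (∀ k ∈ K, lam k = 1) ∧ ∀ t, (ζ' : X → ℂ) t = (lam t : ℂ) * (ζ : X → ℂ) t := by
  classical
  let φ : K → ℂ := fun _ => 1
  have hφ : IsIrrCharacter K φ := isIrrCharacter_one
  have hφinv : ∀ g, conjFn hK g φ = φ := fun g => rfl
  let ϑ : K → ℂ := fun k => (ζ : X → ℂ) k
  have hprod0 : φ * ϑ = ϑ := by
    funext n
    simp [φ]
  have hprod : IsIrrCharacter K (φ * ϑ) := by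
    rw [hprod0]
    exact hirr
  have hB := gallagher_bijOn K hφ hirr hφinv hprod ζ.2 (fun n => rfl)
  have hψ : (ζ' : X → ℂ) ∈ {ψ : X → ℂ | IsIrrCharacter X ψ ∧ classInner (indFun K (φ * ϑ)) ψ ≠ 0} := by
    refine ⟨ζ'.2, ?_⟩
    rw [frobenius_reciprocity K _ _ (IsCharacter.isClassFunction (IsIrrCharacter.isCharacter ζ'.2))]
    have h1 : (fun n : K => (ζ' : X → ℂ) n) = ϑ := by
      funext n
      exact (hag n).symm
    rw [h1, hprod0, classInner_irr_self hirr]
    exact one_ne_zero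
  obtain ⟨β, ⟨hβ, hβi⟩, hβη⟩ := hB.surjOn hψ
  have hβη' : ∀ g, β g * (ζ : X → ℂ) g = (ζ' : X → ℂ) g := fun g => congrFun hβη g
  have hβ1 : β 1 = 1 := by
    have h1 := hβη' 1
    have h2 : (ζ : X → ℂ) 1 = (ζ' : X → ℂ) 1 := hag 1
    rw [← h2] at h1
    exact mul_right_cancel₀ (isIrr_one_ne_zero ζ.2) (h1.trans (one_mul _).symm)
  obtain ⟨lam, hlam⟩ := exists_hom_of_character_one (IsIrrCharacter.isCharacter hβ) hβ1
  have hβlam : ∀ g, β g = (lam g : ℂ) := fun g => congrFun hlam g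
  refine ⟨lam, ?_, fun t => by rw [← hβη', hβlam]⟩
  rw [frobenius_reciprocity K _ _ (IsCharacter.isClassFunction (IsIrrCharacter.isCharacter hβ))] at hβi
  have h1 : classInner (fun n : K => β n) φ ≠ 0 := by
    rw [← conj_classInner]
    exact (map_ne_zero _).mpr hβi
  have h2 := clifford_invariant hK hβ hφ hφinv h1
  have h3 : classInner (fun n : K => β n) φ = 1 := by
    have := congrFun h2 1
    simp only [Pi.smul_apply, smul_eq_mul, φ, mul_one, OneMemClass.coe_one] at this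
    rw [← this, hβ1]
  intro n hn
  have h4 := congrFun h2 ⟨n, hn⟩
  rw [h3] at h4
  simp only [one_smul, φ] at h4
  rw [hβlam] at h4
  exact Units.ext h4

/-- Elementary groups are solvable. -/
theorem isSolvable_of_isElementary {E : Type*} [Group E] [Finite E] {q : ℕ} (hq : q.Prime) (h : IsElementary q E) :
    Group.IsSolvable E := by
  obtain ⟨x, hx, _, k, hk⟩ := h
  haveI : Fact q.Prime := ⟨hq⟩
  haveI : (Subgroup.zpowers x).Normal := by
    refine ⟨fun a ha b => ?_⟩
    have h1 : ∀ y ∈ Subgroup.zpowers x, y ∈ Subgroup.center E :=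
      Subgroup.zpowers_le.mpr hx
    have h2 := Subgroup.mem_center_iff.mp (h1 a ha) b
    rw [h2, mul_assoc, mul_inv_cancel, mul_one]
    exact ha
  have hc : Nat.card (E ⧸ Subgroup.zpowers x) = q ^ k := hk
  have hP : IsPGroup q (E ⧸ Subgroup.zpowers x) := IsPGroup.of_card hc
  haveI := hP.isNilpotent
  exact solvable_of_ker_le_range (Subgroup.zpowers x).subtype (QuotientGroup.mk' (Subgroup.zpowers x)) (by
    rw [QuotientGroup.ker_mk', Subgroup.range_subtype])

end Basic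

section AD

variable {G : Type u} [Group G] [Fintype G] {M : Ideal AlgInt} {p : ℕ} [hp : Fact p.Prime]

/-- The standing hypotheses. -/
structure ADHyp (p : ℕ) (M : Ideal AlgInt) (N P : Subgroup G) : Prop where
  hM : IsPModular p M
  hPN : P ≤ N
  hPi : ¬ p ∣ P.index
  hidx : ¬ p ∣ N.index
  hdec : ∀ g : G, ∃ n ∈ N, ∃ c ∈ Subgroup.centralizer (P : Set G), g = n * c

variable {N P : Subgroup G}

/-- An extension with the congruence property. -/
def IsU (M : Ideal AlgInt) (P : Subgroup G) (θ : IrrCharacter N) (T : Subgroup G) (hNT : N ≤ T) (ζ : T → ℂ) : Prop :=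
  (∀ n : N, ζ (Subgroup.inclusion hNT n) = (θ : N → ℂ) n) ∧
    ∀ x : T, (x : G) ∈ Subgroup.centralizer (P : Set G) → MemLocalIdeal M (ζ x / (θ : N → ℂ) 1 - 1)

theorem ADHyp.index_cent (H : ADHyp p M N P) {T : Subgroup G} (hNT : N ≤ T) (x : T)
    (hx : (x : G) ∈ Subgroup.centralizer (P : Set G)) : ¬ p ∣ (Subgroup.centralizer ({x} : Set T)).index := by
  intro hd
  have hPT := H.hPN.trans hNT
  have h1 : P.subgroupOf T ≤ Subgroup.centralizer ({x} : Set T) := by
    intro y hy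
    rw [Subgroup.mem_centralizer_singleton_iff]
    apply Subtype.ext
    exact Subgroup.mem_centralizer_iff.mp hx y (Subgroup.mem_subgroupOf.mp hy)
  have h2 := Subgroup.index_dvd_of_le h1
  have h3 : (P.subgroupOf T).index ∣ P.index := by
    have h5 := Subgroup.relIndex_mul_index hPT
    rw [← h5]
    exact Dvd.intro _ rfl
  exact H.hPi (hd.trans (h2.trans h3))

theorem isU_of_mem (H : ADHyp p M N P) {T : Subgroup G} (hNT : N ≤ T) {θ : IrrCharacter N} {ζ : IrrCharacter T}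
    (hζ : ζ ∈ principalBlock M T) (hext : ∀ n : N, (ζ : T → ℂ) (Subgroup.inclusion hNT n) = (θ : N → ℂ) n) :
    IsU M P θ T hNT ζ := by
  refine ⟨hext, fun x hx => ?_⟩
  have h1 := principal_ratio H.hM hζ (H.index_cent hNT x hx)
  have h2 : (ζ : T → ℂ) 1 = (θ : N → ℂ) 1 := hext 1
  rwa [h2] at h1

section

variable [hN : N.Normal]

theorem isIrr_sub_of_isU {T : Subgroup G} (hNT : N ≤ T) {θ : IrrCharacter N} {ζ : T → ℂ} (hU : IsU M P θ T hNT ζ) :
    IsIrrCharacter (N.subgroupOf T) fun k : N.subgroupOf T => ζ k := by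
  have e : (fun k : N.subgroupOf T => ζ k) = (θ : N → ℂ) ∘ (Subgroup.subgroupOfEquivOfLe hNT) := by
    funext k
    have h1 := hU.1 (Subgroup.subgroupOfEquivOfLe hNT k)
    have h2 : Subgroup.inclusion hNT (Subgroup.subgroupOfEquivOfLe hNT k) = (k : T) := Subtype.ext rfl
    rw [h2] at h1
    exact h1
  rw [e]
  exact isIrr_comp_equiv _ θ.2

theorem isU_unique (H : ADHyp p M N P) {T : Subgroup G} (hNT : N ≤ T) {θ : IrrCharacter N} {ζ ζ' : IrrCharacter T}
    (hU : IsU M P θ T hNT ζ) (hU' : IsU M P θ T hNT ζ') : ζ = ζ' := by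
  classical
  haveI := isPModular_isPrime H.hM
  have hag : ∀ k : N.subgroupOf T, (ζ : T → ℂ) k = (ζ' : T → ℂ) k := by
    intro k
    have h2 : Subgroup.inclusion hNT (Subgroup.subgroupOfEquivOfLe hNT k) = (k : T) := Subtype.ext rfl
    have h3 := hU.1 (Subgroup.subgroupOfEquivOfLe hNT k)
    have h4 := hU'.1 (Subgroup.subgroupOfEquivOfLe hNT k)
    rw [h2] at h3 h4
    rw [h3, h4]
  obtain ⟨lam, hlK, hlam⟩ := exists_linear_of_two_ext (N.subgroupOf T) ζ ζ' hag (isIrr_sub_of_isU hNT hU)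
  have hidx : ¬ p ∣ (N.subgroupOf T).index := fun hd => H.hidx (hd.trans (Subgroup.relIndex_dvd_index_of_normal N T))
  have hlC : ∀ x : T, (x : G) ∈ Subgroup.centralizer (P : Set G) → lam x = 1 := by
    intro x hx
    have h1 := hU.2 x hx
    have h2 := hU'.2 x hx
    rw [hlam x] at h2
    have hlloc : MemLocalRing M (lam x : ℂ) := memLocalRing_unit_hom lam x
    have h3 : MemLocalIdeal M ((lam x : ℂ) - 1) := by
      have h4 := memLocalIdeal_sub h2 (memLocalIdeal_mul_left hlloc h1)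
      have e : (lam x : ℂ) * (ζ : T → ℂ) x / (θ : N → ℂ) 1 - 1 - (lam x : ℂ) * ((ζ : T → ℂ) x / (θ : N → ℂ) 1 - 1) =
          (lam x : ℂ) - 1 := by
        ring
      rwa [e] at h4
    have h5 : ((lam x : ℂˣ) : ℂ) ^ (N.subgroupOf T).index = 1 := by
      rw [← Units.val_pow_eq_pow_val, ← map_pow, hlK _ (Subgroup.pow_index_mem _ x), Units.val_one]
    have h6 := eq_one_of_memLocalIdeal_sub_one H.hM hidx h5
      (Subgroup.index_ne_zero_of_finite) h3
    exact Units.ext h6
  have hlT : ∀ t : T, lam t = 1 := by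
    intro t
    obtain ⟨n, hn, c, hc, e⟩ := H.hdec t
    have hcT : c ∈ T := by
      have : c = n⁻¹ * t := by rw [e]; group
      rw [this]
      exact T.mul_mem (T.inv_mem (hNT hn)) t.2
    have h1 : t = (⟨n, hNT hn⟩ : T) * ⟨c, hcT⟩ := Subtype.ext e
    rw [h1, map_mul, hlK _ (Subgroup.mem_subgroupOf.mpr hn), hlC _ hc, one_mul]
  apply Subtype.ext
  funext t
  rw [hlam t, hlT t]
  simp

theorem isU_restrict {T₁ T₂ : Subgroup G} (h₁ : N ≤ T₁) (h : T₁ ≤ T₂) (h₂ : N ≤ T₂) {θ : IrrCharacter N} {ζ : IrrCharacter T₂}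
    (hU : IsU M P θ T₂ h₂ ζ) :
    ∃ ζ₁ : IrrCharacter T₁, (∀ t : T₁, (ζ₁ : T₁ → ℂ) t = (ζ : T₂ → ℂ) (Subgroup.inclusion h t)) ∧ IsU M P θ T₁ h₁ ζ₁ := by
  have hc : IsCharacter T₁ fun t : T₁ => (ζ : T₂ → ℂ) (Subgroup.inclusion h t) :=
    IsCharacter.comp (Subgroup.inclusion h) (IsIrrCharacter.isCharacter ζ.2)
  have hU₁ : IsU M P θ T₁ h₁ fun t : T₁ => (ζ : T₂ → ℂ) (Subgroup.inclusion h t) := by
    refine ⟨fun n => hU.1 n, fun x hx => hU.2 (Subgroup.inclusion h x) hx⟩
  refine ⟨⟨_, isIrr_of_restrict_isIrr (N.subgroupOf T₁) hc (isIrr_sub_of_isU h₁ hU₁)⟩, fun t => rfl, hU₁⟩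

theorem exists_isU (H : ADHyp p M N P) {θ : IrrCharacter N} (hθ : θ ∈ principalBlock M N) {T : Subgroup G} (hNT : N ≤ T)
    (hs : Group.IsSolvable (T.map (QuotientGroup.mk' N))) :
    ∃ ζ : IrrCharacter T, ζ ∈ principalBlock M T ∧ IsU M P θ T hNT ζ := by
  obtain ⟨ζ, h1, h2⟩ := (extRel_of_solvable N P H.hM H.hPN H.hPi H.hdec (Nat.card T) T hNT le_rfl hs).1 θ hθ
  exact ⟨ζ, h1, isU_of_mem H hNT h1 h2⟩

theorem solvable_sup (E : Subgroup G) [Group.IsSolvable E] :
    Group.IsSolvable ((N ⊔ E).map (QuotientGroup.mk' N)) := by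
  have h1 : (N ⊔ E).map (QuotientGroup.mk' N) = E.map (QuotientGroup.mk' N) := by
    rw [Subgroup.map_sup]
    have : N.map (QuotientGroup.mk' N) = ⊥ := by
      rw [Subgroup.map_eq_bot_iff, QuotientGroup.ker_mk']
    rw [this, bot_sup_eq]
  rw [h1]
  exact solvable_of_surjective ((QuotientGroup.mk' N).subgroupMap_surjective E)

theorem mem_Tg (g : G) : g ∈ N ⊔ Subgroup.zpowers g :=
  (le_sup_right : Subgroup.zpowers g ≤ N ⊔ Subgroup.zpowers g) (Subgroup.mem_zpowers g)

/-- The canonical extension to `N⟨g⟩`. -/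
noncomputable def zetaG (H : ADHyp p M N P) {θ : IrrCharacter N} (hθ : θ ∈ principalBlock M N) (g : G) :
    IrrCharacter (N ⊔ Subgroup.zpowers g : Subgroup G) :=
  (exists_isU H hθ (T := N ⊔ Subgroup.zpowers g) le_sup_left (solvable_sup _)).choose

theorem zetaG_mem (H : ADHyp p M N P) {θ : IrrCharacter N} (hθ : θ ∈ principalBlock M N) (g : G) :
    zetaG H hθ g ∈ principalBlock M (N ⊔ Subgroup.zpowers g : Subgroup G) :=
  (exists_isU H hθ (T := N ⊔ Subgroup.zpowers g) le_sup_left (solvable_sup _)).choose_spec.1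

theorem zetaG_isU (H : ADHyp p M N P) {θ : IrrCharacter N} (hθ : θ ∈ principalBlock M N) (g : G) :
    IsU M P θ (N ⊔ Subgroup.zpowers g) le_sup_left (zetaG H hθ g) :=
  (exists_isU H hθ (T := N ⊔ Subgroup.zpowers g) le_sup_left (solvable_sup _)).choose_spec.2

/-- The canonical function on `G`. -/
noncomputable def thetaT (H : ADHyp p M N P) {θ : IrrCharacter N} (hθ : θ ∈ principalBlock M N) (g : G) : ℂ :=
  (zetaG H hθ g : (N ⊔ Subgroup.zpowers g : Subgroup G) → ℂ) ⟨g, mem_Tg g⟩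

theorem thetaT_eq (H : ADHyp p M N P) {θ : IrrCharacter N} (hθ : θ ∈ principalBlock M N) {T : Subgroup G} (hNT : N ≤ T)
    {ζ : IrrCharacter T} (hU : IsU M P θ T hNT ζ) (t : T) : thetaT H hθ t = (ζ : T → ℂ) t := by
  have hle : N ⊔ Subgroup.zpowers (t : G) ≤ T := sup_le hNT (Subgroup.zpowers_le.mpr t.2)
  obtain ⟨ζ₁, h1, h2⟩ := isU_restrict (le_sup_left : N ≤ N ⊔ Subgroup.zpowers (t : G)) hle hNT hU
  have h3 := isU_unique H le_sup_left (zetaG_isU H hθ (t : G)) h2
  unfold thetaT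
  rw [h3, h1]
  congr 1

theorem thetaT_N (H : ADHyp p M N P) {θ : IrrCharacter N} (hθ : θ ∈ principalBlock M N) (n : N) :
    thetaT H hθ n = (θ : N → ℂ) n := by
  have h1 := (zetaG_isU H hθ (n : G)).1 n
  exact h1

theorem thetaT_U (H : ADHyp p M N P) {θ : IrrCharacter N} (hθ : θ ∈ principalBlock M N) {x : G}
    (hx : x ∈ Subgroup.centralizer (P : Set G)) : MemLocalIdeal M (thetaT H hθ x / (θ : N → ℂ) 1 - 1) :=
  (zetaG_isU H hθ x).2 ⟨x, mem_Tg x⟩ hx

theorem theta_invariant (H : ADHyp p M N P) {θ : IrrCharacter N} (hθ : θ ∈ principalBlock M N) (g : G) (n : N) :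
    (θ : N → ℂ) ⟨g * n * g⁻¹, hN.conj_mem n n.2 g⟩ = (θ : N → ℂ) n := by
  have hU := zetaG_isU H hθ g
  have hcl := IsCharacter.isClassFunction (IsIrrCharacter.isCharacter (zetaG H hθ g).2)
  have h1 := hcl (Subgroup.inclusion (le_sup_left : N ≤ N ⊔ Subgroup.zpowers g) n) ⟨g, mem_Tg g⟩
  rw [hU.1 n] at h1
  rw [← h1, ← hU.1]
  rfl

theorem thetaT_conj_cent (H : ADHyp p M N P) {θ : IrrCharacter N} (hθ : θ ∈ principalBlock M N) {c : G}
    (hc : c ∈ Subgroup.centralizer (P : Set G)) (g : G) : thetaT H hθ (c * g * c⁻¹) = thetaT H hθ g := by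
  classical
  have hU := zetaG_isU H hθ g
  set T : Subgroup G := N ⊔ Subgroup.zpowers g with hT
  let ce : T ≃* T.map (MulAut.conj c).toMonoidHom := (MulAut.conj c).subgroupMap T
  have hce : ∀ t : T, ((ce t : T.map (MulAut.conj c).toMonoidHom) : G) = c * t * c⁻¹ := fun t => rfl
  have hNT : N ≤ T := le_sup_left
  have hNT₂ : N ≤ T.map (MulAut.conj c).toMonoidHom := by
    intro n hn
    refine ⟨c⁻¹ * n * c, hNT ?_, ?_⟩
    · have := hN.conj_mem n hn c⁻¹
      simpa using this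
    · simp [mul_assoc]
  let ψ : IrrCharacter (T.map (MulAut.conj c).toMonoidHom) := mapIrr ce (zetaG H hθ g)
  have hψ : IsU M P θ (T.map (MulAut.conj c).toMonoidHom) hNT₂ ψ := by
    constructor
    · intro n
      have hm : c⁻¹ * (n : G) * c ∈ N := by
        have := hN.conj_mem n n.2 c⁻¹
        simpa using this
      have h1 : Subgroup.inclusion hNT₂ n = ce (Subgroup.inclusion hNT ⟨c⁻¹ * n * c, hm⟩) := by
        apply Subtype.ext
        rw [hce]
        show (n : G) = c * (c⁻¹ * n * c) * c⁻¹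
        group
      rw [h1, mapIrr_apply, hU.1]
      have h2 := theta_invariant H hθ c⁻¹ n
      simpa using h2
    · intro x hx
      obtain ⟨t, rfl⟩ := ce.surjective x
      rw [mapIrr_apply]
      refine hU.2 t ?_
      have h1 : (t : G) = c⁻¹ * ((ce t : T.map (MulAut.conj c).toMonoidHom) : G) * c := by
        rw [hce]
        group
      rw [h1]
      exact Subgroup.mul_mem _ (Subgroup.mul_mem _ (Subgroup.inv_mem _ hc) hx) hc
  have h3 := thetaT_eq H hθ hNT₂ hψ (ce ⟨g, mem_Tg g⟩)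
  have h4 : (ψ : T.map (MulAut.conj c).toMonoidHom → ℂ) (ce ⟨g, mem_Tg g⟩) = (zetaG H hθ g : T → ℂ) ⟨g, mem_Tg g⟩ := mapIrr_apply _ _ _
  rw [hce] at h3
  rw [h3, h4]
  rfl

theorem thetaT_conj (H : ADHyp p M N P) {θ : IrrCharacter N} (hθ : θ ∈ principalBlock M N) (g x : G) :
    thetaT H hθ (x * g * x⁻¹) = thetaT H hθ g := by
  obtain ⟨n, hn, c, hc, rfl⟩ := H.hdec x
  have hU := zetaG_isU H hθ (c * g * c⁻¹)
  have hcl := IsCharacter.isClassFunction (IsIrrCharacter.isCharacter (zetaG H hθ (c * g * c⁻¹)).2)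
  have hnT : n ∈ N ⊔ Subgroup.zpowers (c * g * c⁻¹) := (le_sup_left : N ≤ _) hn
  have h1 := hcl ⟨c * g * c⁻¹, mem_Tg _⟩ ⟨n, hnT⟩
  have h2 := thetaT_eq H hθ le_sup_left hU (⟨n, hnT⟩ * ⟨c * g * c⁻¹, mem_Tg _⟩ * ⟨n, hnT⟩⁻¹)
  have e : (n * c) * g * (n * c)⁻¹ = n * (c * g * c⁻¹) * n⁻¹ := by group
  rw [e]
  have e2 : (((⟨n, hnT⟩ * ⟨c * g * c⁻¹, mem_Tg _⟩ * ⟨n, hnT⟩⁻¹ : (N ⊔ Subgroup.zpowers (c * g * c⁻¹) : Subgroup G))) : G) =
      n * (c * g * c⁻¹) * n⁻¹ := rfl
  rw [e2] at h2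
  rw [h2, h1, ← thetaT_conj_cent H hθ hc g]
  rfl

theorem thetaT_generalized (H : ADHyp p M N P) {θ : IrrCharacter N} (hθ : θ ∈ principalBlock M N) :
    IsGeneralizedCharacter G (thetaT H hθ) := by
  refine isGeneralized_of_elementary _ (fun g x => thetaT_conj H hθ g x) ?_
  intro E q hq hE
  haveI := isSolvable_of_isElementary hq hE
  obtain ⟨ζ, _, hU⟩ := exists_isU H hθ (T := N ⊔ E) le_sup_left (solvable_sup E)
  have h1 : (fun e : E => thetaT H hθ e) = fun e : E => (ζ : (N ⊔ E : Subgroup G) → ℂ) (Subgroup.inclusion le_sup_right e) := by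
    funext e
    exact thetaT_eq H hθ le_sup_left hU (Subgroup.inclusion le_sup_right e)
  rw [h1]
  exact IsGeneralizedCharacter.of_isCharacter (IsCharacter.comp (Subgroup.inclusion le_sup_right) (IsIrrCharacter.isCharacter ζ.2))


theorem thetaT_coset (H : ADHyp p M N P) {θ : IrrCharacter N} (hθ : θ ∈ principalBlock M N) (g₀ : G) :
    ∑ g : G, (open Classical in if (QuotientGroup.mk g : G ⧸ N) = QuotientGroup.mk g₀ then
      thetaT H hθ g * conj (thetaT H hθ g) else 0) = (Nat.card N : ℂ) := by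
  classical
  set T : Subgroup G := N ⊔ Subgroup.zpowers g₀ with hT
  have hNT : N ≤ T := le_sup_left
  have hg₀ : g₀ ∈ T := mem_Tg g₀
  have hcomm : ⁅T, T⁆ ≤ N := by
    rw [Subgroup.commutator_le]
    intro a ha b hb
    have h1 : T ≤ (Subgroup.zpowers (QuotientGroup.mk' N g₀)).comap (QuotientGroup.mk' N) := by
      refine sup_le ?_ ?_
      · intro n hn
        rw [Subgroup.mem_comap]
        have : QuotientGroup.mk' N n = 1 := (QuotientGroup.eq_one_iff n).mpr hn
        rw [this]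
        exact one_mem _
      · rw [Subgroup.zpowers_le]
        exact Subgroup.mem_comap.mpr (Subgroup.mem_zpowers _)
    obtain ⟨i, hi⟩ := Subgroup.mem_zpowers_iff.mp (h1 ha)
    obtain ⟨j, hj⟩ := Subgroup.mem_zpowers_iff.mp (h1 hb)
    rw [← QuotientGroup.ker_mk' N, MonoidHom.mem_ker, map_commutatorElement, ← hi, ← hj,
      commutatorElement_eq_one_iff_commute]
    exact (Commute.refl _).zpow_zpow i j
  obtain ⟨Q, iQ, fQ, π, hπ, hQ, hC, hker⟩ :=
    abelian_setup (p := p) N T hNT hcomm P H.hPN H.hPi (fun t _ => H.hdec t)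
  letI := iQ
  haveI := fQ
  have hcn := coset_norm H.hM π hπ hQ hC (zetaG_mem H hθ g₀) (π ⟨g₀, hg₀⟩)
  have hcard : Nat.card π.ker = Nat.card N := by
    have h1 : π.ker = N.subgroupOf T := by
      ext t
      rw [MonoidHom.mem_ker, hker, Subgroup.mem_subgroupOf]
    rw [h1]
    exact Nat.card_congr (Subgroup.subgroupOfEquivOfLe hNT).toEquiv
  rw [hcard] at hcn
  rw [← hcn, sum_eq_sum_subgroup T]
  · refine Finset.sum_congr rfl fun t _ => ?_
    have h1 : ((QuotientGroup.mk (t : G) : G ⧸ N) = QuotientGroup.mk g₀) ↔ π t = π ⟨g₀, hg₀⟩ := by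
      rw [QuotientGroup.eq]
      have h2 : π t = π ⟨g₀, hg₀⟩ ↔ π (t⁻¹ * ⟨g₀, hg₀⟩) = 1 := by
        rw [map_mul, map_inv, inv_mul_eq_one, eq_comm]
      rw [h2, hker]
      rfl
    have h2 := thetaT_eq H hθ hNT (zetaG_isU H hθ g₀) t
    by_cases h3 : π t = π ⟨g₀, hg₀⟩
    · rw [if_pos (h1.mpr h3), if_pos h3, h2]
    · rw [if_neg (fun h => h3 (h1.mp h)), if_neg h3]
  · intro k hk
    rw [if_neg]
    intro h
    apply hk
    rw [QuotientGroup.eq] at h
    have h2 : k = g₀ * (g₀⁻¹ * k) := by group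
    have h3 : g₀⁻¹ * k ∈ N := by
      have := N.inv_mem h
      simpa using this
    rw [h2]
    exact T.mul_mem hg₀ (hNT h3)

theorem thetaT_norm (H : ADHyp p M N P) {θ : IrrCharacter N} (hθ : θ ∈ principalBlock M N) :
    classInner (thetaT H hθ) (thetaT H hθ) = 1 := by
  classical
  haveI : Fintype (G ⧸ N) := Fintype.ofFinite _
  rw [classInner_def]
  have h1 : ∑ g, thetaT H hθ g * conj (thetaT H hθ g) =
      ∑ q : G ⧸ N, ∑ g : G, (if (QuotientGroup.mk g : G ⧸ N) = q then thetaT H hθ g * conj (thetaT H hθ g) else 0) := by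
    rw [Finset.sum_comm]
    refine Finset.sum_congr rfl fun g _ => ?_
    rw [Finset.sum_ite_eq]
    simp
  have h2 : ∀ q : G ⧸ N, ∑ g : G, (if (QuotientGroup.mk g : G ⧸ N) = q then thetaT H hθ g * conj (thetaT H hθ g) else 0) =
      (Nat.card N : ℂ) := by
    intro q
    obtain ⟨g₀, rfl⟩ := QuotientGroup.mk_surjective q
    convert thetaT_coset H hθ g₀
  rw [h1, Finset.sum_congr rfl fun q _ => h2 q]
  simp only [Finset.sum_const, Finset.card_univ, nsmul_eq_mul]
  have hc : (Fintype.card (G ⧸ N) : ℂ) * (Nat.card N : ℂ) = (Nat.card G : ℂ) := by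
    rw [← Subgroup.card_mul_index N, Subgroup.index_eq_card, Nat.card_eq_fintype_card (α := G ⧸ N)]
    push_cast
    ring
  rw [hc]
  have : (Nat.card G : ℂ) ≠ 0 := by
    have : Nat.card G ≠ 0 := Nat.card_pos.ne'
    exact_mod_cast this
  field_simp

/-- The canonical extension, as an irreducible character of `G`. -/
noncomputable def thetaIrr (H : ADHyp p M N P) {θ : IrrCharacter N} (hθ : θ ∈ principalBlock M N) : IrrCharacter G :=
  ⟨thetaT H hθ, isIrr_of_generalized_norm_one (thetaT_generalized H hθ) (thetaT_norm H hθ) (by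
    have h1 : thetaT H hθ 1 = (θ : N → ℂ) 1 := thetaT_N H hθ 1
    rw [h1, map_one_eq_charDegree (IsIrrCharacter.isCharacter θ.2)]
    have := charDegree_pos_of_irr θ.2
    simpa using this)⟩

theorem thetaIrr_apply (H : ADHyp p M N P) {θ : IrrCharacter N} (hθ : θ ∈ principalBlock M N) (g : G) :
    (thetaIrr H hθ : G → ℂ) g = thetaT H hθ g := rfl

theorem eq_theta_of_over (H : ADHyp p M N P) {θ : IrrCharacter N} (hθ : θ ∈ principalBlock M N) {χ : IrrCharacter G}
    (hχ : χ ∈ principalBlock M G) (hov : classInner (fun n : N => (χ : G → ℂ) n) (θ : N → ℂ) ≠ 0) :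
    χ = thetaIrr H hθ := by
  classical
  haveI := isPModular_isPrime H.hM
  haveI : Fintype (G ⧸ N) := Fintype.ofFinite _
  let φ : N → ℂ := fun _ => 1
  have hφ : IsIrrCharacter N φ := isIrrCharacter_one
  have hφinv : ∀ g, conjFn hN g φ = φ := fun g => rfl
  have hprod0 : φ * (θ : N → ℂ) = θ := by
    funext n
    simp [φ]
  have hprod : IsIrrCharacter N (φ * (θ : N → ℂ)) := by
    rw [hprod0]
    exact θ.2
  have hB := gallagher_bijOn N hφ θ.2 hφinv hprod (thetaIrr H hθ).2 (fun n => thetaT_N H hθ n)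
  have hχm : (χ : G → ℂ) ∈ {ψ : G → ℂ | IsIrrCharacter G ψ ∧ classInner (indFun N (φ * (θ : N → ℂ))) ψ ≠ 0} := by
    refine ⟨χ.2, ?_⟩
    rw [frobenius_reciprocity N _ _ (IsCharacter.isClassFunction (IsIrrCharacter.isCharacter χ.2)), hprod0,
      ← conj_classInner]
    exact (map_ne_zero _).mpr hov
  obtain ⟨β, ⟨hβ, hβi⟩, hβχ⟩ := hB.surjOn hχm
  have hβχ' : ∀ g, (χ : G → ℂ) g = β g * thetaT H hθ g := fun g => (congrFun hβχ g).symm
  rw [frobenius_reciprocity N _ _ (IsCharacter.isClassFunction (IsIrrCharacter.isCharacter hβ))] at hβi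
  have h1 : classInner (fun n : N => β n) φ ≠ 0 := by
    rw [← conj_classInner]
    exact (map_ne_zero _).mpr hβi
  have hker : Lib.Degree.KerContains N β := (classInner_one_iff (N := N) ⟨β, hβ⟩).mp h1
  obtain ⟨ψ, hψ⟩ := Lib.Degree.exists_inflate N (χ := ⟨β, hβ⟩) hker
  have hψβ : ∀ g : G, β g = (ψ : G ⧸ N → ℂ) (g : G ⧸ N) := fun g => by
    have h2 := congrArg (fun X : IrrCharacter G => (X : G → ℂ) g) hψ
    exact h2.symm
  have hψ1 : ψ = oneIrr (G ⧸ N) := by
    by_contra hne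
    have hcardq : Nat.card (G ⧸ N) = N.index := rfl
    have hdeg : ¬ p ∣ charDegree (ψ : G ⧸ N → ℂ) := fun hd =>
      H.hidx (hcardq ▸ hd.trans (charDegree_dvd_card ψ.2))
    have hd1 : (ψ : G ⧸ N → ℂ) 1 = (charDegree (ψ : G ⧸ N → ℂ) : ℂ) :=
      map_one_eq_charDegree (IsIrrCharacter.isCharacter ψ.2)
    have hdu : ¬ MemLocalIdeal M ((ψ : G ⧸ N → ℂ) 1) := by
      rw [hd1]
      exact not_memLocalIdeal_natCast H.hM hdeg
    have hdl : MemLocalRing M ((ψ : G ⧸ N → ℂ) 1) := by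
      rw [hd1]
      exact memLocalRing_natCast _
    have hd0 : (ψ : G ⧸ N → ℂ) 1 ≠ 0 := isIrr_one_ne_zero ψ.2
    have hCt : ∀ c ∈ Subgroup.centralizer (P : Set G),
        MemLocalIdeal M ((ψ : G ⧸ N → ℂ) (c : G ⧸ N) - (ψ : G ⧸ N → ℂ) 1) := by
      intro c hc
      have hidxc : ¬ p ∣ (Subgroup.centralizer ({c} : Set G)).index := by
        intro hd
        have h2 : P ≤ Subgroup.centralizer ({c} : Set G) := by
          intro y hy
          rw [Subgroup.mem_centralizer_singleton_iff]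
          exact Subgroup.mem_centralizer_iff.mp hc y hy
        exact H.hPi (hd.trans (Subgroup.index_dvd_of_le h2))
      have hx := principal_ratio H.hM hχ hidxc
      have hb := thetaT_U H hθ hc
      have hθ0 : (θ : N → ℂ) 1 ≠ 0 := isIrr_one_ne_zero θ.2
      have hβ1 : β 1 = (ψ : G ⧸ N → ℂ) 1 := hψβ 1
      have hT1 : thetaT H hθ 1 = (θ : N → ℂ) 1 := thetaT_N H hθ 1
      have hχ1 : (χ : G → ℂ) 1 = (ψ : G ⧸ N → ℂ) 1 * (θ : N → ℂ) 1 := by
        rw [hβχ', hβ1, hT1]
      have hχc : (χ : G → ℂ) c = (ψ : G ⧸ N → ℂ) (c : G ⧸ N) * thetaT H hθ c := by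
        rw [hβχ', hψβ]
      have hψint : MemLocalRing M ((ψ : G ⧸ N → ℂ) (c : G ⧸ N)) :=
        memLocalRing_of_isIntegral (IsCharacter.isIntegral' (IsIrrCharacter.isCharacter ψ.2) _)
      have hinv : MemLocalRing M ((ψ : G ⧸ N → ℂ) 1)⁻¹ := memLocalRing_inv hdl hdu
      have hal : MemLocalRing M ((ψ : G ⧸ N → ℂ) (c : G ⧸ N) * ((ψ : G ⧸ N → ℂ) 1)⁻¹) :=
        memLocalRing_mul hψint hinv
      have h3 := memLocalIdeal_sub hx (memLocalIdeal_mul_left hal hb)
      have h4 := memLocalIdeal_mul_left hdl h3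
      have e : (ψ : G ⧸ N → ℂ) 1 * ((χ : G → ℂ) c / (χ : G → ℂ) 1 - 1 -
          (ψ : G ⧸ N → ℂ) (c : G ⧸ N) * ((ψ : G ⧸ N → ℂ) 1)⁻¹ * (thetaT H hθ c / (θ : N → ℂ) 1 - 1)) =
          (ψ : G ⧸ N → ℂ) (c : G ⧸ N) - (ψ : G ⧸ N → ℂ) 1 := by
        rw [hχ1, hχc]
        field_simp
        ring
      rwa [e] at h4
    have hall : ∀ q : G ⧸ N, MemLocalIdeal M ((ψ : G ⧸ N → ℂ) q - (ψ : G ⧸ N → ℂ) 1) := by
      intro q
      obtain ⟨g, rfl⟩ := QuotientGroup.mk_surjective q
      obtain ⟨n, hn, c, hc, rfl⟩ := H.hdec g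
      have e : (QuotientGroup.mk (n * c) : G ⧸ N) = QuotientGroup.mk c := by
        rw [QuotientGroup.mk_mul, (QuotientGroup.eq_one_iff n).mpr hn, one_mul]
      rw [e]
      exact hCt c hc
    have hsum : ∑ q : G ⧸ N, (ψ : G ⧸ N → ℂ) q = 0 := by
      have h2 := classInner_irr_of_ne ψ.2 (isIrrCharacter_one (G := G ⧸ N)) (fun h => hne (Subtype.ext h))
      rw [classInner_def] at h2
      have h3 : (Nat.card (G ⧸ N) : ℂ)⁻¹ ≠ 0 := by
        apply inv_ne_zero
        have : Nat.card (G ⧸ N) ≠ 0 := Nat.card_pos.ne'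
        exact_mod_cast this
      have h4 := (mul_eq_zero.mp h2).resolve_left h3
      simpa using h4
    have h5 := memLocalIdeal_sum Finset.univ _ fun q _ => hall q
    rw [Finset.sum_sub_distrib, hsum, Finset.sum_const, Finset.card_univ, nsmul_eq_mul, zero_sub, hd1] at h5
    have h6 := memLocalIdeal_neg h5
    rw [neg_neg] at h6
    have h7 : ((Fintype.card (G ⧸ N) : ℂ) * (charDegree (ψ : G ⧸ N → ℂ) : ℂ)) =
        ((Fintype.card (G ⧸ N) * charDegree (ψ : G ⧸ N → ℂ) : ℕ) : ℂ) := by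
      push_cast
      rfl
    rw [h7] at h6
    refine not_memLocalIdeal_natCast H.hM ?_ h6
    intro hd
    rcases (Nat.Prime.dvd_mul hp.out).mp hd with h8 | h8
    · rw [← Nat.card_eq_fintype_card] at h8
      exact H.hidx h8
    · exact hdeg h8
  apply Subtype.ext
  funext g
  rw [hβχ', thetaIrr_apply, hψβ, hψ1]
  show (1 : ℂ) * _ = _
  rw [one_mul]

/-- A formula for the trace on the restriction of a block idempotent. -/
theorem tr_res_blockElt (A : Set (IrrCharacter G)) (ξ : N → ℂ) :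
    tr ξ (resAlg N (blockElt A)) = (Nat.card G : ℂ)⁻¹ * (Nat.card N : ℂ) *
      ∑ χ : IrrCharacter G, (open Classical in if χ ∈ A then (χ : G → ℂ) 1 * classInner ξ (fun n : N => (χ : G → ℂ) n) else 0) := by
  classical
  have hN0 : (Nat.card N : ℂ) ≠ 0 := by
    have : Nat.card N ≠ 0 := Nat.card_pos.ne'
    exact_mod_cast this
  unfold tr
  simp only [coeff_resAlg, coeff_blockElt, blockCoeff_eq_sum, classInner_def]
  simp only [mul_assoc, ← Finset.mul_sum]
  congr 1
  rw [Finset.mul_sum]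
  have h1 : ∀ n : N, (∑ χ : IrrCharacter G, if χ ∈ A then (χ : G → ℂ) 1 * conj ((χ : G → ℂ) n) else 0) * ξ n =
      ∑ χ : IrrCharacter G, if χ ∈ A then (χ : G → ℂ) 1 * (ξ n * conj ((χ : G → ℂ) n)) else 0 := by
    intro n
    rw [Finset.sum_mul]
    refine Finset.sum_congr rfl fun χ _ => ?_
    split_ifs
    · ring
    · simp
  simp only [h1]
  rw [Finset.sum_comm]
  refine Finset.sum_congr rfl fun χ _ => ?_
  split_ifs
  · rw [← Finset.mul_sum]
    field_simp
  · simp

theorem exists_over (H : ADHyp p M N P) {θ : IrrCharacter N} (hθ : θ ∈ principalBlock M N) :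
    ∃ χ ∈ principalBlock M G, classInner (fun n : N => (χ : G → ℂ) n) (θ : N → ℂ) ≠ 0 := by
  classical
  haveI := isPModular_isPrime H.hM
  set y := resAlg N (blockElt (principalBlock M G)) with hy
  have hyc : IsCentralElt y := isCentralElt_resAlg N (isCentralElt_blockElt _)
  have hyl : LocalCoeff M y := localCoeff_resAlg N (localCoeff_blockElt (isBlockUnion_of_isPBlock ⟨oneIrr G, rfl⟩))
  have hsb : SameBlock M (θ : N → ℂ) ((oneIrr N : IrrCharacter N) : N → ℂ) := sameBlock_symm hθ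
  have h1 := memLocalIdeal_om_sub θ.2 (oneIrr N).2 hsb hyc hyl
  by_contra hcon
  push Not at hcon
  have hS : tr (θ : N → ℂ) y = 0 := by
    rw [hy, tr_res_blockElt]
    rw [Finset.sum_eq_zero, mul_zero]
    intro χ _
    split_ifs with h
    · rw [← conj_classInner, hcon χ h, map_zero, mul_zero]
    · rfl
  have h2 : om (θ : N → ℂ) y = 0 := by
    unfold om
    rw [hS, zero_div]
  have hone0 : oneIrr N ∈ principalBlock M N := oneIrr_mem_principalBlock
  have hunique : ∀ χ ∈ principalBlock M G,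
      classInner (fun n : N => (χ : G → ℂ) n) ((oneIrr N : IrrCharacter N) : N → ℂ) ≠ 0 → χ = oneIrr G := by
    intro χ hχ hne
    have h3 := eq_theta_of_over H hone0 hχ hne
    have h4 : classInner (fun n : N => ((oneIrr G : IrrCharacter G) : G → ℂ) n) ((oneIrr N : IrrCharacter N) : N → ℂ) ≠ 0 := by
      rw [classInner_one_iff]
      intro n _
      rfl
    have h5 := eq_theta_of_over H hone0 (oneIrr_mem_principalBlock (M := M) (G := G)) h4
    rw [h3, h5]
  have h3 : om ((oneIrr N : IrrCharacter N) : N → ℂ) y = (Nat.card G : ℂ)⁻¹ * (Nat.card N : ℂ) := by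
    have h4 : ((oneIrr N : IrrCharacter N) : N → ℂ) 1 = 1 := rfl
    unfold om
    rw [h4, div_one, hy, tr_res_blockElt]
    rw [Finset.sum_eq_single (oneIrr G)]
    · rw [if_pos oneIrr_mem_principalBlock]
      have h5 : classInner ((oneIrr N : IrrCharacter N) : N → ℂ) (fun n : N => ((oneIrr G : IrrCharacter G) : G → ℂ) n) = 1 :=
        classInner_irr_self (oneIrr N).2
      rw [h5]
      have h6 : ((oneIrr G : IrrCharacter G) : G → ℂ) 1 = 1 := rfl
      rw [h6, mul_one, mul_one]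
    · intro χ _ hne
      split_ifs with h
      · have h5 : classInner ((oneIrr N : IrrCharacter N) : N → ℂ) (fun n : N => (χ : G → ℂ) n) = 0 := by
          by_contra h6
          apply hne
          apply hunique χ h
          rw [← conj_classInner]
          exact (map_ne_zero _).mpr h6
        rw [h5, mul_zero]
      · rfl
    · intro h
      exact absurd (Finset.mem_univ _) h
  rw [h2, h3, zero_sub] at h1
  have h4 := memLocalIdeal_neg h1
  rw [neg_neg] at h4
  have h5 := memLocalIdeal_mul_right h4 (memLocalRing_natCast (M := M) N.index)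
  have e : (Nat.card G : ℂ)⁻¹ * (Nat.card N : ℂ) * (N.index : ℂ) = ((1 : ℕ) : ℂ) := by
    have hG : (Nat.card G : ℂ) ≠ 0 := by
      have : Nat.card G ≠ 0 := Nat.card_pos.ne'
      exact_mod_cast this
    have hc : (Nat.card N : ℂ) * (N.index : ℂ) = (Nat.card G : ℂ) := by
      rw [← Subgroup.card_mul_index N]
      push_cast
      rfl
    rw [mul_assoc, hc]
    push_cast
    field_simp
  rw [e] at h5
  have h6 : ¬ p ∣ 1 := fun h => hp.out.one_lt.ne' (Nat.dvd_one.mp h)
  exact not_memLocalIdeal_natCast H.hM h6 h5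

/-- **Alperin–Dade**. -/
theorem alperin_dade (H : ADHyp p M N P) :
    (∀ χ ∈ principalBlock M G, ∃ θ ∈ principalBlock M N, ∀ n : N, (χ : G → ℂ) n = (θ : N → ℂ) n) ∧
      ∀ θ ∈ principalBlock M N, ∃! χ : IrrCharacter G, χ ∈ principalBlock M G ∧ ∀ n : N, (χ : G → ℂ) n = (θ : N → ℂ) n := by
  classical
  haveI := isPModular_isPrime H.hM
  have hU : IsStable N (principalBlock M N) := isStable_principal N
  have hU' : IsBlockUnion M (principalBlock M N) := isBlockUnion_of_isPBlock ⟨oneIrr N, rfl⟩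
  constructor
  · intro χ hχ
    obtain ⟨θ, hθ⟩ := exists_constituent N χ
    have hone := principal_subset_over N H.hM (oneIrr_mem_principalBlock (M := M) (G := G))
    have hθm : θ ∈ principalBlock M N := constituent_mem_of_sameBlock N hU hU'
      (show SameBlock M ((oneIrr G : IrrCharacter G) : G → ℂ) (χ : G → ℂ) from hχ) hone hθ
    refine ⟨θ, hθm, fun n => ?_⟩
    rw [eq_theta_of_over H hθm hχ hθ, thetaIrr_apply]
    exact thetaT_N H hθm n
  · intro θ hθ
    obtain ⟨χ, hχ, hov⟩ := exists_over H hθ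
    have h1 := eq_theta_of_over H hθ hχ hov
    refine ⟨χ, ⟨hχ, fun n => ?_⟩, ?_⟩
    · rw [h1, thetaIrr_apply]
      exact thetaT_N H hθ n
    · rintro χ' ⟨hχ', hr⟩
      have h2 : classInner (fun n : N => (χ' : G → ℂ) n) (θ : N → ℂ) ≠ 0 := by
        have h3 : (fun n : N => (χ' : G → ℂ) n) = (θ : N → ℂ) := funext hr
        rw [h3, classInner_irr_self θ.2]
        exact one_ne_zero
      rw [eq_theta_of_over H hθ hχ' h2, h1]

end

end AD

end Cfsg.Agent.Lib.BPair
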