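import Cfsg.Agent.Lib.CharExtra.PIndex
import Cfsg.Prelude.Def_BrauerPairs

/-!
# Brauer pairs: the Brauer map and the local structure
-/

set_option autoImplicit false
set_option linter.unusedSectionVars false
set_option linter.unusedSimpArgs false
set_option linter.unusedVariables false

open scoped ComplexConjugate
open Cfsg MonoidAlgebra
open Cfsg.Agent.Lib.Block Cfsg.Agent.Lib.Char Cfsg.Agent.Lib.CharExtra

namespace Cfsg.Agent.Lib.BPair

/-- Subgroups of finite groups are finite (used as a local instance). -/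
noncomputable def subFintype {G : Type*} [Group G] [Finite G] (H : Subgroup G) : Fintype H := Fintype.ofFinite H

attribute [local instance] subFintype

/-- Transport of irreducible characters along an isomorphism. -/
noncomputable def mapIrr {H K : Type*} [Group H] [Group K] (φ : H ≃* K) (θ : IrrCharacter H) : IrrCharacter K :=
  ⟨(θ : H → ℂ) ∘ φ.symm, isIrr_comp_equiv φ.symm θ.2⟩

section Map

variable {H K L : Type*} [Group H] [Group K] [Group L]

theorem mapIrr_apply (φ : H ≃* K) (θ : IrrCharacter H) (v : H) :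
    (mapIrr φ θ : K → ℂ) (φ v) = (θ : H → ℂ) v := by
  simp [mapIrr]

theorem mapIrr_apply' (φ : H ≃* K) (θ : IrrCharacter H) (v : K) :
    (mapIrr φ θ : K → ℂ) v = (θ : H → ℂ) (φ.symm v) := rfl

theorem mapIrr_symm_mapIrr (φ : H ≃* K) (θ : IrrCharacter H) : mapIrr φ.symm (mapIrr φ θ) = θ := by
  apply Subtype.ext
  funext v
  simp [mapIrr]

theorem mapIrr_mapIrr_symm (φ : H ≃* K) (θ : IrrCharacter K) : mapIrr φ (mapIrr φ.symm θ) = θ := by
  apply Subtype.ext
  funext v
  simp [mapIrr]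

theorem mapIrr_trans (φ : H ≃* K) (ψ : K ≃* L) (θ : IrrCharacter H) :
    mapIrr (φ.trans ψ) θ = mapIrr ψ (mapIrr φ θ) := by
  apply Subtype.ext
  funext v
  simp [mapIrr]

theorem mapIrr_refl (θ : IrrCharacter H) : mapIrr (MulEquiv.refl H) θ = θ := by
  apply Subtype.ext
  funext v
  simp [mapIrr]

/-- Transport of a set of characters. -/
def mapBlock (φ : H ≃* K) (f : Set (IrrCharacter H)) : Set (IrrCharacter K) := mapIrr φ '' f

theorem mem_mapBlock {φ : H ≃* K} {f : Set (IrrCharacter H)} {ψ : IrrCharacter K} :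
    ψ ∈ mapBlock φ f ↔ mapIrr φ.symm ψ ∈ f := by
  constructor
  · rintro ⟨θ, hθ, rfl⟩
    rwa [mapIrr_symm_mapIrr]
  · intro h
    exact ⟨_, h, mapIrr_mapIrr_symm φ ψ⟩

theorem mapIrr_mem_mapBlock {φ : H ≃* K} {f : Set (IrrCharacter H)} {θ : IrrCharacter H} :
    mapIrr φ θ ∈ mapBlock φ f ↔ θ ∈ f := by
  rw [mem_mapBlock, mapIrr_symm_mapIrr]

theorem mapBlock_trans (φ : H ≃* K) (ψ : K ≃* L) (f : Set (IrrCharacter H)) :
    mapBlock (φ.trans ψ) f = mapBlock ψ (mapBlock φ f) := by
  ext χ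
  simp only [mapBlock, Set.mem_image]
  constructor
  · rintro ⟨θ, hθ, rfl⟩
    exact ⟨_, ⟨θ, hθ, rfl⟩, (mapIrr_trans φ ψ θ).symm⟩
  · rintro ⟨_, ⟨θ, hθ, rfl⟩, rfl⟩
    exact ⟨θ, hθ, mapIrr_trans φ ψ θ⟩

theorem mapBlock_refl (f : Set (IrrCharacter H)) : mapBlock (MulEquiv.refl H) f = f := by
  ext χ
  simp only [mapBlock, Set.mem_image]
  constructor
  · rintro ⟨θ, hθ, rfl⟩
    rwa [mapIrr_refl]
  · intro h
    exact ⟨χ, h, mapIrr_refl χ⟩

theorem mapBlock_symm_mapBlock (φ : H ≃* K) (f : Set (IrrCharacter H)) :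
    mapBlock φ.symm (mapBlock φ f) = f := by
  ext χ
  rw [mem_mapBlock, MulEquiv.symm_symm, mem_mapBlock, mapIrr_symm_mapIrr]

variable {M : Ideal AlgInt}

theorem sameBlock_mapIrr (φ : H ≃* K) {θ θ' : IrrCharacter H}
    (h : SameBlock M (θ : H → ℂ) (θ' : H → ℂ)) :
    SameBlock M (mapIrr φ θ : K → ℂ) (mapIrr φ θ' : K → ℂ) :=
  sameBlock_comp_equiv φ.symm h

theorem isPBlock_mapBlock [M.IsPrime] (φ : H ≃* K) {f : Set (IrrCharacter H)} (hf : IsPBlock M f) :
    IsPBlock M (mapBlock φ f) := by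
  obtain ⟨θ₀, rfl⟩ := hf
  refine ⟨mapIrr φ θ₀, ?_⟩
  ext ψ
  rw [mem_mapBlock]
  constructor
  · intro h
    have := sameBlock_mapIrr (M := M) φ h
    rwa [mapIrr_mapIrr_symm] at this
  · intro h
    have := sameBlock_mapIrr (M := M) φ.symm h
    rwa [mapIrr_symm_mapIrr] at this

theorem blockCoeff_mapBlock [Fintype H] [Fintype K] (φ : H ≃* K) (f : Set (IrrCharacter H)) (v : H) :
    blockCoeff (mapBlock φ f) (φ v) = blockCoeff f v := by
  classical
  rw [blockCoeff_eq_sum, blockCoeff_eq_sum]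
  have hcard : Nat.card K = Nat.card H := (Nat.card_congr φ.toEquiv).symm
  rw [hcard]
  congr 1
  refine Finset.sum_bij' (fun θ _ => mapIrr φ.symm θ) (fun θ _ => mapIrr φ θ) (by simp) (by simp)
    (fun θ _ => mapIrr_mapIrr_symm φ θ) (fun θ _ => mapIrr_symm_mapIrr φ θ) ?_
  intro θ _
  by_cases hθ : θ ∈ mapBlock φ f
  · rw [if_pos hθ, if_pos (mem_mapBlock.1 hθ)]
    have e1 : (θ : K → ℂ) 1 = (mapIrr φ.symm θ : H → ℂ) 1 := by
      simp [mapIrr]
    have e2 : (θ : K → ℂ) (φ v) = (mapIrr φ.symm θ : H → ℂ) v := by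
      simp [mapIrr]
    rw [e1, e2]
  · rw [if_neg hθ, if_neg (fun h => hθ (mem_mapBlock.2 h))]

theorem blocks_eq_or_disjoint [M.IsPrime] {f f' : Set (IrrCharacter H)} (hf : IsPBlock M f) (hf' : IsPBlock M f')
    {θ : IrrCharacter H} (h : θ ∈ f) (h' : θ ∈ f') : f = f' := by
  rw [blockOf_eq_of_mem hf h, blockOf_eq_of_mem hf' h']

end Map

section Sum

variable {H : Type*} [Group H] [Fintype H] {M : Ideal AlgInt} [M.IsPrime]

/-- The blocks of a finite group. -/
abbrev Blocks (M : Ideal AlgInt) (H : Type*) [Group H] : Type _ := {f : Set (IrrCharacter H) // IsPBlock M f}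

noncomputable instance blocksFintype : Fintype (Blocks M H) := Fintype.ofFinite _

theorem blockElt_mul_eq_zero_of_ne {f f' : Set (IrrCharacter H)} (hf : IsPBlock M f) (hf' : IsPBlock M f')
    (hne : f ≠ f') : blockElt f * blockElt f' = 0 := by
  classical
  apply central_ext_om (isCentralElt_mul (isCentralElt_blockElt _) (isCentralElt_blockElt _))
    isCentralElt_zero
  intro χ
  rw [om_mul χ.2 (isCentralElt_blockElt _), om_zero]
  by_cases hχ : χ ∈ f
  · have : χ ∉ f' := fun h => hne (blocks_eq_or_disjoint hf hf' hχ h)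
    rw [om_blockElt_of_notMem this, mul_zero]
  · rw [om_blockElt_of_notMem hχ, zero_mul]

theorem sum_blockElt_eq_one : ∑ f : Blocks M H, blockElt f.1 = 1 := by
  classical
  apply central_ext_om (isCentralElt_sum _ _ fun f _ => isCentralElt_blockElt _) isCentralElt_one
  intro χ
  rw [om_sum, om_one χ.2, Finset.sum_eq_single (⟨blockOf M (χ : H → ℂ), isPBlock_blockOf χ⟩ : Blocks M H)]
  · exact om_blockElt_of_mem (mem_blockOf_self χ)
  · intro f _ hf
    apply om_blockElt_of_notMem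
    intro h
    apply hf
    exact Subtype.ext (blockOf_eq_of_mem f.2 h)
  · simp

end Sum

section Nil

variable {H : Type*} [Group H] [Fintype H] {M : Ideal AlgInt} [M.IsPrime]

/-- Idempotent mod the local ideal and nilpotent mod the local ideal means zero mod the local ideal. -/
theorem localIdealCoeff_of_idem_of_om {d : MonoidAlgebra ℂ H} (hc : IsCentralElt d) (hl : LocalCoeff M d)
    (hid : LocalIdealCoeff M (d * d - d)) (hom : ∀ ξ : IrrCharacter H, MemLocalIdeal M (om (ξ : H → ℂ) d)) :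
    LocalIdealCoeff M d := by
  classical
  have hpow := localIdealCoeff_pow_of_om hc hl hom
  have key : ∀ n : ℕ, LocalIdealCoeff M (d ^ (n + 1) - d) := by
    intro n
    induction n with
    | zero => simpa using localIdealCoeff_zero
    | succ n ih =>
      have e : d ^ (n + 1 + 1) - d = (d ^ (n + 1) - d) * d + (d * d - d) := by
        rw [pow_succ d (n + 1), sub_mul]
        abel
      rw [e]
      exact localIdealCoeff_add (localIdealCoeff_mul_right ih hl) hid
  have hn : Fintype.card (IrrCharacter H) ≠ 0 := by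
    have : Nonempty (IrrCharacter H) := ⟨oneIrr H⟩
    exact Fintype.card_ne_zero
  obtain ⟨n, hn'⟩ := Nat.exists_eq_succ_of_ne_zero hn
  rw [hn'] at hpow
  have h1 := key n
  have h2 : d = d ^ (n + 1) - (d ^ (n + 1) - d) := by abel
  rw [h2]
  exact localIdealCoeff_sub hpow h1

/-- If a central idempotent-mod-`I` element acts as `1` on a block, it fixes the block idempotent. -/
theorem localIdealCoeff_mul_blockElt_sub {z : MonoidAlgebra ℂ H} (hc : IsCentralElt z) (hl : LocalCoeff M z)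
    (hid : LocalIdealCoeff M (z * z - z)) {f : Set (IrrCharacter H)} (hf : IsPBlock M f)
    (h : ∀ η ∈ f, MemLocalIdeal M (om (η : H → ℂ) z - 1)) :
    LocalIdealCoeff M (z * blockElt f - blockElt f) := by
  classical
  have hfl : LocalCoeff M (blockElt f) := localCoeff_blockElt (isBlockUnion_of_isPBlock hf)
  have hfc : IsCentralElt (blockElt f) := isCentralElt_blockElt f
  set e := blockElt f with he
  have hee : e * e = e := blockElt_mul_self f
  have hzc : e * z = z * e := (isCentralElt_commute hc e).symm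
  have key : LocalIdealCoeff M (e - z * e) := by
    apply localIdealCoeff_of_idem_of_om (isCentralElt_sub hfc (isCentralElt_mul hc hfc))
      (localCoeff_sub hfl (localCoeff_mul hl hfl))
    · have e1 : (e - z * e) * (e - z * e) - (e - z * e) = (z * z - z) * e := by
        have h1 : e * (z * e) = z * e := by rw [← mul_assoc, hzc, mul_assoc, hee]
        have h2 : z * e * e = z * e := by rw [mul_assoc, hee]
        have h3 : z * e * (z * e) = z * z * e := by
          rw [mul_assoc, h1, ← mul_assoc]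
        have h4 : (e - z * e) * (e - z * e) = e * e - e * (z * e) - z * e * e + z * e * (z * e) := by
          noncomm_ring
        rw [h4, h1, h2, h3, hee, sub_mul]
        abel
      rw [e1]
      exact localIdealCoeff_mul_right hid hfl
    · intro ξ
      rw [om_sub, om_mul ξ.2 hc]
      by_cases hξ : ξ ∈ f
      · rw [he, om_blockElt_of_mem hξ, mul_one, ← memLocalIdeal_sub_comm]
        exact h ξ hξ
      · rw [he, om_blockElt_of_notMem hξ]
        simpa using memLocalIdeal_zero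
  have e2 : z * e - e = -(e - z * e) := by abel
  rw [e2]
  exact localIdealCoeff_neg key

end Nil

section Trunc

variable {G : Type*} [Group G] [Fintype G] {M : Ideal AlgInt} [hMp : M.IsPrime] {p : ℕ} [hp : Fact p.Prime]

/-- The centralizer of a subgroup. -/
abbrev Cen (P : Subgroup G) : Subgroup G := Subgroup.centralizer (P : Set G)

/-- The idempotent of a set of characters of `C_G(Q)`, in `ℂ[G]`. -/
noncomputable def Ee (Q : Subgroup G) (f : Set (IrrCharacter (Cen Q))) : MonoidAlgebra ℂ G :=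
  incl (Cen Q) (blockElt f)

theorem brauerOmega_coeff (P : Subgroup G) (z : MonoidAlgebra ℂ G) (ξ : Cen P → ℂ) :
    brauerOmega P (fun g => z.coeff g) ξ = om ξ (resAlg (Cen P) z) := by
  classical
  unfold brauerOmega om tr
  rw [finsum_eq_sum_of_fintype, Finset.sum_div]
  refine Finset.sum_congr rfl fun x _ => ?_
  rw [coeff_resAlg]

theorem blockCoeff_fun (B : Set (IrrCharacter G)) : blockCoeff B = fun g => (blockElt B).coeff g :=
  funext fun g => (coeff_blockElt B g).symm

theorem subgroupBlockCoeff_fun (H : Subgroup G) (f : Set (IrrCharacter H)) :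
    subgroupBlockCoeff H f = fun g => (incl H (blockElt f)).coeff g := by
  classical
  funext g
  unfold subgroupBlockCoeff
  by_cases hg : g ∈ H
  · have := coeff_incl_coe H (blockElt f) ⟨g, hg⟩
    simp only at this
    simp only [dif_pos hg]
    rw [this, coeff_blockElt]
  · simp only [dif_neg hg]
    rw [coeff_incl_of_notMem H _ hg]

theorem isBrauerPairOf_iff {B : Set (IrrCharacter G)} {Q : Subgroup G} {e : Set (IrrCharacter (Cen Q))} :
    IsBrauerPairOf p M B Q e ↔ IsBrauerPair p M Q e ∧ IsPBlock M B ∧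
      ∀ ξ ∈ e, MemLocalIdeal M (om (ξ : Cen Q → ℂ) (resAlg (Cen Q) (blockElt B)) - 1) := by
  unfold IsBrauerPairOf
  rw [blockCoeff_fun]
  simp only [brauerOmega_coeff]

theorem isNormalSubpair_iff {Q P : Subgroup G} {f : Set (IrrCharacter (Cen Q))} {e : Set (IrrCharacter (Cen P))} :
    IsNormalSubpair p M Q f P e ↔ IsBrauerPair p M Q f ∧ IsBrauerPair p M P e ∧ Q ≤ P ∧
      P ≤ Subgroup.normalizer (Q : Set G) ∧ (∀ x ∈ P, StabilizesBlock (Cen Q) f x) ∧
      ∀ ξ ∈ e, MemLocalIdeal M (om (ξ : Cen P → ℂ) (resAlg (Cen P) (Ee Q f)) - 1) := by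
  unfold IsNormalSubpair
  rw [subgroupBlockCoeff_fun]
  simp only [brauerOmega_coeff, Ee]

theorem Ee_mul_self (Q : Subgroup G) (f : Set (IrrCharacter (Cen Q))) : Ee Q f * Ee Q f = Ee Q f := by
  unfold Ee
  rw [← map_mul, blockElt_mul_self]

theorem localCoeff_Ee {Q : Subgroup G} {f : Set (IrrCharacter (Cen Q))} (hf : IsPBlock M f) :
    LocalCoeff M (Ee Q f) :=
  localCoeff_incl _ (localCoeff_blockElt (isBlockUnion_of_isPBlock hf))

theorem Ee_mul_eq_zero {Q : Subgroup G} {f f' : Set (IrrCharacter (Cen Q))} (hf : IsPBlock M f)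
    (hf' : IsPBlock M f') (hne : f ≠ f') : Ee Q f * Ee Q f' = 0 := by
  unfold Ee
  rw [← map_mul, blockElt_mul_eq_zero_of_ne hf hf' hne, map_zero]

theorem isInvBy_Ee_of_le {Q R : Subgroup G} (hR : R ≤ Cen Q) (f : Set (IrrCharacter (Cen Q))) :
    IsInvBy R (Ee Q f) := by
  intro u hu g
  have h := coeff_incl_conj_of_central (T := Cen Q) (isCentralElt_blockElt f) u⁻¹
    ((Cen Q).inv_mem (hR hu)) g
  simpa [Ee] using h

/-- Conjugation by an element normalizing a subgroup. -/
noncomputable def nConj {K : Subgroup G} {x : G} (hx : x ∈ Subgroup.normalizer (K : Set G)) : K ≃* K where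
  toFun k := ⟨x * k * x⁻¹, (Subgroup.mem_normalizer_iff.1 hx k).1 k.2⟩
  invFun k := ⟨x⁻¹ * k * x, by
    have := (Subgroup.mem_normalizer_iff.1 ((Subgroup.normalizer (K : Set G)).inv_mem hx) k).1 k.2
    simpa using this⟩
  left_inv k := Subtype.ext (by simp [mul_assoc])
  right_inv k := Subtype.ext (by simp [mul_assoc])
  map_mul' a b := Subtype.ext (by simp [mul_assoc])

@[simp] theorem nConj_coe {K : Subgroup G} {x : G} (hx : x ∈ Subgroup.normalizer (K : Set G)) (k : K) :
    ((nConj hx k : K) : G) = x * k * x⁻¹ := rfl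

@[simp] theorem nConj_symm_coe {K : Subgroup G} {x : G} (hx : x ∈ Subgroup.normalizer (K : Set G)) (k : K) :
    (((nConj hx).symm k : K) : G) = x⁻¹ * k * x := rfl

theorem isConjCharOf_mapIrr {K : Subgroup G} {x : G} (hx : x ∈ Subgroup.normalizer (K : Set G))
    (χ : IrrCharacter K) : IsConjCharOf K x (χ : K → ℂ) (mapIrr (nConj hx) χ : K → ℂ) := by
  intro k k' hk
  have : k' = nConj hx k := Subtype.ext hk
  rw [this, mapIrr_apply]

theorem eq_mapIrr_of_isConjCharOf {K : Subgroup G} {x : G} (hx : x ∈ Subgroup.normalizer (K : Set G))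
    {χ χ' : IrrCharacter K} (h : IsConjCharOf K x (χ : K → ℂ) (χ' : K → ℂ)) : χ' = mapIrr (nConj hx) χ := by
  apply Subtype.ext
  funext k
  rw [mapIrr_apply']
  exact h _ _ (by simp [mul_assoc])

theorem stabilizes_iff {K : Subgroup G} {e : Set (IrrCharacter K)} (he : IsPBlock M e) {x : G} :
    StabilizesBlock K e x ↔ ∃ hx : x ∈ Subgroup.normalizer (K : Set G), mapBlock (nConj hx) e = e := by
  constructor
  · rintro ⟨hx, h⟩
    refine ⟨hx, ?_⟩
    obtain ⟨θ₀, hθ₀⟩ := IsPBlock_nonempty he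
    obtain ⟨χ', hχ', hc⟩ := h θ₀ hθ₀
    have h1 := eq_mapIrr_of_isConjCharOf hx hc
    apply blocks_eq_or_disjoint (isPBlock_mapBlock _ he) he (θ := χ') _ hχ'
    rw [h1]
    exact ⟨θ₀, hθ₀, rfl⟩
  · rintro ⟨hx, h⟩
    refine ⟨hx, fun χ hχ => ⟨mapIrr (nConj hx) χ, ?_, isConjCharOf_mapIrr hx χ⟩⟩
    rw [← h]
    exact ⟨χ, hχ, rfl⟩

theorem isInvBy_incl_of_stable {K : Subgroup G} {e : Set (IrrCharacter K)} {x : G}
    (hx : x ∈ Subgroup.normalizer (K : Set G)) (h : mapBlock (nConj hx) e = e) (g : G) :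
    (incl K (blockElt e)).coeff (x * g * x⁻¹) = (incl K (blockElt e)).coeff g := by
  by_cases hg : g ∈ K
  · have e1 := coeff_incl_coe K (blockElt e) ⟨g, hg⟩
    have e2 := coeff_incl_coe K (blockElt e) (nConj hx ⟨g, hg⟩)
    simp only [nConj_coe] at e1 e2
    rw [e1, e2, coeff_blockElt, coeff_blockElt]
    conv_lhs => rw [← h]
    exact blockCoeff_mapBlock (nConj hx) e ⟨g, hg⟩
  · have hg' : x * g * x⁻¹ ∉ K := fun hc => hg ((Subgroup.mem_normalizer_iff.1 hx g).2 hc)
    rw [coeff_incl_of_notMem K _ hg, coeff_incl_of_notMem K _ hg']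

theorem normalizer_le_normalizer_cen {Q : Subgroup G} {x : G} (hx : x ∈ Subgroup.normalizer (Q : Set G)) :
    x ∈ Subgroup.normalizer ((Cen Q : Subgroup G) : Set G) := by
  rw [Subgroup.mem_normalizer_iff]
  intro h
  exact (conj_mem_centralizer_iff hx h).symm

theorem isInvBy_Ee_of_stable {Q P : Subgroup G} {f : Set (IrrCharacter (Cen Q))} (hf : IsPBlock M f)
    (hst : ∀ x ∈ P, StabilizesBlock (Cen Q) f x) : IsInvBy P (Ee Q f) := by
  intro u hu g
  obtain ⟨hx, h⟩ := (stabilizes_iff hf).1 (hst u hu)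
  exact isInvBy_incl_of_stable hx h g

theorem isCentralElt_resAlg_of_isInvBy {P : Subgroup G} {z : MonoidAlgebra ℂ G} (h : IsInvBy (Cen P) z) :
    IsCentralElt (resAlg (Cen P) z) := by
  intro x g
  rw [coeff_resAlg, coeff_resAlg]
  exact h x x.2 g

theorem resAlg_resG (T : Subgroup G) (z : MonoidAlgebra ℂ G) : resAlg T (resG T z) = resAlg T z := by
  apply ext_coeff
  intro g
  rw [coeff_resAlg, coeff_resAlg, coeff_resG_of_mem T _ g.2]

theorem localIdealCoeff_resAlg_mul_sub (hM : IsPModular p M) {P : Subgroup G} (hP : IsPGroup p P)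
    {z w : MonoidAlgebra ℂ G} (hz : IsInvBy P z) (hw : IsInvBy P w) (hzl : LocalCoeff M z)
    (hwl : LocalCoeff M w) :
    LocalIdealCoeff M (resAlg (Cen P) (z * w) - resAlg (Cen P) z * resAlg (Cen P) w) := by
  have h := localIdealCoeff_resAlg (H := Cen P) (localIdealCoeff_resG_mul_sub hM hP hz hw hzl hwl)
  rw [resAlg_sub, resAlg_resG, resAlg_mul_of_support _ (fun g hg => coeff_resG_of_notMem _ w hg),
    resAlg_resG, resAlg_resG] at h
  exact h

/-- The Brauer map followed by a central character is multiplicative mod the local ideal. -/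
theorem om_mul_congr (hM : IsPModular p M) {P : Subgroup G} (hP : IsPGroup p P) (ξ : IrrCharacter (Cen P))
    {z w : MonoidAlgebra ℂ G} (hz : IsInvBy P z) (hw : IsInvBy P w) (hzc : IsInvBy (Cen P) z)
    (hwc : IsInvBy (Cen P) w) (hzl : LocalCoeff M z) (hwl : LocalCoeff M w) :
    MemLocalIdeal M (om (ξ : Cen P → ℂ) (resAlg (Cen P) (z * w)) -
      om (ξ : Cen P → ℂ) (resAlg (Cen P) z) * om (ξ : Cen P → ℂ) (resAlg (Cen P) w)) := by
  have h1 := isCentralElt_resAlg_of_isInvBy hzc
  have h2 := isCentralElt_resAlg_of_isInvBy hwc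
  have h3 := isCentralElt_resAlg_of_isInvBy (hzc.mul hwc)
  rw [← om_mul ξ.2 h1, ← om_sub]
  exact memLocalIdeal_om_of_localIdealCoeff ξ.2 (isCentralElt_sub h3 (isCentralElt_mul h1 h2))
    (localIdealCoeff_resAlg_mul_sub hM hP hz hw hzl hwl)

theorem memLocalIdeal_or_of_idem {x : ℂ} (hx : MemLocalRing M x) (h : MemLocalIdeal M (x - x * x)) :
    MemLocalIdeal M x ∨ MemLocalIdeal M (x - 1) := by
  by_contra hcon
  push Not at hcon
  apply not_memLocalIdeal_mul hx (memLocalRing_sub hx memLocalRing_one) hcon.1 hcon.2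
  have e : x * (x - 1) = -(x - x * x) := by ring
  rw [e]
  exact memLocalIdeal_neg h

/-- The value of a central character on a Brauer image of an idempotent is `0` or `1` mod the local ideal. -/
theorem om_idem_cases (hM : IsPModular p M) {P : Subgroup G} (hP : IsPGroup p P) (ξ : IrrCharacter (Cen P))
    {z : MonoidAlgebra ℂ G} (hz : IsInvBy P z) (hzc : IsInvBy (Cen P) z) (hzl : LocalCoeff M z)
    (hid : z * z = z) :
    MemLocalIdeal M (om (ξ : Cen P → ℂ) (resAlg (Cen P) z)) ∨
      MemLocalIdeal M (om (ξ : Cen P → ℂ) (resAlg (Cen P) z) - 1) := by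
  apply memLocalIdeal_or_of_idem
    (memLocalRing_om ξ.2 (isCentralElt_resAlg_of_isInvBy hzc) (localCoeff_resAlg _ hzl))
  have := om_mul_congr hM hP ξ hz hz hzc hzc hzl hzl
  rwa [hid] at this

theorem om_block_congr {P : Subgroup G} {e : Set (IrrCharacter (Cen P))} (he : IsPBlock M e)
    {ξ ξ₀ : IrrCharacter (Cen P)} (hξ : ξ ∈ e) (hξ₀ : ξ₀ ∈ e) {z : MonoidAlgebra ℂ G}
    (hzc : IsInvBy (Cen P) z) (hzl : LocalCoeff M z)
    (h : MemLocalIdeal M (om (ξ₀ : Cen P → ℂ) (resAlg (Cen P) z) - 1)) :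
    MemLocalIdeal M (om (ξ : Cen P → ℂ) (resAlg (Cen P) z) - 1) := by
  have h1 := memLocalIdeal_om_sub ξ.2 ξ₀.2 (sameBlock_of_mem he hξ hξ₀)
    (isCentralElt_resAlg_of_isInvBy hzc) (localCoeff_resAlg _ hzl)
  exact memLocalIdeal_sub_trans h1 h

theorem not_both_one {x y : ℂ} (hx : MemLocalIdeal M (x - 1)) (hy : MemLocalIdeal M (y - 1))
    (h : MemLocalIdeal M (x * y)) (hxl : MemLocalRing M x) : False := by
  have e : (1 : ℂ) = x * y - x * (y - 1) - (x - 1) := by ring
  apply not_memLocalIdeal_one (M := M)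
  rw [e]
  exact memLocalIdeal_sub (memLocalIdeal_sub h (memLocalIdeal_mul_left hxl hy)) hx

theorem resAlg_sum {ι : Type*} (T : Subgroup G) (s : Finset ι) (f : ι → MonoidAlgebra ℂ G) :
    resAlg T (∑ i ∈ s, f i) = ∑ i ∈ s, resAlg T (f i) := by
  classical
  induction s using Finset.induction_on with
  | empty => simp [resAlg_zero]
  | insert a s ha ih => rw [Finset.sum_insert ha, Finset.sum_insert ha, resAlg_add, ih]

theorem resAlg_one (T : Subgroup G) : resAlg T (1 : MonoidAlgebra ℂ G) = 1 := by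
  have := resAlg_incl T (1 : MonoidAlgebra ℂ T)
  rwa [map_one] at this

/-- **Every Brauer pair belongs to exactly one block.** -/
theorem existsUnique_block_of_pair (hM : IsPModular p M) {P : Subgroup G} {e : Set (IrrCharacter (Cen P))}
    (hPe : IsBrauerPair p M P e) : ∃! B : Set (IrrCharacter G), IsBrauerPairOf p M B P e := by
  classical
  obtain ⟨hP, he⟩ := hPe
  obtain ⟨ξ₀, hξ₀⟩ := IsPBlock_nonempty he
  have hinv : ∀ B : Set (IrrCharacter G), IsInvBy P (blockElt B) ∧ IsInvBy (Cen P) (blockElt B) :=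
    fun B => ⟨(isCentralElt_blockElt B).isInvBy _, (isCentralElt_blockElt B).isInvBy _⟩
  have hsum : ∑ B : Blocks M G, om (ξ₀ : Cen P → ℂ) (resAlg (Cen P) (blockElt B.1)) = 1 := by
    rw [← om_sum, ← resAlg_sum, sum_blockElt_eq_one, resAlg_one, om_one ξ₀.2]
  have hex : ∃ B : Blocks M G, ¬ MemLocalIdeal M (om (ξ₀ : Cen P → ℂ) (resAlg (Cen P) (blockElt B.1))) := by
    by_contra hcon
    push Not at hcon
    apply not_memLocalIdeal_one (M := M)
    rw [← hsum]
    exact memLocalIdeal_sum _ _ fun B _ => hcon B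
  obtain ⟨B, hB⟩ := hex
  have hBl := localCoeff_blockElt (isBlockUnion_of_isPBlock B.2)
  have h1 := (om_idem_cases hM hP ξ₀ (hinv B.1).1 (hinv B.1).2 hBl (blockElt_mul_self _)).resolve_left hB
  refine ⟨B.1, isBrauerPairOf_iff.2 ⟨⟨hP, he⟩, B.2, fun ξ hξ =>
    om_block_congr he hξ hξ₀ (hinv B.1).2 hBl h1⟩, ?_⟩
  intro B' hB'
  obtain ⟨-, hB'b, h2⟩ := isBrauerPairOf_iff.1 hB'
  by_contra hne
  have h3 := blockElt_mul_eq_zero_of_ne hB'b B.2 hne
  have h4 := om_mul_congr hM hP ξ₀ (hinv B').1 (hinv B.1).1 (hinv B').2 (hinv B.1).2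
    (localCoeff_blockElt (isBlockUnion_of_isPBlock hB'b)) hBl
  rw [h3, resAlg_zero, om_zero, zero_sub] at h4
  refine not_both_one (h2 ξ₀ hξ₀) h1 ?_ (memLocalRing_om ξ₀.2
    (isCentralElt_resAlg_of_isInvBy (hinv B').2)
    (localCoeff_resAlg _ (localCoeff_blockElt (isBlockUnion_of_isPBlock hB'b))))
  simpa using memLocalIdeal_neg h4

end Trunc

end Cfsg.Agent.Lib.BPair
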