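import Cfsg.Agent.Lib.BPair.Max

/-!
# The central character of a Brauer pair; Brauer's third main theorem for pairs
-/

set_option autoImplicit false
set_option linter.unusedSectionVars false
set_option linter.unusedSimpArgs false
set_option linter.unusedVariables false

open scoped ComplexConjugate
open Cfsg MonoidAlgebra
open Cfsg.Agent.Lib.Block Cfsg.Agent.Lib.Char Cfsg.Agent.Lib.CharExtra

namespace Cfsg.Agent.Lib.BPair

attribute [local instance] subFintype

section

variable {G : Type*} [Group G] [Fintype G] {M : Ideal AlgInt} [hMp : M.IsPrime] {p : ℕ} [hp : Fact p.Prime]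

theorem memLocalIdeal_of_pow {a : ℂ} (ha : MemLocalRing M a) {k : ℕ} (h : MemLocalIdeal M (a ^ k)) :
    MemLocalIdeal M a := by
  induction k with
  | zero =>
    exfalso
    apply not_memLocalIdeal_one (M := M)
    simpa using h
  | succ k ih =>
    by_contra hcon
    rw [pow_succ] at h
    by_cases h1 : MemLocalIdeal M (a ^ k)
    · exact hcon (ih h1)
    · exact not_memLocalIdeal_mul (memLocalRing_pow ha k) ha h1 hcon h

theorem om_resAlg_pow (hM : IsPModular p M) {Q : Subgroup G} (hQ : IsPGroup p Q) (ξ : IrrCharacter (Cen Q))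
    {z : MonoidAlgebra ℂ G} (hzc : IsCentralElt z) (hzl : LocalCoeff M z) (k : ℕ) :
    MemLocalIdeal M (om (ξ : Cen Q → ℂ) (resAlg (Cen Q) (z ^ k)) - (om (ξ : Cen Q → ℂ) (resAlg (Cen Q) z)) ^ k) := by
  have hlz : MemLocalRing M (om (ξ : Cen Q → ℂ) (resAlg (Cen Q) z)) :=
    memLocalRing_om ξ.2 (isCentralElt_resAlg_of_isInvBy (hzc.isInvBy _)) (localCoeff_resAlg _ hzl)
  induction k with
  | zero =>
    rw [pow_zero, pow_zero, resAlg_one, om_one ξ.2, sub_self]
    exact memLocalIdeal_zero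
  | succ k ih =>
    rw [pow_succ, pow_succ]
    have h2 := om_mul_congr hM hQ ξ ((isCentralElt_pow hzc k).isInvBy Q) (hzc.isInvBy Q)
      ((isCentralElt_pow hzc k).isInvBy _) (hzc.isInvBy _) (localCoeff_pow hzl k) hzl
    have e : om (ξ : Cen Q → ℂ) (resAlg (Cen Q) (z ^ k * z)) - (om (ξ : Cen Q → ℂ) (resAlg (Cen Q) z)) ^ k *
        om (ξ : Cen Q → ℂ) (resAlg (Cen Q) z) =
        (om (ξ : Cen Q → ℂ) (resAlg (Cen Q) (z ^ k * z)) -
          om (ξ : Cen Q → ℂ) (resAlg (Cen Q) (z ^ k)) * om (ξ : Cen Q → ℂ) (resAlg (Cen Q) z)) +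
        (om (ξ : Cen Q → ℂ) (resAlg (Cen Q) (z ^ k)) - (om (ξ : Cen Q → ℂ) (resAlg (Cen Q) z)) ^ k) *
          om (ξ : Cen Q → ℂ) (resAlg (Cen Q) z) := by ring
    rw [e]
    exact memLocalIdeal_add h2 (memLocalIdeal_mul_right ih hlz)

/-- If all central characters vanish mod the ideal then so does the truncated one. -/
theorem om_resAlg_of_om (hM : IsPModular p M) {Q : Subgroup G} (hQ : IsPGroup p Q) (ξ : IrrCharacter (Cen Q))
    {x : MonoidAlgebra ℂ G} (hxc : IsCentralElt x) (hxl : LocalCoeff M x)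
    (h : ∀ χ : IrrCharacter G, MemLocalIdeal M (om (χ : G → ℂ) x)) :
    MemLocalIdeal M (om (ξ : Cen Q → ℂ) (resAlg (Cen Q) x)) := by
  have h1 := localIdealCoeff_pow_of_om hxc hxl h
  have h2 := om_resAlg_pow hM hQ ξ hxc hxl (Fintype.card (IrrCharacter G))
  have h3 := memLocalIdeal_om_of_localIdealCoeff ξ.2
    (isCentralElt_resAlg_of_isInvBy ((isCentralElt_pow hxc _).isInvBy _)) (localIdealCoeff_resAlg (H := Cen Q) h1)
  have h4 := memLocalIdeal_sub h3 h2
  rw [sub_sub_cancel] at h4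
  exact memLocalIdeal_of_pow (memLocalRing_om ξ.2 (isCentralElt_resAlg_of_isInvBy (hxc.isInvBy _))
    (localCoeff_resAlg _ hxl)) h4

theorem resAlg_smul_one (H : Subgroup G) (t : ℂ) : resAlg H (t • (1 : MonoidAlgebra ℂ G)) = t • 1 := by
  apply ext_coeff
  intro h
  rw [coeff_resAlg, MonoidAlgebra.coeff_smul, MonoidAlgebra.coeff_smul, Finsupp.smul_apply, Finsupp.smul_apply]
  congr 1
  have := congrArg (fun w => MonoidAlgebra.coeff w h) (resAlg_one H)
  simp only [coeff_resAlg] at this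
  exact this

/-- **The central character of a pair.** For a pair `(Q,e)` of `B`, the central character of `ξ ∈ e`
composed with the truncation agrees modulo the ideal with the central character of `χ ∈ B`. -/
theorem om_resAlg_congr (hM : IsPModular p M) {B : Set (IrrCharacter G)} {Q : Subgroup G}
    {e : Set (IrrCharacter (Cen Q))} (h : IsBrauerPairOf p M B Q e) {ξ : IrrCharacter (Cen Q)} (hξ : ξ ∈ e)
    {χ : IrrCharacter G} (hχ : χ ∈ B) {z : MonoidAlgebra ℂ G} (hzc : IsCentralElt z) (hzl : LocalCoeff M z) :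
    MemLocalIdeal M (om (ξ : Cen Q → ℂ) (resAlg (Cen Q) z) - om (χ : G → ℂ) z) := by
  classical
  obtain ⟨hQe, hB, hom⟩ := isBrauerPairOf_iff.1 h
  have hQ := hQe.1
  obtain ⟨t, ht⟩ : ∃ t, t = om (χ : G → ℂ) z := ⟨_, rfl⟩
  have htl : MemLocalRing M t := ht ▸ memLocalRing_om χ.2 hzc hzl
  have h1c : IsCentralElt (t • (1 : MonoidAlgebra ℂ G)) := isCentralElt_smul _ isCentralElt_one
  have h1l : LocalCoeff M (t • (1 : MonoidAlgebra ℂ G)) := localCoeff_smul htl localCoeff_one
  have hbc := isCentralElt_blockElt B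
  have hbl : LocalCoeff M (blockElt B) := localCoeff_blockElt (isBlockUnion_of_isPBlock hB)
  have hvc : IsCentralElt (z - t • (1 : MonoidAlgebra ℂ G)) := isCentralElt_sub hzc h1c
  have hvl : LocalCoeff M (z - t • (1 : MonoidAlgebra ℂ G)) := localCoeff_sub hzl h1l
  have h2 : MemLocalIdeal M (om (ξ : Cen Q → ℂ) (resAlg (Cen Q) ((z - t • (1 : MonoidAlgebra ℂ G)) * blockElt B))) := by
    refine om_resAlg_of_om hM hQ ξ (isCentralElt_mul hvc hbc) (localCoeff_mul hvl hbl) ?_
    intro χ'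
    rw [om_mul χ'.2 hvc]
    by_cases hχ' : χ' ∈ B
    · rw [om_blockElt_of_mem hχ', mul_one, om_sub, om_smul, om_one χ'.2, mul_one, ht]
      exact memLocalIdeal_om_sub χ'.2 χ.2 (sameBlock_of_mem hB hχ' hχ) hzc hzl
    · rw [om_blockElt_of_notMem hχ', mul_zero]
      exact memLocalIdeal_zero
  have h3 := om_mul_congr hM hQ ξ (hvc.isInvBy Q) (hbc.isInvBy Q) (hvc.isInvBy _) (hbc.isInvBy _) hvl hbl
  have h4 : MemLocalIdeal M (om (ξ : Cen Q → ℂ) (resAlg (Cen Q) (z - t • (1 : MonoidAlgebra ℂ G))) *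
      om (ξ : Cen Q → ℂ) (resAlg (Cen Q) (blockElt B))) := by
    have := memLocalIdeal_sub h2 h3
    rwa [sub_sub_cancel] at this
  have h5 : om (ξ : Cen Q → ℂ) (resAlg (Cen Q) (z - t • (1 : MonoidAlgebra ℂ G))) =
      om (ξ : Cen Q → ℂ) (resAlg (Cen Q) z) - t := by
    rw [resAlg_sub, resAlg_smul_one, om_sub, om_smul, om_one ξ.2, mul_one]
  rw [h5] at h4
  have hll : MemLocalRing M (om (ξ : Cen Q → ℂ) (resAlg (Cen Q) z) - t) :=
    memLocalRing_sub (memLocalRing_om ξ.2 (isCentralElt_resAlg_of_isInvBy (hzc.isInvBy _))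
      (localCoeff_resAlg _ hzl)) htl
  have e : om (ξ : Cen Q → ℂ) (resAlg (Cen Q) z) - t =
      (om (ξ : Cen Q → ℂ) (resAlg (Cen Q) z) - t) * om (ξ : Cen Q → ℂ) (resAlg (Cen Q) (blockElt B)) -
      (om (ξ : Cen Q → ℂ) (resAlg (Cen Q) z) - t) * (om (ξ : Cen Q → ℂ) (resAlg (Cen Q) (blockElt B)) - 1) := by
    ring
  rw [← ht, e]
  exact memLocalIdeal_sub h4 (memLocalIdeal_mul_left hll (hom ξ hξ))

/-- The action by conjugation of a subgroup on the group. -/
@[reducible] def conjActSub (Q : Subgroup G) : MulAction Q G where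
  smul u g := (u : G) * g * (u : G)⁻¹
  one_smul g := by
    show ((1 : Q) : G) * g * ((1 : Q) : G)⁻¹ = g
    simp
  mul_smul a b g := by
    show ((a * b : Q) : G) * g * ((a * b : Q) : G)⁻¹ = (a : G) * ((b : G) * g * (b : G)⁻¹) * (a : G)⁻¹
    simp only [Subgroup.coe_mul]
    group

/-- The truncation of the trivial character. -/
theorem om_one_resAlg (hM : IsPModular p M) {Q : Subgroup G} (hQ : IsPGroup p Q) {z : MonoidAlgebra ℂ G}
    (hzc : IsCentralElt z) (hzl : LocalCoeff M z) :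
    MemLocalIdeal M (om (oneIrr G : G → ℂ) z - om (oneIrr (Cen Q) : Cen Q → ℂ) (resAlg (Cen Q) z)) := by
  classical
  letI := conjActSub Q
  have e1 : om (oneIrr G : G → ℂ) z = ∑ g : G, z.coeff g := by
    unfold om tr
    simp [oneIrr_coe]
  have e2 : om (oneIrr (Cen Q) : Cen Q → ℂ) (resAlg (Cen Q) z) = ∑ g : G, if g ∈ Cen Q then z.coeff g else 0 := by
    unfold om tr
    simp only [oneIrr_coe, coeff_resAlg, mul_one, div_one]
    rw [← Finset.sum_filter, ← Finset.sum_subtype (p := fun g => g ∈ Cen Q)]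
    intro g
    simp
  rw [e1, e2, ← Finset.sum_sub_distrib]
  refine memLocalIdeal_sum_of_fixed hM (Γ := Q) hQ _ ?_ ?_ ?_
  · intro u g
    have h1 : u • g = (u : G) * g * (u : G)⁻¹ := rfl
    have h2 : (u : G) * g * (u : G)⁻¹ ∈ Cen Q ↔ g ∈ Cen Q := by
      have := Subgroup.mem_normalizer_iff.1 (normalizer_le_normalizer_cen (Subgroup.le_normalizer u.2)) g
      exact this.symm
    rw [h1, hzc]
    simp only [h2]
  · intro g
    refine memLocalRing_sub (hzl g) ?_
    split_ifs
    · exact hzl g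
    · exact memLocalRing_zero
  · intro g hg
    have h1 : g ∈ Cen Q := by
      rw [Subgroup.mem_centralizer_iff]
      intro u hu
      have h2 : (u : G) * g * (u : G)⁻¹ = g := hg ⟨u, hu⟩
      exact mul_inv_eq_iff_eq_mul.1 h2
    rw [if_pos h1, sub_self]
    exact memLocalIdeal_zero

/-- **Brauer's third main theorem for pairs.** -/
theorem isBrauerPairOf_principal_iff (hM : IsPModular p M) {Q : Subgroup G} (hQ : IsPGroup p Q)
    {e : Set (IrrCharacter (Cen Q))} (he : IsPBlock M e) :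
    IsBrauerPairOf p M (principalBlock M G) Q e ↔ e = principalBlock M (Cen Q) := by
  classical
  constructor
  · intro h
    obtain ⟨ξ, hξ⟩ := IsPBlock_nonempty he
    have h1 := om_resAlg_congr hM h hξ (oneIrr_mem_principalBlock (M := M) (G := G)) (isCentralElt_regSum p)
      (localCoeff_regSum p)
    have hξ0 : ξ ∈ principalBlock M (Cen Q) := by
      by_contra hcon
      rw [resAlg_regSum, om_regSum_of_notMem hM hcon, zero_sub, oneIrr_coe, om_one_regSum] at h1
      have h2 := memLocalIdeal_neg h1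
      rw [neg_neg] at h2
      exact not_memLocalIdeal_card_regular hM h2
    exact blocks_eq_or_disjoint he (isPBlock_principalBlock) hξ hξ0
  · rintro rfl
    have hb : IsPBlock M (principalBlock M G) := isPBlock_principalBlock
    have hbl : LocalCoeff M (blockElt (principalBlock M G)) := localCoeff_blockElt (isBlockUnion_of_isPBlock hb)
    have hbc := isCentralElt_blockElt (principalBlock M G)
    refine isBrauerPairOf_iff.2 ⟨⟨hQ, he⟩, hb, fun ξ hξ => ?_⟩
    refine om_block_congr he hξ (oneIrr_mem_principalBlock (M := M)) (hbc.isInvBy _) hbl ?_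
    have h1 := om_one_resAlg hM hQ hbc hbl
    rw [om_blockElt_of_mem (oneIrr_mem_principalBlock (M := M) (G := G))] at h1
    have h2 := memLocalIdeal_neg h1
    rwa [neg_sub] at h2

end

end Cfsg.Agent.Lib.BPair
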