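import Cfsg.Agent.Lib.BPair.Fully
import Cfsg.Agent.Lib.BPair.Third
import Cfsg.Agent.Lib.Block.CentralDefect3
import Cfsg.Agent.Lib.Block.Fong

/-!
# Blocks with a central defect group and Blau's theorem

For a block `f` of `X` with a central defect group the regular parts of the members of `f` are proportional.
For a character `ψ` this gives the formula for the `f`-part of `ψ` at a regular element in terms of the central
character at the element `zeta p ψ`.
-/

set_option autoImplicit false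
set_option linter.unusedSectionVars false
set_option linter.unusedSimpArgs false
set_option linter.unusedVariables false

open scoped ComplexConjugate
open Cfsg MonoidAlgebra
open Cfsg.Agent.Lib.Block Cfsg.Agent.Lib.Char Cfsg.Agent.Lib.CharExtra

namespace Cfsg.Agent.Lib.BPair

attribute [local instance] subFintype

section RegProp

variable {X : Type*} [Group X] [Fintype X] {p : ℕ} [hp : Fact p.Prime] {M : Ideal AlgInt}

/-- The members of `f` have proportional values on regular elements. -/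
def RegProp (p : ℕ) (f : Set (IrrCharacter X)) : Prop :=
  ∀ ζ ∈ f, ∀ ζ' ∈ f, ∀ y : X, ¬ p ∣ orderOf y → (ζ : X → ℂ) y * (ζ' : X → ℂ) 1 = (ζ : X → ℂ) 1 * (ζ' : X → ℂ) y

theorem not_dvd_orderOf_inv {y : X} (h : ¬ p ∣ orderOf y) : ¬ p ∣ orderOf y⁻¹ := by
  rwa [orderOf_inv]

/-- A block with a central defect group has proportional regular parts. -/
theorem regProp_of_central (hM : IsPModular p M) {f : Set (IrrCharacter X)} (hf : IsPBlock M f)
    {Z : Subgroup X} (hZ : ∀ g : X, g ∈ Subgroup.centralizer (Z : Set X)) (hD : IsDefectGroup p M f Z) :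
    RegProp p f := by
  classical
  haveI hZn : Z.Normal := by
    constructor
    intro n hn g
    have h1 := hZ g
    rw [Subgroup.mem_centralizer_iff] at h1
    have h2 := h1 n hn
    rw [← h2, mul_inv_cancel_right]
    exact hn
  haveI : Fintype (X ⧸ Z) := Fintype.ofFinite _
  have hP := isPGroup_of_isDefectGroup hD
  have hC : ∀ g : X, ¬ p ∣ orderOf g → g ∈ Subgroup.centralizer (Z : Set X) := fun g _ => hZ g
  obtain ⟨ψ, θ, hθ, hθψ⟩ := exists_inflate_mem_block hM hP hC hf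
  have hθi : θ = Cfsg.Agent.Lib.Degree.inflate Z ψ := Subtype.ext hθψ
  subst hθi
  have hsing := blockOf_quot_singleton hM hD hθ
  have key : ∀ ζ ∈ f, ∀ y : X, ¬ p ∣ orderOf y → (ζ : X → ℂ) y * (ψ : X ⧸ Z → ℂ) 1 =
      (ζ : X → ℂ) 1 * (ψ : X ⧸ Z → ℂ) (y : X ⧸ Z) := fun ζ hζ y hy =>
    irr_reg_eq hM hP hC hf hθ hsing hζ hy
  have hψ1 : (ψ : X ⧸ Z → ℂ) 1 ≠ 0 := isIrr_one_ne_zero ψ.2
  intro ζ hζ ζ' hζ' y hy
  have h1 := key ζ hζ y hy
  have h2 := key ζ' hζ' y hy
  have h3 := key ζ' hζ' 1 (by simpa using hp.out.one_lt.ne')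
  apply mul_right_cancel₀ hψ1
  linear_combination ((ζ' : X → ℂ) 1) * h1 - ((ζ : X → ℂ) 1) * h2

theorem blockCoeff_one_mul_of_regProp {f : Set (IrrCharacter X)} (hprop : RegProp p f) {θ : IrrCharacter X}
    (hθ : θ ∈ f) {c : X} (hc : ¬ p ∣ orderOf c) :
    blockCoeff f c * (θ : X → ℂ) 1 = blockCoeff f 1 * (θ : X → ℂ) c⁻¹ := by
  classical
  rw [blockCoeff_eq_sum, blockCoeff_eq_sum, mul_assoc, mul_assoc]
  congr 1
  rw [Finset.sum_mul, Finset.sum_mul]
  refine Finset.sum_congr rfl fun ζ _ => ?_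
  by_cases hζ : ζ ∈ f
  · rw [if_pos hζ, if_pos hζ, ← IsCharacter.map_inv' (IsIrrCharacter.isCharacter ζ.2)]
    have h1 := hprop ζ hζ θ hθ c⁻¹ (not_dvd_orderOf_inv hc)
    have h2 : conj ((ζ : X → ℂ) 1) = (ζ : X → ℂ) 1 := by
      rw [← IsCharacter.map_inv' (IsIrrCharacter.isCharacter ζ.2), inv_one]
    simp only [h2]
    linear_combination ((ζ : X → ℂ) 1) * h1
  · rw [if_neg hζ, if_neg hζ]
    simp

/-- The sum `Σ_c e_f(c) ψ(c)` in terms of the element `zeta`. -/
theorem tr_blockElt_of_regProp (hM : IsPModular p M) {f : Set (IrrCharacter X)} (hf : IsPBlock M f)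
    (hprop : RegProp p f) {θ : IrrCharacter X} (hθ : θ ∈ f) (ψ : X → ℂ) (hinv : ∀ c : X, ψ c⁻¹ = conj (ψ c)) :
    tr ψ (blockElt f) = blockCoeff f 1 * om (θ : X → ℂ) (zeta p ψ) := by
  classical
  have := isPModular_isPrime hM
  have hU := isBlockUnion_of_isPBlock hf
  have hθ1 : (θ : X → ℂ) 1 ≠ 0 := isIrr_one_ne_zero θ.2
  unfold om zeta
  rw [tr_ofFun, ← mul_div_assoc, eq_div_iff hθ1]
  unfold tr
  have e1 : ∀ c : X, (blockElt f).coeff c * ψ c * (θ : X → ℂ) 1 =
      if p ∣ orderOf c then 0 else blockCoeff f 1 * ((θ : X → ℂ) c⁻¹ * ψ c) := by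
    intro c
    rw [coeff_blockElt]
    split_ifs with h
    · have h0 : blockCoeff f c = 0 := by
        by_contra hne
        exact regular_of_blockCoeff_ne_zero hM hU hne h
      rw [h0]
      ring
    · have := blockCoeff_one_mul_of_regProp hprop hθ h
      linear_combination (ψ c) * this
  rw [Finset.sum_mul, Finset.sum_congr rfl fun c _ => e1 c, Finset.mul_sum]
  rw [← Equiv.sum_comp (Equiv.inv X)]
  refine Finset.sum_congr rfl fun c _ => ?_
  simp only [Equiv.inv_apply, orderOf_inv, inv_inv, hinv]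
  split_ifs
  · simp
  · ring

/-- The `f`-part of `ψ` at a regular element. -/
theorem tr_blockElt_mul_single_of_regProp (hM : IsPModular p M) {f : Set (IrrCharacter X)} (hf : IsPBlock M f)
    (hprop : RegProp p f) {θ : IrrCharacter X} (hθ : θ ∈ f) (ψ : X → ℂ) (hψ : IsClassFunction X ψ)
    (hinv : ∀ c : X, ψ c⁻¹ = conj (ψ c)) {y : X} (hy : ¬ p ∣ orderOf y) :
    tr ψ (blockElt f * MonoidAlgebra.single y⁻¹ 1) = blockCoeff f y * om (θ : X → ℂ) (zeta p ψ) := by
  classical
  have hθ1 : (θ : X → ℂ) 1 ≠ 0 := isIrr_one_ne_zero θ.2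
  have hy' := not_dvd_orderOf_inv hy
  have h1 : tr ψ (blockElt f * MonoidAlgebra.single y⁻¹ 1) * (θ : X → ℂ) 1 =
      (θ : X → ℂ) y⁻¹ * tr ψ (blockElt f) := by
    have e := tr_blockElt_mul ψ hψ f 1
    rw [mul_one] at e
    rw [tr_blockElt_mul ψ hψ f, e, Finset.sum_mul, Finset.mul_sum]
    refine Finset.sum_congr rfl fun ζ _ => ?_
    by_cases hζ : ζ ∈ f
    · rw [if_pos hζ, if_pos hζ, tr_single, tr_one, one_mul]
      have := hprop ζ hζ θ hθ y⁻¹ hy'
      linear_combination (classInner ψ (ζ : X → ℂ)) * this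
    · rw [if_neg hζ, if_neg hζ]
      simp
  have h2 := blockCoeff_one_mul_of_regProp hprop hθ hy
  rw [tr_blockElt_of_regProp hM hf hprop hθ ψ hinv] at h1
  apply mul_right_cancel₀ hθ1
  linear_combination h1 - (om (θ : X → ℂ) (zeta p ψ)) * h2

end RegProp

section Orbit

variable {H : Type*} [Group H] [Fintype H] {p : ℕ} [hp : Fact p.Prime] {M : Ideal AlgInt} [hMp : M.IsPrime]

/-- Conjugation by a subgroup. -/
@[reducible] def conjAct' (Q : Subgroup H) : MulAction Q H where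
  smul u g := (u : H) * g * (u : H)⁻¹
  one_smul g := by
    show ((1 : Q) : H) * g * ((1 : Q) : H)⁻¹ = g
    simp
  mul_smul u v g := by
    show ((u * v : Q) : H) * g * ((u * v : Q) : H)⁻¹ = (u : H) * ((v : H) * g * (v : H)⁻¹) * (u : H)⁻¹
    push_cast
    group

theorem conj_mem_cen_iff {Q : Subgroup H} {u g : H} (hu : u ∈ Q) : u * g * u⁻¹ ∈ Cen Q ↔ g ∈ Cen Q := by
  rw [Subgroup.mem_centralizer_iff, Subgroup.mem_centralizer_iff]
  constructor
  · intro h v hv
    have hv' : u * v * u⁻¹ ∈ (Q : Set H) := Q.mul_mem (Q.mul_mem hu hv) (Q.inv_mem hu)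
    have h1 := h _ hv'
    have h2 : u * (v * g) * u⁻¹ = u * (g * v) * u⁻¹ := by
      calc u * (v * g) * u⁻¹ = (u * v * u⁻¹) * (u * g * u⁻¹) := by group
        _ = (u * g * u⁻¹) * (u * v * u⁻¹) := h1
        _ = u * (g * v) * u⁻¹ := by group
    exact mul_left_cancel (mul_right_cancel h2)
  · intro h v hv
    have hv' : u⁻¹ * v * u ∈ (Q : Set H) := by
      have := Q.mul_mem (Q.mul_mem (Q.inv_mem hu) hv) hu
      exact this
    have h1 := h _ hv'
    calc v * (u * g * u⁻¹) = u * ((u⁻¹ * v * u) * g) * u⁻¹ := by group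
      _ = u * (g * (u⁻¹ * v * u)) * u⁻¹ := by rw [h1]
      _ = (u * g * u⁻¹) * v := by group

/-- The trace of an invariant element only sees the fixed points. -/
theorem memLocalIdeal_tr_sub_resG (hM : IsPModular p M) {Q : Subgroup H} (hQ : IsPGroup p Q)
    {z : MonoidAlgebra ℂ H} (hz : IsInvBy Q z) (hzl : LocalCoeff M z) {φ : H → ℂ} (hφ : IsClassFunction H φ)
    (hφl : ∀ g, MemLocalRing M (φ g)) :
    MemLocalIdeal M (tr φ z - tr φ (resG (Cen Q) z)) := by
  classical
  letI := conjAct' Q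
  have hsm : ∀ (u : Q) (g : H), u • g = (u : H) * g * (u : H)⁻¹ := fun _ _ => rfl
  have e : tr φ z - tr φ (resG (Cen Q) z) = ∑ g, (z.coeff g - (resG (Cen Q) z).coeff g) * φ g := by
    unfold tr
    rw [← Finset.sum_sub_distrib]
    refine Finset.sum_congr rfl fun g _ => ?_
    ring
  rw [e]
  refine Cfsg.Agent.Lib.Block.memLocalIdeal_sum_of_orbit (Γ := Q) hM hQ _ ?_ ?_ ?_
  · intro g
    exact memLocalRing_mul (memLocalRing_sub (hzl g) (localCoeff_resG _ hzl g)) (hφl g)
  · intro u g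
    rw [hsm, hφ g u, hz _ u.2 g]
    have e2 : (resG (Cen Q) z).coeff ((u : H) * g * (u : H)⁻¹) = (resG (Cen Q) z).coeff g := by
      by_cases hg : g ∈ Cen Q
      · rw [coeff_resG_of_mem _ _ hg, coeff_resG_of_mem _ _ ((conj_mem_cen_iff u.2).2 hg), hz _ u.2 g]
      · rw [coeff_resG_of_notMem _ _ hg, coeff_resG_of_notMem _ _ (fun h => hg ((conj_mem_cen_iff u.2).1 h))]
    rw [e2, sub_self]
    exact memLocalIdeal_zero
  · intro g hg
    have hg' : g ∈ Cen Q := by
      rw [Subgroup.mem_centralizer_iff]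
      intro v hv
      have h1 : (⟨v, hv⟩ : Q) • g = g := hg _
      rw [hsm] at h1
      simp only at h1
      calc v * g = (v * g * v⁻¹) * v := by group
        _ = g * v := by rw [h1]
    rw [coeff_resG_of_mem _ _ hg', sub_self, zero_mul]
    exact memLocalIdeal_zero

theorem memLocalIdeal_tr_of_localIdealCoeff {z : MonoidAlgebra ℂ H} (hz : LocalIdealCoeff M z) {φ : H → ℂ}
    (hφl : ∀ g, MemLocalRing M (φ g)) : MemLocalIdeal M (tr φ z) := by
  unfold tr
  exact memLocalIdeal_sum _ _ fun g _ => memLocalIdeal_mul_right (hz g) (hφl g)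

theorem memLocalRing_tr_of_localCoeff {z : MonoidAlgebra ℂ H} (hz : LocalCoeff M z) {φ : H → ℂ}
    (hφl : ∀ g, MemLocalRing M (φ g)) : MemLocalRing M (tr φ z) := by
  unfold tr
  exact memLocalRing_sum _ _ fun g _ => memLocalRing_mul (hz g) (hφl g)

theorem isInvBy_of_support {Q : Subgroup H} {w : MonoidAlgebra ℂ H} (hw : ∀ g, g ∉ Cen Q → w.coeff g = 0) :
    IsInvBy Q w := by
  intro u hu g
  by_cases hg : g ∈ Cen Q
  · have h1 := Subgroup.mem_centralizer_iff.1 hg u hu
    rw [h1, mul_inv_cancel_right]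
  · rw [hw g hg, hw _ (fun h => hg ((conj_mem_cen_iff hu).1 h))]

theorem resG_of_support {T : Subgroup H} {w : MonoidAlgebra ℂ H} (hw : ∀ g, g ∉ T → w.coeff g = 0) :
    resG T w = w := by
  apply ext_coeff
  intro g
  by_cases hg : g ∈ T
  · rw [coeff_resG_of_mem _ _ hg]
  · rw [coeff_resG_of_notMem _ _ hg, hw g hg]

/-- Multiplying an element supported on `C(Q)` by an invariant element: only the `C(Q)`-part matters. -/
theorem memLocalIdeal_tr_mul_sub (hM : IsPModular p M) {Q : Subgroup H} (hQ : IsPGroup p Q)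
    {a w : MonoidAlgebra ℂ H} (ha : IsInvBy Q a) (hal : LocalCoeff M a) (hwl : LocalCoeff M w)
    (hws : ∀ g, g ∉ Cen Q → w.coeff g = 0) {φ : H → ℂ} (hφ : IsClassFunction H φ)
    (hφl : ∀ g, MemLocalRing M (φ g)) :
    MemLocalIdeal M (tr φ (a * w) - tr φ (resG (Cen Q) a * w)) := by
  have hwi := isInvBy_of_support hws
  have h1 := memLocalIdeal_tr_sub_resG hM hQ (IsInvBy.mul ha hwi) (localCoeff_mul hal hwl) hφ hφl
  have h2 := localIdealCoeff_resG_mul_sub hM hQ ha hwi hal hwl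
  rw [resG_of_support hws] at h2
  have h3 := memLocalIdeal_tr_of_localIdealCoeff h2 hφl
  rw [tr_sub] at h3
  have e : tr φ (a * w) - tr φ (resG (Cen Q) a * w) =
      (tr φ (a * w) - tr φ (resG (Cen Q) (a * w))) +
        (tr φ (resG (Cen Q) (a * w)) - tr φ (resG (Cen Q) a * w)) := by ring
  rw [e]
  exact memLocalIdeal_add h1 h3

theorem tr_conjElt {φ : H → ℂ} (hφ : IsClassFunction H φ) (g : H) (x : MonoidAlgebra ℂ H) :
    tr φ (conjElt g x) = tr φ x := by
  unfold tr
  refine Fintype.sum_equiv (Equiv.mulLeft g⁻¹ |>.trans (Equiv.mulRight g)) _ _ fun h => ?_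
  simp only [Equiv.trans_apply, Equiv.coe_mulLeft, Equiv.coe_mulRight]
  rw [coeff_conjElt]
  congr 1
  have := hφ (g⁻¹ * h * g) g
  rw [← this]
  congr 1
  group

theorem tr_central_mul_relTr {φ : H → ℂ} (hφ : IsClassFunction H φ) {a : MonoidAlgebra ℂ H}
    (ha : IsCentralElt a) (S : Subgroup H) [Fintype (H ⧸ S)] (z : MonoidAlgebra ℂ H) :
    tr φ (a * relTr S z) = (S.index : ℂ) * tr φ (a * z) := by
  classical
  unfold relTr
  rw [Finset.mul_sum]
  have e : ∀ q : H ⧸ S, tr φ (a * conjElt q.out z) = tr φ (a * z) := fun q => by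
    rw [← conjElt_central_mul ha, tr_conjElt hφ]
  have e2 : tr φ (∑ q : H ⧸ S, a * conjElt q.out z) = ∑ q : H ⧸ S, tr φ (a * conjElt q.out z) := by
    unfold tr
    simp only [MonoidAlgebra.coeff_sum, Finset.sum_apply', Finset.sum_mul]
    rw [Finset.sum_comm]
  rw [e2, Finset.sum_congr rfl fun q _ => e q, Finset.sum_const, nsmul_eq_mul, Finset.card_univ,
    Subgroup.index, Nat.card_eq_fintype_card]

end Orbit

section Max

variable {H : Type*} [Group H] [Fintype H] {p : ℕ} [hp : Fact p.Prime] {M : Ideal AlgInt} [hMp : M.IsPrime]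
  {b : Set (IrrCharacter H)} {Q : Subgroup H} {f : Set (IrrCharacter (Cen Q))}

theorem isDefectGroup_center_aux (hM : IsPModular p M) (hPe : IsBrauerPair p M Q f) {Q' : Subgroup H}
    {f' : Set (IrrCharacter (Cen Q'))} (hQ' : Q' = Q) (h : SubpairLE p M Q' f' Q f)
    (hd : IsDefectGroup p M f' ((Q ⊓ Cen Q').subgroupOf (Cen Q'))) :
    IsDefectGroup p M f ((Q ⊓ Cen Q).subgroupOf (Cen Q)) := by
  subst hQ'
  have hf' := (isBrauerPair_of_subpairLE hPe h).2
  have e : f' = f := (existsUnique_subpair hM hPe le_rfl).unique ⟨hf', h⟩ ⟨hPe.2, Relation.ReflTransGen.refl⟩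
  rwa [← e]

theorem isDefectGroup_center_of_max (hM : IsPModular p M) (hmax : IsMaximalBrauerPair p M b Q f) :
    IsDefectGroup p M f ((Q ⊓ Cen Q).subgroupOf (Cen Q)) := by
  have hPe := (isBrauerPairOf_iff.1 hmax.1).1
  obtain ⟨x, hx, hd⟩ := exists_conj_cen_defect hM hmax (Q := Q) (f := f) Relation.ReflTransGen.refl hPe.2
  have hle := le_of_subpairLE hx
  exact isDefectGroup_center_aux hM hPe (eq_of_cj_le hle) hx hd

theorem regProp_of_max (hM : IsPModular p M) (hmax : IsMaximalBrauerPair p M b Q f) : RegProp p f := by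
  have hPe := (isBrauerPairOf_iff.1 hmax.1).1
  refine regProp_of_central hM hPe.2 ?_ (isDefectGroup_center_of_max hM hmax)
  intro g
  rw [Subgroup.mem_centralizer_iff]
  intro z hz
  apply Subtype.ext
  have hz' : ((z : Cen Q) : H) ∈ Q := (Subgroup.mem_inf.1 (Subgroup.mem_subgroupOf.1 hz)).1
  have := Subgroup.mem_centralizer_iff.1 g.2 _ hz'
  push_cast
  exact this

end Max

end Cfsg.Agent.Lib.BPair
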