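import Cfsg.Agent.Lib.BPair.Blau

/-!
# Blau's theorem and the Broué–Puig and Okuyama theorems: the main computation
-/

set_option autoImplicit false
set_option linter.unusedSectionVars false
set_option linter.unusedSimpArgs false
set_option linter.unusedVariables false

open scoped ComplexConjugate
open Cfsg MonoidAlgebra
open Cfsg.Agent.Lib.Block Cfsg.Agent.Lib.Char Cfsg.Agent.Lib.CharExtra

namespace Cfsg.Agent.Lib.BPair

attribute [local instance] subFintype

section Main

variable {H : Type*} [Group H] [Fintype H] {p : ℕ} [hp : Fact p.Prime] {M : Ideal AlgInt} [hMp : M.IsPrime]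
  {b : Set (IrrCharacter H)} {Q : Subgroup H} {f : Set (IrrCharacter (Cen Q))}

theorem exists_blockCoeff_not_mem {X : Type*} [Group X] [Fintype X] {f : Set (IrrCharacter X)} (hf : IsPBlock M f) :
    ∃ y : X, ¬ MemLocalIdeal M (blockCoeff f y) := by
  classical
  by_contra hcon
  push Not at hcon
  obtain ⟨ξ, hξ⟩ := IsPBlock_nonempty hf
  have h : LocalIdealCoeff M (blockElt f) := fun g => by
    rw [coeff_blockElt]
    exact hcon g
  have h1 := memLocalIdeal_om_of_localIdealCoeff ξ.2 (isCentralElt_blockElt f) h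
  rw [om_blockElt_of_mem hξ] at h1
  exact not_memLocalIdeal_one h1

theorem card_stab_eq (hM : IsPModular p M) (hmax : IsMaximalBrauerPair p M b Q f) {T : Subgroup H}
    (hT : ∀ y, y ∈ T ↔ y ∈ Subgroup.normalizer (Q : Set H) ∧ StabilizesBlock (Cen Q) f y) {y : H} (hyc : y ∈ Cen Q)
    (hy : ¬ MemLocalIdeal M ((Ee Q f).coeff y)) :
    (Nat.card ↥(T ⊓ Subgroup.centralizer ({y} : Set H))).factorization p = (Nat.card Q).factorization p := by
  classical
  have hPe := (isBrauerPairOf_iff.1 hmax.1).1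
  have hQ := hPe.1
  obtain ⟨S, hS⟩ : ∃ S, S = T ⊓ Subgroup.centralizer ({y} : Set H) := ⟨_, rfl⟩
  rw [← hS]
  have hQS : Q ≤ S := by
    intro u hu
    rw [hS]
    refine ⟨(hT u).2 ⟨Subgroup.le_normalizer hu, stabilizes_of_mem hu⟩, ?_⟩
    show u ∈ Subgroup.centralizer ({y} : Set H)
    rw [Subgroup.mem_centralizer_singleton_iff]
    exact Subgroup.mem_centralizer_iff.1 hyc u hu
  have hST : S ≤ T := hS ▸ inf_le_left
  have hSC : ∀ r ∈ S, r * y = y * r := fun r hr => by
    have h1 : r ∈ Subgroup.centralizer ({y} : Set H) := by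
      rw [hS] at hr
      exact hr.2
    rw [Subgroup.mem_centralizer_singleton_iff] at h1
    exact h1
  have hQ' : IsPGroup p (Q.subgroupOf S) := hQ.comap_subtype
  obtain ⟨R, hR⟩ := hQ'.exists_le_sylow
  have hcard := card_map_sylow (p := p) R
  obtain ⟨R', hR'⟩ : ∃ R', R' = (R : Subgroup S).map S.subtype := ⟨_, rfl⟩
  rw [← hR'] at hcard
  have hR'p : IsPGroup p R' := hR' ▸ R.isPGroup'.map _
  have hQR : Q ≤ R' := by
    intro u hu
    rw [hR']
    exact ⟨⟨u, hQS hu⟩, hR (Subgroup.mem_subgroupOf.2 hu), rfl⟩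
  have hRS : R' ≤ S := by
    rw [hR']
    exact Subgroup.map_subtype_le _
  have hEq : R' = Q := by
    by_contra hne
    have h1 := resAlg_Ee_of_max hM hmax hR'p hQR hne (fun x hx => ((hT x).1 (hST (hRS hx))).1)
      (fun x hx => ((hT x).1 (hST (hRS hx))).2)
    have hyR : y ∈ Cen R' := by
      rw [Subgroup.mem_centralizer_iff]
      intro r hr
      exact hSC r (hRS hr)
    have h2 := h1 ⟨y, hyR⟩
    rw [coeff_resAlg] at h2
    exact hy h2
  rw [hEq] at hcard
  rw [hcard]
  simp [Nat.Prime.factorization_self hp.out]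

/-- The `b`-part of the `f`-part of a character `φ`. -/
theorem not_memLocalIdeal_tr_blockElt_mul (hM : IsPModular p M) (hmax : IsMaximalBrauerPair p M b Q f) {φ : H → ℂ}
    (hφ : IsCharacter H φ) {y : Cen Q}
    (ht : ¬ MemLocalIdeal M (tr (fun c : Cen Q => φ c) (blockElt f * MonoidAlgebra.single y⁻¹ 1))) :
    ¬ MemLocalIdeal M (tr φ (blockElt b * incl (Cen Q) (blockElt f * MonoidAlgebra.single y⁻¹ 1))) := by
  classical
  obtain ⟨hPe, hb, hom⟩ := isBrauerPairOf_iff.1 hmax.1
  have hf := hPe.2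
  have hQ := hPe.1
  have hcf := IsCharacter.isClassFunction hφ
  have hφl : ∀ g, MemLocalRing M (φ g) := fun g => memLocalRing_of_isIntegral (IsCharacter.isIntegral' hφ g)
  obtain ⟨x₀, hx₀⟩ : ∃ x₀, x₀ = blockElt f * MonoidAlgebra.single y⁻¹ (1 : ℂ) := ⟨_, rfl⟩
  have hx₀l : LocalCoeff M x₀ := by
    rw [hx₀]
    exact localCoeff_mul (localCoeff_blockElt (isBlockUnion_of_isPBlock hf)) (localCoeff_single _ memLocalRing_one)
  obtain ⟨z, hz⟩ : ∃ z, z = incl (Cen Q) x₀ := ⟨_, rfl⟩
  rw [← hx₀, ← hz]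
  have hzl : LocalCoeff M z := hz ▸ localCoeff_incl _ hx₀l
  have hzs : ∀ g, g ∉ Cen Q → z.coeff g = 0 := fun g hg => by
    rw [hz]
    exact coeff_incl_of_notMem _ _ hg
  have hbc := isCentralElt_blockElt b
  have hbl : LocalCoeff M (blockElt b) := localCoeff_blockElt (isBlockUnion_of_isPBlock hb)
  have h1 := memLocalIdeal_tr_mul_sub hM hQ (hbc.isInvBy Q) hbl hzl hzs hcf hφl
  obtain ⟨A, hA⟩ : ∃ A, A = resAlg (Cen Q) (blockElt b) := ⟨_, rfl⟩
  have hAc : IsCentralElt A := hA ▸ isCentralElt_resAlg_of_isInvBy (hbc.isInvBy _)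
  have hAl : LocalCoeff M A := hA ▸ localCoeff_resAlg _ hbl
  have hAid : LocalIdealCoeff M (A * A - A) := by
    have h2 := localIdealCoeff_resAlg_mul_sub hM hQ (hbc.isInvBy Q) (hbc.isInvBy Q) hbl hbl
    rw [blockElt_mul_self, ← hA] at h2
    intro g
    have := h2 g
    rw [MonoidAlgebra.coeff_sub, Finsupp.sub_apply] at this ⊢
    have e := memLocalIdeal_neg this
    rwa [neg_sub] at e
  have hD := localIdealCoeff_mul_blockElt_sub hAc hAl hAid hf (fun η hη => by rw [hA]; exact hom η hη)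
  have hresG : resG (Cen Q) (blockElt b) = incl (Cen Q) A := by
    rw [hA, ← resAlg_resG (Cen Q) (blockElt b), Cfsg.Agent.Lib.Block.incl_resAlg_of_support (fun g hg => coeff_resG_of_notMem _ _ hg)]
  have h3 : MemLocalIdeal M (tr φ (resG (Cen Q) (blockElt b) * z) - tr φ z) := by
    have e : resG (Cen Q) (blockElt b) * z - z = incl (Cen Q) ((A * blockElt f - blockElt f) * MonoidAlgebra.single y⁻¹ 1) := by
      rw [hresG, hz, hx₀, ← map_mul, ← map_sub]
      congr 1
      noncomm_ring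
    rw [← tr_sub, e, tr_incl]
    exact memLocalIdeal_tr_of_localIdealCoeff (localIdealCoeff_mul_right hD (localCoeff_single _ memLocalRing_one))
      (fun c => hφl _)
  have htz : tr φ z = tr (fun c : Cen Q => φ c) (blockElt f * MonoidAlgebra.single y⁻¹ 1) := by
    rw [hz, hx₀, tr_incl]
  intro hmem
  apply ht
  rw [← htz]
  have h4 := memLocalIdeal_add h1 h3
  have h5 := memLocalIdeal_sub hmem h4
  have e : tr φ (blockElt b * z) - (tr φ (blockElt b * z) - tr φ (resG (Cen Q) (blockElt b) * z) +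
      (tr φ (resG (Cen Q) (blockElt b) * z) - tr φ z)) = tr φ z := by ring
  rwa [e] at h5

/-- **Main step.** A unit value of the `f`-part of a character `φ` at a regular element gives a height zero
constituent in `b` of multiplicity prime to `p`. -/
theorem exists_height_zero_mult (hM : IsPModular p M) (hmax : IsMaximalBrauerPair p M b Q f) {φ : H → ℂ}
    (hφ : IsCharacter H φ) {y : Cen Q} (hy : ¬ MemLocalIdeal M (blockCoeff f y))
    (ht : ¬ MemLocalIdeal M (tr (fun c : Cen Q => φ c) (blockElt f * MonoidAlgebra.single y⁻¹ 1))) :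
    ∃ ξ ∈ b, blockHeight p b (ξ : H → ℂ) = 0 ∧ ∃ n : ℕ, classInner φ (ξ : H → ℂ) = (n : ℂ) ∧ ¬ p ∣ n := by
  classical
  obtain ⟨hPe, hb, hom⟩ := isBrauerPairOf_iff.1 hmax.1
  have hf := hPe.2
  have hQ := hPe.1
  have hcf := IsCharacter.isClassFunction hφ
  have hφl : ∀ g, MemLocalRing M (φ g) := fun g => memLocalRing_of_isIntegral (IsCharacter.isIntegral' hφ g)
  obtain ⟨x₀, hx₀⟩ : ∃ x₀, x₀ = blockElt f * MonoidAlgebra.single y⁻¹ (1 : ℂ) := ⟨_, rfl⟩
  have hx₀l : LocalCoeff M x₀ := by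
    rw [hx₀]
    exact localCoeff_mul (localCoeff_blockElt (isBlockUnion_of_isPBlock hf)) (localCoeff_single _ memLocalRing_one)
  obtain ⟨z, hz⟩ : ∃ z, z = incl (Cen Q) x₀ := ⟨_, rfl⟩
  have hzEq : z = Ee Q f * MonoidAlgebra.single ((y : H)⁻¹) 1 := by
    rw [hz, hx₀, map_mul, incl_single]
    rfl
  have hzl : LocalCoeff M z := hz ▸ localCoeff_incl _ hx₀l
  have hzs : ∀ g, g ∉ Cen Q → z.coeff g = 0 := fun g hg => by
    rw [hz]
    exact coeff_incl_of_notMem _ _ hg
  have hbc := isCentralElt_blockElt b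
  have hbl : LocalCoeff M (blockElt b) := localCoeff_blockElt (isBlockUnion_of_isPBlock hb)
  have ht' : ¬ MemLocalIdeal M (tr φ (blockElt b * z)) := by
    rw [hz, hx₀]
    exact not_memLocalIdeal_tr_blockElt_mul hM hmax hφ ht
  have htl : MemLocalRing M (tr φ (blockElt b * z)) :=
    memLocalRing_tr_of_localCoeff (localCoeff_mul hbl hzl) hφl
  -- the relative trace
  obtain ⟨T, hT⟩ := exists_pairT hf
  obtain ⟨S, hS⟩ : ∃ S, S = T ⊓ Subgroup.centralizer ({(y : H)} : Set H) := ⟨_, rfl⟩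
  haveI : Fintype (H ⧸ S) := Fintype.ofFinite _
  have hST : S ≤ T := hS ▸ inf_le_left
  have hzi : IsInvBy S z := by
    rw [hzEq]
    refine IsInvBy.mul (isInvBy_Ee_of_stable hf (fun x hx => ((hT x).1 (hST hx)).2)) ?_
    rw [isInvBy_iff_commute]
    intro u hu
    have hu' : u ∈ Subgroup.centralizer ({(y : H)} : Set H) := by
      rw [hS] at hu
      exact hu.2
    rw [Subgroup.mem_centralizer_singleton_iff] at hu'
    rw [MonoidAlgebra.single_mul_single, MonoidAlgebra.single_mul_single]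
    congr 1
    calc u * (y : H)⁻¹ = (y : H)⁻¹ * ((y : H) * u) * (y : H)⁻¹ := by group
      _ = (y : H)⁻¹ * (u * (y : H)) * (y : H)⁻¹ := by rw [hu']
      _ = (y : H)⁻¹ * u := by group
  obtain ⟨W, hW⟩ : ∃ W, W = relTr S z := ⟨_, rfl⟩
  have hWc : IsCentralElt W := hW ▸ isCentralElt_relTr hzi
  have hWl : LocalCoeff M W := hW ▸ localCoeff_relTr hzl
  have h5 : tr φ (blockElt b * W) = (S.index : ℂ) * tr φ (blockElt b * z) := by
    rw [hW]
    exact tr_central_mul_relTr hcf hbc S z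
  have h6 := tr_blockElt_mul φ hcf b W
  -- valuations
  have hne : b.Nonempty := IsPBlock_nonempty hb
  have hmle := minExp_le_factorization_card (p := p) hne
  have hS1 : (Nat.card S).factorization p = (Nat.card H).factorization p - minExp p b := by
    have hyE : ¬ MemLocalIdeal M ((Ee Q f).coeff (y : H)) := by
      have := coeff_incl_coe (Cen Q) (blockElt f) y
      unfold Ee
      rw [this, coeff_blockElt]
      exact hy
    have h7 := card_stab_eq hM hmax hT y.2 hyE
    rw [← hS] at h7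
    have e : (Nat.card Q).factorization p = blockDefect p b := by
      rw [card_defect_group hM hb (isDefectGroup_of_max hM hmax)]
      simp [Nat.Prime.factorization_self hp.out]
    rw [h7, e]
    rfl
  have hidx : S.index.factorization p = minExp p b := by
    have h8 := S.card_mul_index
    have h9 : Nat.card S ≠ 0 := Nat.card_pos.ne'
    have h10 : S.index ≠ 0 := Subgroup.index_ne_zero_of_finite
    have h11 := congrArg (fun n => n.factorization p) h8
    simp only [Nat.factorization_mul h9 h10, Finsupp.add_apply] at h11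
    omega
  obtain ⟨m, hm⟩ : ∃ m, m = minExp p b := ⟨_, rfl⟩
  rw [← hm] at hidx
  have h10 : S.index ≠ 0 := Subgroup.index_ne_zero_of_finite
  obtain ⟨u, hu⟩ : ∃ u, u = S.index / p ^ (S.index.factorization p) := ⟨_, rfl⟩
  have hu1 : S.index = p ^ m * u := by
    rw [hu, ← hidx]
    exact (Nat.ordProj_mul_ordCompl_eq_self _ _).symm
  have hu2 : ¬ p ∣ u := hu ▸ Nat.not_dvd_ordCompl hp.out h10
  choose n hn using fun ξ : IrrCharacter H => classInner_isCharacter_nat hφ (IsIrrCharacter.isCharacter ξ.2)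
  obtain ⟨q, hqdef⟩ : ∃ q : IrrCharacter H → ℕ, q = fun ξ : IrrCharacter H => charDegree (ξ : H → ℂ) / p ^ m := ⟨_, rfl⟩
  have hq : ∀ ξ ∈ b, charDegree (ξ : H → ℂ) = p ^ m * q ξ := by
    intro ξ hξ
    rw [hqdef]
    have h12 : p ^ m ∣ charDegree (ξ : H → ℂ) := by
      rw [hp.out.pow_dvd_iff_le_factorization charDegree_ne_zero, hm]
      exact minExp_le hξ
    exact (Nat.mul_div_cancel' h12).symm
  have hp0 : ((p : ℂ) ^ m) ≠ 0 := pow_ne_zero _ (by exact_mod_cast hp.out.ne_zero)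
  have h13 : (u : ℂ) * tr φ (blockElt b * z) =
      ∑ ξ : IrrCharacter H, if ξ ∈ b then (n ξ : ℂ) * (q ξ : ℂ) * om (ξ : H → ℂ) W else 0 := by
    apply mul_left_cancel₀ hp0
    have h14 : ((p : ℂ) ^ m) * ((u : ℂ) * tr φ (blockElt b * z)) = tr φ (blockElt b * W) := by
      rw [h5, hu1]
      push_cast
      ring
    rw [h14, h6, Finset.mul_sum]
    refine Finset.sum_congr rfl fun ξ _ => ?_
    by_cases hξ : ξ ∈ b
    · rw [if_pos hξ, if_pos hξ, hn ξ]
      have h15 : tr (ξ : H → ℂ) W = (ξ : H → ℂ) 1 * om (ξ : H → ℂ) W := by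
        unfold om
        rw [mul_div_cancel₀ _ (isIrr_one_ne_zero ξ.2)]
      rw [h15, map_one_eq_charDegree (IsIrrCharacter.isCharacter ξ.2), hq ξ hξ]
      push_cast
      ring
    · rw [if_neg hξ, if_neg hξ, mul_zero]
  have hunit : ¬ MemLocalIdeal M ((u : ℂ) * tr φ (blockElt b * z)) :=
    not_memLocalIdeal_mul (memLocalRing_natCast u) htl (not_memLocalIdeal_natCast hM hu2) ht'
  have hex : ∃ ξ ∈ b, ¬ MemLocalIdeal M ((n ξ : ℂ) * (q ξ : ℂ) * om (ξ : H → ℂ) W) := by
    by_contra hcon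
    push Not at hcon
    apply hunit
    rw [h13]
    refine memLocalIdeal_sum _ _ fun ξ _ => ?_
    by_cases hξ : ξ ∈ b
    · rw [if_pos hξ]
      exact hcon ξ hξ
    · rw [if_neg hξ]
      exact memLocalIdeal_zero
  obtain ⟨ξ, hξ, hun⟩ := hex
  have hωl : MemLocalRing M (om (ξ : H → ℂ) W) := memLocalRing_om ξ.2 hWc hWl
  have hpn : ¬ p ∣ n ξ := by
    intro hd
    apply hun
    exact memLocalIdeal_mul_right (memLocalIdeal_mul_right ((memLocalIdeal_natCast_iff hM _).2 hd)
      (memLocalRing_natCast _)) hωl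
  have hpq : ¬ p ∣ q ξ := by
    intro hd
    apply hun
    exact memLocalIdeal_mul_right (memLocalIdeal_mul_left (memLocalRing_natCast _)
      ((memLocalIdeal_natCast_iff hM _).2 hd)) hωl
  refine ⟨ξ, hξ, ?_, n ξ, hn ξ, hpn⟩
  have hfac : (charDegree (ξ : H → ℂ)).factorization p = m := by
    have hq0 : q ξ ≠ 0 := fun h => hpq (h ▸ dvd_zero _)
    rw [hq ξ hξ, Nat.factorization_mul (pow_ne_zero _ hp.out.ne_zero) hq0]
    simp [Nat.Prime.factorization_self hp.out, Nat.factorization_eq_zero_of_not_dvd hpq]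
  show (charDegree (ξ : H → ℂ)).factorization p - minExp p b = 0
  rw [hfac, hm, Nat.sub_self]

end Main

section Top

variable {G : Type*} [Group G] [Fintype G] {p : ℕ} [hp : Fact p.Prime] {M : Ideal AlgInt} [hMp : M.IsPrime]

theorem resAlg_zeta (H : Subgroup G) [Fintype H] (ξ : G → ℂ) :
    resAlg H (zeta p ξ) = zeta p (fun h : H => ξ h) := by
  apply ext_coeff
  intro h
  rw [coeff_resAlg]
  unfold zeta
  rw [coeff_ofFun, coeff_ofFun]
  simp only [Subgroup.orderOf_coe]

theorem not_memLocalIdeal_om_zeta_self (hM : IsPModular p M) {B : Set (IrrCharacter G)} (hB : IsPBlock M B)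
    {χ : IrrCharacter G} (hχ : χ ∈ B) (h0 : blockHeight p B (χ : G → ℂ) = 0) :
    ¬ MemLocalIdeal M (om (χ : G → ℂ) (zeta p (χ : G → ℂ))) := by
  rw [om_zeta]
  have hmin : ∀ ξ ∈ B, (charDegree (χ : G → ℂ)).factorization p ≤ (charDegree (ξ : G → ℂ)).factorization p := by
    intro ξ hξ
    rw [factorization_eq_minExp_of_height hχ h0]
    exact minExp_le hξ
  refine not_memLocalIdeal_mul (memLocalRing_natCast _) (memLocalRing_regCoeff_div hM χ χ)
    (not_memLocalIdeal_natCast hM (not_dvd_ordCompl (G := G) (p := p))) ?_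
  rw [memLocalIdeal_regCoeff_div_iff hM hB hχ hmin hχ]
  exact lt_irrefl _

/-- The central character of a pair at `zeta`, one level. -/
theorem om_zeta_cen_congr (hM : IsPModular p M) {b : Set (IrrCharacter G)} {Q : Subgroup G}
    {f : Set (IrrCharacter (Cen Q))} (hpair : IsBrauerPairOf p M b Q f) {θ : IrrCharacter (Cen Q)} (hθ : θ ∈ f)
    {ξ : IrrCharacter G} (hξ : ξ ∈ b) {φ : G → ℂ} (hφ : IsCharacter G φ) :
    MemLocalIdeal M (om (θ : Cen Q → ℂ) (zeta p (fun c : Cen Q => φ c)) - om (ξ : G → ℂ) (zeta p φ)) := by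
  rw [← resAlg_zeta]
  exact om_resAlg_congr hM hpair hθ hξ (isCentralElt_zeta (IsCharacter.isClassFunction hφ)) (localCoeff_zeta hφ)

/-- The central character of a pair at `zeta`, for an induced block. -/
theorem om_zeta_cen_induced (hM : IsPModular p M) (H : Subgroup G) [Fintype H] {b : Set (IrrCharacter H)}
    {B : Set (IrrCharacter G)} (hind : IsInducedBlock M H b B) {Q : Subgroup H}
    {f : Set (IrrCharacter (Cen Q))} (hpair : IsBrauerPairOf p M b Q f) {θ : IrrCharacter (Cen Q)} (hθ : θ ∈ f)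
    {χ' : IrrCharacter G} (hχ' : χ' ∈ B) {ψ : G → ℂ} (hψ : IsCharacter G ψ) :
    MemLocalIdeal M (om (θ : Cen Q → ℂ) (zeta p (fun c : Cen Q => ψ ((c : H) : G))) - om (χ' : G → ℂ) (zeta p ψ)) := by
  obtain ⟨hb, hB, hi⟩ := hind
  obtain ⟨ξ, hξ⟩ := IsPBlock_nonempty hb
  have h1 := om_zeta_cen_congr hM hpair hθ hξ (IsCharacter.restrict H hψ)
  have h2 := memLocalIdeal_om_resAlg_sub H (IsCharacter.isClassFunction (IsIrrCharacter.isCharacter χ'.2))
    (hi ξ hξ χ' hχ') (isCentralElt_zeta (p := p) (IsCharacter.isClassFunction hψ)) (localCoeff_zeta hψ)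
  rw [resAlg_zeta] at h2
  have h3 := memLocalIdeal_add h1 h2
  simpa using h3

/-- Existence of a maximal pair with a nonvanishing coefficient. -/
theorem exists_max_pair {H : Type*} [Group H] [Fintype H] (hM : IsPModular p M) {b : Set (IrrCharacter H)}
    (hb : IsPBlock M b) : ∃ (Q : Subgroup H) (f : Set (IrrCharacter (Cen Q))), IsMaximalBrauerPair p M b Q f := by
  obtain ⟨D, hD⟩ := Cfsg.Agent.Lib.CharExtra.exists_isDefectGroup hM hb
  obtain ⟨f₀, hf₀⟩ := exists_pair_on_defect hM hD hb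
  obtain ⟨Q, f, hmax, -⟩ := exists_max_above hM _ D f₀ rfl hf₀
  exact ⟨Q, f, hmax⟩

/-- The value of the `f`-part at a regular element. -/
theorem tr_cen_eq {H : Type*} [Group H] [Fintype H] (hM : IsPModular p M) {b : Set (IrrCharacter H)}
    {Q : Subgroup H} {f : Set (IrrCharacter (Cen Q))} (hmax : IsMaximalBrauerPair p M b Q f)
    {θ : IrrCharacter (Cen Q)} (hθ : θ ∈ f) {φ : H → ℂ} (hφ : IsCharacter H φ) {y : Cen Q}
    (hy : ¬ p ∣ orderOf y) :
    tr (fun c : Cen Q => φ c) (blockElt f * MonoidAlgebra.single y⁻¹ 1) =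
      blockCoeff f y * om (θ : Cen Q → ℂ) (zeta p (fun c : Cen Q => φ c)) := by
  have hφ' := IsCharacter.restrict (Cen Q) hφ
  exact tr_blockElt_mul_single_of_regProp hM (isBrauerPairOf_iff.1 hmax.1).1.2 (regProp_of_max hM hmax) hθ _
    (IsCharacter.isClassFunction hφ') (fun c => IsCharacter.map_inv' hφ' c) hy

/-- The core unit statement. -/
theorem core_unit (hM : IsPModular p M) (H : Subgroup G) [Fintype H] {b : Set (IrrCharacter H)}
    {B : Set (IrrCharacter G)} (hind : IsInducedBlock M H b B) {χ : IrrCharacter G} (hχ : χ ∈ B)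
    (h0 : blockHeight p B (χ : G → ℂ) = 0) {Q : Subgroup H} {f : Set (IrrCharacter (Cen Q))}
    (hmax : IsMaximalBrauerPair p M b Q f) {y : Cen Q} (hy : ¬ MemLocalIdeal M (blockCoeff f y)) :
    ¬ MemLocalIdeal M (tr (fun c : Cen Q => (χ : G → ℂ) ((c : H) : G)) (blockElt f * MonoidAlgebra.single y⁻¹ 1)) := by
  classical
  have hf := (isBrauerPairOf_iff.1 hmax.1).1.2
  obtain ⟨θ, hθ⟩ := IsPBlock_nonempty hf
  have hyr : ¬ p ∣ orderOf y :=
    regular_of_blockCoeff_ne_zero hM (isBlockUnion_of_isPBlock hf) (ne_zero_of_not_memLocalIdeal hy)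
  have hχc := IsIrrCharacter.isCharacter χ.2
  have h1 := tr_cen_eq hM hmax hθ (IsCharacter.restrict H hχc) hyr
  rw [h1]
  have hfl : MemLocalRing M (blockCoeff f y) := by
    have := localCoeff_blockElt (M := M) (isBlockUnion_of_isPBlock hf) y
    rwa [coeff_blockElt] at this
  have hθl : MemLocalRing M (om (θ : Cen Q → ℂ) (zeta p (fun c : Cen Q => (χ : G → ℂ) ((c : H) : G)))) :=
    memLocalRing_om θ.2 (isCentralElt_zeta (IsCharacter.isClassFunction
      (IsCharacter.restrict (Cen Q) (IsCharacter.restrict H hχc))))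
      (localCoeff_zeta (IsCharacter.restrict (Cen Q) (IsCharacter.restrict H hχc)))
  refine not_memLocalIdeal_mul hfl hθl hy ?_
  intro hmem
  have h2 := om_zeta_cen_induced hM H hind hmax.1 hθ hχ hχc
  apply not_memLocalIdeal_om_zeta_self hM hind.2.1 hχ h0
  have h3 := memLocalIdeal_sub hmem h2
  simpa using h3

/-- **Blau's theorem.** -/
theorem blau (hM : IsPModular p M) (H : Subgroup G) [Fintype H] {b : Set (IrrCharacter H)}
    {B : Set (IrrCharacter G)} (hind : IsInducedBlock M H b B) {χ : IrrCharacter G} (hχ : χ ∈ B)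
    (h0 : blockHeight p B (χ : G → ℂ) = 0) :
    ∃ ξ ∈ b, blockHeight p b (ξ : H → ℂ) = 0 ∧ ∃ n : ℕ, classInner (fun h : H => (χ : G → ℂ) h) (ξ : H → ℂ) = (n : ℂ) ∧ ¬ p ∣ n := by
  obtain ⟨Q, f, hmax⟩ := exists_max_pair hM hind.1
  obtain ⟨y, hy⟩ := exists_blockCoeff_not_mem (isBrauerPairOf_iff.1 hmax.1).1.2
  exact exists_height_zero_mult hM hmax (IsCharacter.restrict H (IsIrrCharacter.isCharacter χ.2)) hy
    (core_unit hM H hind hχ h0 hmax hy)

end Top

end Cfsg.Agent.Lib.BPair
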