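import Cfsg.Agent.Lib.BPair.Blau2
import Cfsg.Agent.Lib.CharExtra.Central
import Cfsg.Agent.Lib.Block.PPower

/-!
# The theorems of Okuyama and of Broué–Puig
-/

set_option autoImplicit false
set_option linter.unusedSectionVars false
set_option linter.unusedSimpArgs false
set_option linter.unusedVariables false

open scoped ComplexConjugate
open Cfsg MonoidAlgebra
open Cfsg.Agent.Lib.Block Cfsg.Agent.Lib.Char Cfsg.Agent.Lib.CharExtra

namespace Cfsg.Agent.Lib.BPair

attribute [local instance] subFintype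

section Oku

variable {G : Type*} [Group G] [Fintype G] {p : ℕ} [hp : Fact p.Prime] {M : Ideal AlgInt}

/-- **Okuyama's theorem.** -/
theorem okuyama (hM : IsPModular p M) (H : Subgroup G) [Fintype H] (χ : IrrCharacter G)
    (hres : IsIrrCharacter H (fun h : H => (χ : G → ℂ) h))
    (hχ0 : blockHeight p (blockOf M (χ : G → ℂ)) (χ : G → ℂ) = 0)
    (hψ0 : blockHeight p (blockOf M (fun h : H => (χ : G → ℂ) h)) (fun h : H => (χ : G → ℂ) h) = 0)
    (e : Set (IrrCharacter H)) (he : InducedBlockDefined M H e) :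
    IsInducedBlock M H e (blockOf M (χ : G → ℂ)) ↔ e = blockOf M (fun h : H => (χ : G → ℂ) h) := by
  classical
  have := isPModular_isPrime hM
  obtain ⟨χ', hχ'⟩ : ∃ χ' : IrrCharacter H, (χ' : H → ℂ) = fun h : H => (χ : G → ℂ) h := ⟨⟨_, hres⟩, rfl⟩
  rw [← hχ'] at hψ0 ⊢
  have hχ'c : IsCharacter H (χ' : H → ℂ) := IsIrrCharacter.isCharacter χ'.2
  constructor
  · intro hi
    obtain ⟨ξ, hξ, -, n, hn, hpn⟩ := blau hM H hi (mem_blockOf_self χ) hχ0
    rw [← hχ'] at hn
    have hne : classInner (χ' : H → ℂ) (ξ : H → ℂ) ≠ 0 := by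
      rw [hn]
      have : n ≠ 0 := fun h => hpn (h ▸ dvd_zero _)
      exact_mod_cast this
    have hξe : (χ' : H → ℂ) = (ξ : H → ℂ) := by
      by_contra h
      exact hne (classInner_irr_of_ne χ'.2 ξ.2 h)
    rw [hξe]
    exact blockOf_eq_of_mem hi.1 hξ
  · rintro rfl
    obtain ⟨B', hB'⟩ := he
    obtain ⟨Q, f, hmax⟩ := exists_max_pair hM hB'.1
    have hf := (isBrauerPairOf_iff.1 hmax.1).1.2
    obtain ⟨θ, hθ⟩ := IsPBlock_nonempty hf
    have h1 := om_zeta_cen_congr hM hmax.1 hθ (mem_blockOf_self χ') hχ'c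
    have h2 := not_memLocalIdeal_om_zeta_self hM hB'.1 (mem_blockOf_self χ') hψ0
    obtain ⟨ζ, hζ⟩ := IsPBlock_nonempty hB'.2.1
    have h3 := om_zeta_cen_induced hM H hB' hmax.1 hθ hζ (IsIrrCharacter.isCharacter χ.2)
    have e1 : (fun c : Cen Q => (χ' : H → ℂ) c) = fun c : Cen Q => (χ : G → ℂ) ((c : H) : G) := by
      rw [hχ']
    rw [e1] at h1
    have h4 : ¬ MemLocalIdeal M (om (ζ : G → ℂ) (zeta p (χ : G → ℂ))) := by
      intro hmem
      apply h2
      have h5 := memLocalIdeal_add (memLocalIdeal_sub h3 h1) hmem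
      have e2 : om (θ : Cen Q → ℂ) (zeta p fun c : Cen Q => (χ : G → ℂ) ((c : H) : G)) - om (ζ : G → ℂ) (zeta p (χ : G → ℂ)) -
          (om (θ : Cen Q → ℂ) (zeta p fun c : Cen Q => (χ : G → ℂ) ((c : H) : G)) - om (χ' : H → ℂ) (zeta p (χ' : H → ℂ))) +
          om (ζ : G → ℂ) (zeta p (χ : G → ℂ)) = om (χ' : H → ℂ) (zeta p (χ' : H → ℂ)) := by ring
      rwa [e2] at h5
    have hχB : χ ∈ B' := by
      by_contra hn
      apply h4
      rw [om_zeta, regCoeff_eq_zero_of_notMem hM hB'.2.1 hζ hn]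
      simpa using memLocalIdeal_zero
    have hB'e : B' = blockOf M (χ : G → ℂ) := blockOf_eq_of_mem hB'.2.1 hχB
    rw [← hB'e]
    exact hB'

end Oku

section Central

variable {X : Type*} [Group X] [Fintype X] {p : ℕ} [hp : Fact p.Prime] {M : Ideal AlgInt} [hMp : M.IsPrime]

/-- A `p`-power root of unity is `1` modulo the local ideal. -/
theorem memLocalIdeal_sub_one_of_pow (hM : IsPModular p M) (k : ℕ) : ∀ {a : ℂ}, MemLocalRing M a → a ^ p ^ k = 1 →
    MemLocalIdeal M (a - 1) := by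
  induction k with
  | zero =>
    intro a _ h
    have : a = 1 := by simpa using h
    rw [this, sub_self]
    exact memLocalIdeal_zero
  | succ k ih =>
    intro a ha h
    have h1 : (a ^ p) ^ p ^ k = 1 := by
      rw [← pow_mul, ← pow_succ']
      exact h
    have h2 := ih (memLocalRing_pow ha p) h1
    have hm1 : MemLocalRing M (-1 : ℂ) := memLocalRing_neg memLocalRing_one
    have h3 := memLocalIdeal_add_pow_prime_sub hM ha hm1
    have h4 : MemLocalIdeal M (1 + (-1 : ℂ) ^ p) := by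
      rcases hp.out.eq_two_or_odd' with h5 | h5
      · subst h5
        have := memLocalIdeal_p (M := M) hM
        simpa [one_add_one_eq_two] using (by norm_num; simpa using this : MemLocalIdeal M (2 : ℂ))
      · rw [h5.neg_one_pow]
        simpa using memLocalIdeal_zero
    have h5 : MemLocalIdeal M ((a - 1) ^ p) := by
      have h6 := memLocalIdeal_add (memLocalIdeal_add h3 h2) h4
      have e : (a + -1) ^ p - (a ^ p + (-1) ^ p) + (a ^ p - 1) + (1 + (-1 : ℂ) ^ p) = (a - 1) ^ p := by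
        ring
      rwa [e] at h6
    exact memLocalIdeal_of_pow (memLocalRing_sub ha memLocalRing_one) h5

theorem memLocalIdeal_irr_central_sub_one (hM : IsPModular p M) (ξ : IrrCharacter X) {c : X} (hc : c ∈ Subgroup.center X)
    {k : ℕ} (hk : orderOf c = p ^ k) : MemLocalIdeal M ((ξ : X → ℂ) c / (ξ : X → ℂ) 1 - 1) := by
  obtain ⟨lam, hlam⟩ := exists_hom_of_central ξ (Subgroup.center X) le_rfl
  have h1 := hlam ⟨c, hc⟩
  simp only at h1
  rw [← h1]
  have hpow : ((lam ⟨c, hc⟩ : ℂˣ) : ℂ) ^ p ^ k = 1 := by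
    have h2 : (⟨c, hc⟩ : Subgroup.center X) ^ p ^ k = 1 := by
      apply Subtype.ext
      simp only [SubmonoidClass.coe_pow]
      rw [← hk, pow_orderOf_eq_one]
      rfl
    rw [← Units.val_pow_eq_pow_val, ← map_pow, h2, map_one, Units.val_one]
  have hkpos : 0 < p ^ k := pow_pos hp.out.pos k
  have hint : IsIntegral ℤ ((lam ⟨c, hc⟩ : ℂˣ) : ℂ) := by
    refine IsIntegral.of_pow hkpos ?_
    rw [hpow]
    exact isIntegral_one
  exact memLocalIdeal_sub_one_of_pow hM k (memLocalRing_of_isIntegral hint) hpow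

/-- The inner product with a central translate. -/
theorem classInner_mul_central (φ : X → ℂ) (ξ : IrrCharacter X) {c : X} (hc : c ∈ Subgroup.center X) :
    classInner (fun g => φ (c * g)) (ξ : X → ℂ) = ((ξ : X → ℂ) c / (ξ : X → ℂ) 1) * classInner φ (ξ : X → ℂ) := by
  classical
  have hξ := IsIrrCharacter.isCharacter ξ.2
  have h1 : (ξ : X → ℂ) 1 ≠ 0 := isIrr_one_ne_zero ξ.2
  have hc1 : conj ((ξ : X → ℂ) 1) = (ξ : X → ℂ) 1 := by
    rw [← IsCharacter.map_inv' hξ, inv_one]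
  have hcinv : c⁻¹ ∈ Subgroup.center X := Subgroup.inv_mem _ hc
  have hterm : ∀ g : X, conj ((ξ : X → ℂ) (c⁻¹ * g)) =
      ((ξ : X → ℂ) c / (ξ : X → ℂ) 1) * conj ((ξ : X → ℂ) g) := by
    intro g
    have e1 : c⁻¹ * g = g * c⁻¹ := (Subgroup.mem_center_iff.1 hcinv g).symm
    rw [e1, irr_mul_central ξ hcinv g, map_div₀, map_mul, hc1, IsCharacter.map_inv' hξ c]
    simp only [Complex.conj_conj]
    ring
  have hsum : ∑ g : X, φ (c * g) * conj ((ξ : X → ℂ) g) =
      ((ξ : X → ℂ) c / (ξ : X → ℂ) 1) * ∑ g : X, φ g * conj ((ξ : X → ℂ) g) := by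
    rw [Finset.mul_sum, ← Equiv.sum_comp (Equiv.mulLeft c) (fun g => ((ξ : X → ℂ) c / (ξ : X → ℂ) 1) * (φ g * conj ((ξ : X → ℂ) g)))]
    refine Finset.sum_congr rfl fun g _ => ?_
    simp only [Equiv.coe_mulLeft]
    have h2 := hterm (c * g)
    rw [inv_mul_cancel_left] at h2
    rw [h2]
    ring
  unfold classInner
  rw [hsum]
  ring

end Central

section BP

variable {G : Type*} [Group G] [Fintype G] {p : ℕ} [hp : Fact p.Prime] {M : Ideal AlgInt} [hMp : M.IsPrime]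

theorem broue_puig_aux (hM : IsPModular p M) (H : Subgroup G) [Fintype H] {b : Set (IrrCharacter H)}
    {B : Set (IrrCharacter G)} (hind : IsInducedBlock M H b B) {χ : IrrCharacter G} (hχ : χ ∈ B)
    (h0 : blockHeight p B (χ : G → ℂ) = 0) {c₀ : H} (hc₀ : c₀ ∈ Subgroup.center H) {k : ℕ} (hk : orderOf c₀ = p ^ k) :
    ∃ y : H, ¬ p ∣ orderOf y ∧ blockPart b (fun c : H => (χ : G → ℂ) ((c₀ : G) * (c : G))) y ≠ 0 := by
  classical
  have hχc := IsIrrCharacter.isCharacter χ.2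
  obtain ⟨φ, hφdef⟩ : ∃ φ : H → ℂ, φ = fun h : H => (χ : G → ℂ) h := ⟨_, rfl⟩
  have hφ : IsCharacter H φ := hφdef ▸ IsCharacter.restrict H hχc
  have hcf := IsCharacter.isClassFunction hφ
  obtain ⟨Q, f, hmax⟩ := exists_max_pair hM hind.1
  have hf := (isBrauerPairOf_iff.1 hmax.1).1.2
  obtain ⟨y, hy⟩ := exists_blockCoeff_not_mem hf
  have ht := core_unit hM H hind hχ h0 hmax hy
  have ht' := not_memLocalIdeal_tr_blockElt_mul hM hmax (φ := φ) hφ (y := y) (by rw [hφdef]; exact ht)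
  obtain ⟨z, hz⟩ : ∃ z, z = incl (Cen Q) (blockElt f * MonoidAlgebra.single y⁻¹ (1 : ℂ)) := ⟨_, rfl⟩
  rw [← hz] at ht'
  have hzl : LocalCoeff M z := by
    rw [hz]
    exact localCoeff_incl _ (localCoeff_mul (localCoeff_blockElt (isBlockUnion_of_isPBlock hf))
      (localCoeff_single _ memLocalRing_one))
  choose n hn using fun ξ : IrrCharacter H => classInner_isCharacter_nat hφ (IsIrrCharacter.isCharacter ξ.2)
  obtain ⟨Θ, hΘ⟩ : ∃ Θ : H → ℂ, Θ = fun g => ∑ ξ : IrrCharacter H, if ξ ∈ b then (n ξ : ℂ) * (ξ : H → ℂ) g else 0 := ⟨_, rfl⟩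
  have hΘtr : tr φ (blockElt b * z) = tr Θ z := by
    rw [tr_blockElt_mul φ hcf b z, hΘ]
    unfold tr
    have h9 : ∀ ξ : IrrCharacter H, (if ξ ∈ b then classInner φ (ξ : H → ℂ) * (∑ g, z.coeff g * (ξ : H → ℂ) g) else 0) =
        ∑ g, z.coeff g * (if ξ ∈ b then (n ξ : ℂ) * (ξ : H → ℂ) g else 0) := by
      intro ξ
      by_cases hξ : ξ ∈ b
      · rw [if_pos hξ, hn, Finset.mul_sum]
        refine Finset.sum_congr rfl fun g _ => ?_
        rw [if_pos hξ]
        ring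
      · rw [if_neg hξ]
        simp [if_neg hξ]
    simp only [h9]
    rw [Finset.sum_comm]
    refine Finset.sum_congr rfl fun g _ => ?_
    rw [Finset.mul_sum]
  have hex : ∃ g, ¬ MemLocalIdeal M (Θ g) := by
    by_contra hcon
    push Not at hcon
    apply ht'
    rw [hΘtr]
    unfold tr
    exact memLocalIdeal_sum _ _ fun g _ => memLocalIdeal_mul_left (hzl g) (hcon g)
  obtain ⟨g, hg⟩ := hex
  obtain ⟨u, s, hus, hcomm, hup, hsr, -, -⟩ := exists_jordan (p := p) g
  have hΘs : ¬ MemLocalIdeal M (Θ s) := by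
    intro hmem
    apply hg
    have e : MemLocalIdeal M (Θ g - Θ s) := by
      rw [hΘ]
      simp only
      rw [← Finset.sum_sub_distrib]
      refine memLocalIdeal_sum _ _ fun ξ _ => ?_
      by_cases hξ : ξ ∈ b
      · rw [if_pos hξ, if_pos hξ, ← mul_sub, ← hus]
        exact memLocalIdeal_mul_left (memLocalRing_natCast _)
          (memLocalIdeal_char_mul_sub hM (IsIrrCharacter.isCharacter ξ.2) hcomm hup)
      · rw [if_neg hξ, if_neg hξ, sub_self]
        exact memLocalIdeal_zero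
    have h2 := memLocalIdeal_add e hmem
    simpa using h2
  refine ⟨s, hsr, fun hzero => hΘs ?_⟩
  obtain ⟨ϑ, hϑ⟩ : ∃ ϑ : H → ℂ, ϑ = fun c : H => (χ : G → ℂ) ((c₀ : G) * (c : G)) := ⟨_, rfl⟩
  have hϑ2 : ϑ = fun c : H => φ (c₀ * c) := by
    rw [hϑ, hφdef]
    rfl
  have hϑcf : IsClassFunction H ϑ := by
    intro g₁ h₁
    rw [hϑ2]
    simp only
    have h3 := hcf (c₀ * g₁) h₁
    have e1 : h₁ * (c₀ * g₁) * h₁⁻¹ = c₀ * (h₁ * g₁ * h₁⁻¹) := by
      have := (Subgroup.mem_center_iff.1 hc₀ h₁)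
      calc h₁ * (c₀ * g₁) * h₁⁻¹ = (h₁ * c₀) * g₁ * h₁⁻¹ := by group
        _ = (c₀ * h₁) * g₁ * h₁⁻¹ := by rw [this]
        _ = c₀ * (h₁ * g₁ * h₁⁻¹) := by group
    rw [e1] at h3
    exact h3
  rw [← hϑ, blockPart_eq_tr b ϑ hϑcf s, tr_blockElt_mul ϑ hϑcf b] at hzero
  have hk' : ∀ ξ : IrrCharacter H, classInner ϑ (ξ : H → ℂ) = ((ξ : H → ℂ) c₀ / (ξ : H → ℂ) 1) * (n ξ : ℂ) := by
    intro ξ
    rw [hϑ2, classInner_mul_central φ ξ hc₀, hn]
  have e : Θ s = ∑ ξ : IrrCharacter H, if ξ ∈ b then -(((ξ : H → ℂ) c₀ / (ξ : H → ℂ) 1 - 1) * ((n ξ : ℂ) * (ξ : H → ℂ) s)) else 0 := by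
    rw [hΘ]
    simp only
    rw [← sub_zero (∑ ξ : IrrCharacter H, if ξ ∈ b then (n ξ : ℂ) * (ξ : H → ℂ) s else 0), ← hzero, ← Finset.sum_sub_distrib]
    refine Finset.sum_congr rfl fun ξ _ => ?_
    by_cases hξ : ξ ∈ b
    · rw [if_pos hξ, if_pos hξ, if_pos hξ, tr_single, hk']
      ring
    · rw [if_neg hξ, if_neg hξ, if_neg hξ, sub_zero]
  rw [e]
  refine memLocalIdeal_sum _ _ fun ξ _ => ?_
  by_cases hξ : ξ ∈ b
  · rw [if_pos hξ]
    refine memLocalIdeal_neg (memLocalIdeal_mul_right (memLocalIdeal_irr_central_sub_one hM ξ hc₀ hk) ?_)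
    exact memLocalRing_mul (memLocalRing_natCast _)
      (memLocalRing_of_isIntegral (IsCharacter.isIntegral' (IsIrrCharacter.isCharacter ξ.2) s))
  · rw [if_neg hξ]
    exact memLocalIdeal_zero

/-- **The Broué–Puig theorem.** -/
theorem broue_puig (hM : IsPModular p M) {B : Set (IrrCharacter G)} {χ : IrrCharacter G} (hχ : χ ∈ B)
    (h0 : blockHeight p B (χ : G → ℂ) = 0) (x : G) (hx : ∃ k : ℕ, orderOf x = p ^ k)
    (b : Set (IrrCharacter (Subgroup.centralizer ({x} : Set G))))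
    (hb : IsInducedBlock M (Subgroup.centralizer ({x} : Set G)) b B) :
    ∃ y : Subgroup.centralizer ({x} : Set G), ¬ p ∣ orderOf y ∧
      blockPart b (fun c : Subgroup.centralizer ({x} : Set G) => (χ : G → ℂ) (x * (c : G))) y ≠ 0 := by
  classical
  obtain ⟨k, hk⟩ := hx
  have hc : (⟨x, mem_centralizer_self x⟩ : Subgroup.centralizer ({x} : Set G)) ∈
      Subgroup.center (Subgroup.centralizer ({x} : Set G)) := by
    rw [Subgroup.mem_center_iff]
    intro g
    apply Subtype.ext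
    exact (mem_centralizer_singleton.1 g.2)
  have hk' : orderOf (⟨x, mem_centralizer_self x⟩ : Subgroup.centralizer ({x} : Set G)) = p ^ k := by
    rw [Subgroup.orderOf_mk]
    exact hk
  have h := broue_puig_aux hM (Subgroup.centralizer ({x} : Set G)) hb hχ h0 hc hk'
  exact h

end BP

end Cfsg.Agent.Lib.BPair
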