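import Cfsg.Agent.Lib.BPair.Frob

/-!
# Pairs of a block of a centralizer
-/

set_option autoImplicit false
set_option linter.unusedSectionVars false
set_option linter.unusedSimpArgs false
set_option linter.unusedVariables false

open scoped ComplexConjugate Pointwise
open Cfsg MonoidAlgebra
open Cfsg.Agent.Lib.Block Cfsg.Agent.Lib.Char Cfsg.Agent.Lib.CharExtra

namespace Cfsg.Agent.Lib.BPair

attribute [local instance] subFintype

section CenPair

variable {G : Type*} [Group G] [Fintype G] {M : Ideal AlgInt} [hMp : M.IsPrime] {p : ℕ} [hp : Fact p.Prime]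
  {B : Set (IrrCharacter G)} {P Q : Subgroup G} {e : Set (IrrCharacter (Cen P))} {f : Set (IrrCharacter (Cen Q))}

theorem mem_cen_sup {A C : Subgroup G} {c : G} : c ∈ Cen (A ⊔ C) ↔ c ∈ Cen A ∧ c ∈ Cen C := by
  have key : ∀ H : Subgroup G, c ∈ Cen H ↔ H ≤ Subgroup.centralizer ({c} : Set G) := by
    intro H
    constructor
    · intro h u hu
      rw [Subgroup.mem_centralizer_singleton_iff]
      exact (Subgroup.mem_centralizer_iff.1 h u hu).symm ▸ rfl
    · intro h
      rw [Subgroup.mem_centralizer_iff]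
      intro u hu
      have := h hu
      rw [Subgroup.mem_centralizer_singleton_iff] at this
      exact this
  rw [key, key, key, sup_le_iff]

/-- The subgroup `Q R` of `G` attached to a subgroup `R` of `C_G(Q)`. -/
abbrev supUp (Q : Subgroup G) (R : Subgroup (Cen Q)) : Subgroup G := Q ⊔ up R

theorem mem_cen_supUp {R : Subgroup (Cen Q)} {c : Cen Q} : (c : G) ∈ Cen (supUp Q R) ↔ c ∈ Cen R := by
  rw [mem_cen_sup]
  constructor
  · intro h
    exact mem_cen_of_coe h.2
  · intro h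
    exact ⟨c.2, coe_mem_cen_up h⟩

theorem cen_supUp_le (R : Subgroup (Cen Q)) : Cen (supUp Q R) ≤ Cen Q := fun _ h => (mem_cen_sup.1 h).1

/-- The isomorphism of centralizers. -/
noncomputable def cenSup (Q : Subgroup G) (R : Subgroup (Cen Q)) : Cen R ≃* Cen (supUp Q R) where
  toFun c := ⟨((c : Cen Q) : G), mem_cen_supUp.2 c.2⟩
  invFun c := ⟨⟨c, cen_supUp_le R c.2⟩, mem_cen_supUp.1 c.2⟩
  left_inv c := rfl
  right_inv c := rfl
  map_mul' a b := rfl

@[simp] theorem cenSup_coe (R : Subgroup (Cen Q)) (c : Cen R) : ((cenSup Q R c : Cen (supUp Q R)) : G) = ((c : Cen Q) : G) := rfl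

theorem om_supUp (R : Subgroup (Cen Q)) (ξ : IrrCharacter (Cen (supUp Q R))) (z : MonoidAlgebra ℂ (Cen Q)) :
    om (ξ : Cen (supUp Q R) → ℂ) (resAlg (Cen (supUp Q R)) (incl (Cen Q) z)) =
      om (mapIrr (cenSup Q R).symm ξ : Cen R → ℂ) (resAlg (Cen R) z) := by
  classical
  unfold om tr
  have h1 : (mapIrr (cenSup Q R).symm ξ : Cen R → ℂ) 1 = (ξ : Cen (supUp Q R) → ℂ) 1 := by
    simp [mapIrr]
  rw [h1]
  congr 1
  rw [← Equiv.sum_comp (cenSup Q R).toEquiv]
  refine Finset.sum_congr rfl fun c _ => ?_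
  rw [coeff_resAlg, coeff_resAlg]
  have e1 := coeff_incl_coe (Cen Q) z (c : Cen Q)
  have e2 : (((cenSup Q R).toEquiv c : Cen (supUp Q R)) : G) = ((c : Cen Q) : G) := rfl
  rw [e2, e1]
  rw [mapIrr_apply']
  rfl

theorem up_le_cen (R : Subgroup (Cen Q)) : up R ≤ Cen Q := up_le

theorem isPGroup_supUp (hQ : IsPGroup p Q) {R : Subgroup (Cen Q)} (hR : IsPGroup p R) : IsPGroup p (supUp Q R) := by
  have hup : IsPGroup p (up R) := hR.map _
  exact IsPGroup.to_sup_of_normal_left' hQ hup ((up_le_cen R).trans (cen_le_normalizer Q))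

theorem supUp_le_normalizer (R : Subgroup (Cen Q)) : supUp Q R ≤ Subgroup.normalizer (Q : Set G) :=
  sup_le Subgroup.le_normalizer ((up_le_cen R).trans (cen_le_normalizer Q))

/-- A pair of the block `f` of `C_G(Q)` gives a pair above `(Q, f)`. -/
theorem isNormalSubpair_supUp (hQf : IsBrauerPair p M Q f) {R : Subgroup (Cen Q)} {g : Set (IrrCharacter (Cen R))}
    (h : IsBrauerPairOf p M f R g) : IsNormalSubpair p M Q f (supUp Q R) (mapBlock (cenSup Q R) g) := by
  obtain ⟨hRg, -, hom⟩ := isBrauerPairOf_iff.1 h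
  obtain ⟨T, hT⟩ := exists_pairT hQf.2
  have hS : supUp Q R ≤ T := sup_le (fun x hx => (hT x).2 ⟨Subgroup.le_normalizer hx, stabilizes_of_mem hx⟩)
    (fun x hx => (hT x).2 ⟨cen_le_normalizer Q (up_le_cen R hx), stabilizes_of_mem_cen (up_le_cen R hx)⟩)
  refine isNormalSubpair_iff.2 ⟨hQf, ⟨isPGroup_supUp hQf.1 hRg.1, isPBlock_mapBlock _ hRg.2⟩, le_sup_left,
    supUp_le_normalizer R, fun x hx => ((hT x).1 (hS hx)).2, fun ξ hξ => ?_⟩
  rw [mem_mapBlock] at hξ
  have h1 := hom _ hξ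
  rw [← om_supUp] at h1
  exact h1

theorem coe_mem_normalizer_supUp {R : Subgroup (Cen Q)} {x : Cen Q}
    (hx : x ∈ Subgroup.normalizer (R : Set (Cen Q))) : (x : G) ∈ Subgroup.normalizer ((supUp Q R : Subgroup G) : Set G) := by
  have hxN : (x : G) ∈ Subgroup.normalizer (Q : Set G) := cen_le_normalizer Q x.2
  have h1 : cj (x : G) (supUp Q R) ≤ supUp Q R := by
    rintro _ ⟨u, hu, rfl⟩
    have hcomap : supUp Q R ≤ (supUp Q R).comap (MulAut.conj (x : G)).toMonoidHom := by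
      refine sup_le ?_ ?_
      · intro v hv
        exact Subgroup.mem_sup_left ((Subgroup.mem_normalizer_iff.1 hxN v).1 hv)
      · rintro _ ⟨w, hw, rfl⟩
        apply Subgroup.mem_sup_right
        exact ⟨x * w * x⁻¹, (Subgroup.mem_normalizer_iff.1 hx w).1 hw, rfl⟩
    exact hcomap hu
  exact mem_normalizer_of_cj_eq (eq_of_cj_le h1)

theorem stabilizes_supUp {R : Subgroup (Cen Q)} {g : Set (IrrCharacter (Cen R))} {x : Cen Q}
    (hx : x ∈ Subgroup.normalizer (R : Set (Cen Q))) (hs : StabilizesBlock (Cen R) g x) :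
    StabilizesBlock (Cen (supUp Q R)) (mapBlock (cenSup Q R) g) (x : G) := by
  refine ⟨normalizer_le_normalizer_cen (coe_mem_normalizer_supUp hx), fun χ hχ => ?_⟩
  rw [mem_mapBlock] at hχ
  obtain ⟨χ', hχ', hc⟩ := hs.2 _ hχ
  refine ⟨mapIrr (cenSup Q R) χ', ⟨χ', hχ', rfl⟩, fun k k' hk => ?_⟩
  rw [mapIrr_apply']
  have h1 := hc ((cenSup Q R).symm k) ((cenSup Q R).symm k') (by
    apply Subtype.ext
    exact hk)
  rw [h1, mapIrr_apply', MulEquiv.symm_symm, MulEquiv.apply_symm_apply]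

/-- **A Brauer pair of a nilpotent block carries a nilpotent block.** -/
theorem isNilpotentBlock_of_pair (hM : IsPModular p M) (hnil : IsNilpotentBlock p M B)
    (hQf : IsBrauerPairOf p M B Q f) : IsNilpotentBlock p M f := by
  have hQf' := (isBrauerPairOf_iff.1 hQf).1
  refine ⟨hQf'.2, fun R g hRg x hxN hxs hxreg => ?_⟩
  have hn := isNormalSubpair_supUp hQf' hRg
  have hS := isBrauerPairOf_of_normal_up hM hn hQf
  have hreg : IsPRegular p (x : G) := by
    unfold IsPRegular at hxreg ⊢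
    rwa [Subgroup.orderOf_coe]
  have h1 := hnil.2 _ _ hS (x : G) (coe_mem_normalizer_supUp hxN) (stabilizes_supUp hxN hxs) hreg
  exact mem_cen_supUp.1 h1

/-- **`C_P(Q)` is a defect group in a nilpotent block.** -/
theorem isDefectGroup_cen_of_nilpotent (hM : IsPModular p M) (hmax : IsMaximalBrauerPair p M B P e)
    (hnil : IsNilpotentBlock p M B) (hle : SubpairLE p M Q f P e) :
    IsDefectGroup p M f ((P ⊓ Cen Q).subgroupOf (Cen Q)) := by
  classical
  have hPe := (isBrauerPairOf_iff.1 hmax.1).1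
  have hf : IsPBlock M f := (isBrauerPair_of_subpairLE hPe hle).2
  obtain ⟨D, hD, hle₁⟩ := cen_defect_ge hM hmax hle hf
  obtain ⟨x, hx, hxD⟩ := exists_conj_cen_defect hM hmax hle hf
  obtain ⟨u, hu, huv⟩ := innerOn_of_nilpotent hM hmax hnil hle hx
  have h2 := card_defect_eq hM (isPBlock_conjBlock hf) (isDefectGroup_conjBlock (g := x) hD) hxD
  rw [Subgroup.card_map_of_injective (cEquiv Q x).injective, card_subgroupOf_of_le inf_le_right] at h2
  have h5 : cj u⁻¹ (P ⊓ Cen (cj x Q)) ≤ P ⊓ Cen Q := by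
    rintro _ ⟨w, hw, rfl⟩
    refine ⟨P.mul_mem (P.mul_mem (P.inv_mem hu) hw.1) (by simpa using hu), ?_⟩
    show u⁻¹ * w * u⁻¹⁻¹ ∈ Cen Q
    rw [Subgroup.mem_centralizer_iff]
    intro v hv
    have h6 := huv v hv
    have h7 : w * (x * v * x⁻¹) = (x * v * x⁻¹) * w :=
      (Subgroup.mem_centralizer_iff.1 hw.2 _ (conj_mem_cj.2 hv)).symm
    rw [h6] at h7
    show v * (u⁻¹ * w * u⁻¹⁻¹) = (u⁻¹ * w * u⁻¹⁻¹) * v
    rw [inv_inv]
    have e1 : v * (u⁻¹ * w * u) = u⁻¹ * ((u * v * u⁻¹) * w) * u := by group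
    have e2 : u⁻¹ * w * u * v = u⁻¹ * (w * (u * v * u⁻¹)) * u := by group
    rw [e1, e2, h7]
  have h4 : Nat.card (P ⊓ Cen (cj x Q) : Subgroup G) ≤ Nat.card (P ⊓ Cen Q : Subgroup G) := by
    have := Subgroup.card_le_of_le h5
    rwa [card_cj] at this
  have heq : (P ⊓ Cen Q).subgroupOf (Cen Q) = D := by
    refine Subgroup.eq_of_le_of_card_ge hle₁ ?_
    rw [card_subgroupOf_of_le inf_le_right, h2]
    exact h4
  rw [heq]
  exact hD

end CenPair

end Cfsg.Agent.Lib.BPair
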