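import Cfsg.Agent.Lib.BPair.Abel
import Cfsg.Agent.Lib.BPair.CenPair

/-!
# Block induction and Brauer pairs

`IsInducedBlock` from `C_G(Q)` is the same as being a Brauer pair, and `IsInducedBlockIn` gives normal inclusion.
-/

set_option autoImplicit false
set_option linter.unusedSectionVars false
set_option linter.unusedSimpArgs false
set_option linter.unusedVariables false

open scoped ComplexConjugate Pointwise
open Cfsg MonoidAlgebra
open Cfsg.Agent.Lib.Block Cfsg.Agent.Lib.Char Cfsg.Agent.Lib.CharExtra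

namespace Cfsg.Agent.Lib.BPair

attribute [local instance] subFintype

section Induced

variable {G : Type*} [Group G] [Fintype G] {M : Ideal AlgInt} [hMp : M.IsPrime] {p : ℕ} [hp : Fact p.Prime]
  {B : Set (IrrCharacter G)} {P Q : Subgroup G} {c : Set (IrrCharacter (Cen P))} {f : Set (IrrCharacter (Cen Q))}

theorem om_resAlg_classSum' (H : Subgroup G) (ξ : H → ℂ) (g : G) :
    om ξ (resAlg H (classSum g)) = inducedCentralChar H ξ g := by
  classical
  unfold om tr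
  rw [inducedCentralChar_eq_sum, Finset.sum_div]
  refine Finset.sum_congr rfl fun h _ => ?_
  rw [coeff_resAlg, coeff_classSum]
  split_ifs <;> simp

theorem isBrauerPairOf_of_induced (hQ : IsPGroup p Q) (h : IsInducedBlock M (Cen Q) f B) :
    IsBrauerPairOf p M B Q f := by
  obtain ⟨hf, hB, hc⟩ := h
  refine isBrauerPairOf_iff.2 ⟨⟨hQ, hf⟩, hB, fun ξ hξ => ?_⟩
  obtain ⟨χ, hχ⟩ := IsPBlock_nonempty hB
  have h1 := memLocalIdeal_om_resAlg_sub (Cen Q) (ξ := (ξ : Cen Q → ℂ)) (χ := (χ : G → ℂ))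
    (IsCharacter.isClassFunction (IsIrrCharacter.isCharacter χ.2)) (hc ξ hξ χ hχ) (isCentralElt_blockElt B)
    (localCoeff_blockElt (isBlockUnion_of_isPBlock hB))
  rwa [om_blockElt_of_mem hχ] at h1

theorem isInducedBlock_of_pair (hM : IsPModular p M) (h : IsBrauerPairOf p M B Q f) :
    IsInducedBlock M (Cen Q) f B := by
  obtain ⟨hQf, hB, -⟩ := isBrauerPairOf_iff.1 h
  refine ⟨hQf.2, hB, fun ξ hξ χ hχ g => ?_⟩
  have h1 := om_resAlg_congr hM h hξ hχ (isCentralElt_classSum g) (Cfsg.Agent.Lib.Block.localCoeff_classSum g)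
  rwa [om_classSum (IsCharacter.isClassFunction (IsIrrCharacter.isCharacter χ.2)), om_resAlg_classSum'] at h1

theorem isMaximal_of_defect (hM : IsPModular p M) (hD : IsDefectGroup p M B P) (h : IsBrauerPairOf p M B P c) :
    IsMaximalBrauerPair p M B P c := by
  refine ⟨h, fun R g hRg hle => ?_⟩
  have h1 : P ≤ R := le_of_subpairLE hle
  obtain ⟨x, hx⟩ := exists_conj_le_defect hM hRg hD
  have h2 : Nat.card R ≤ Nat.card P := by
    have := Subgroup.card_le_of_le hx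
    rwa [card_cj] at this
  exact (Subgroup.eq_of_le_of_card_ge h1 h2).symm

open Classical in
theorem inducedCentralCharIn_eq_sum (H K : Subgroup G) (ξ : K → ℂ) (h : G) :
    inducedCentralCharIn H K ξ h = ∑ k : K, if ∃ x : H, (x : G) * (k : G) * (x : G)⁻¹ = h then ξ k / ξ 1 else 0 := by
  unfold inducedCentralCharIn
  rw [finsum_mem_def, finsum_eq_sum_of_fintype]
  refine Finset.sum_congr rfl fun k _ => ?_
  simp [Set.indicator_apply]

theorem om_resAlg_incl_classSum {H K : Subgroup G} (hKH : K ≤ H) (ξ : K → ℂ) (h : H) :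
    om ξ (resAlg K (incl H (classSum h))) = inducedCentralCharIn H K ξ (h : G) := by
  classical
  unfold om tr
  rw [inducedCentralCharIn_eq_sum, Finset.sum_div]
  refine Finset.sum_congr rfl fun k _ => ?_
  rw [coeff_resAlg]
  have e1 := coeff_incl_coe H (classSum h) ⟨k, hKH k.2⟩
  simp only at e1
  rw [e1, coeff_classSum]
  have e2 : IsConj h ⟨(k : G), hKH k.2⟩ ↔ ∃ x : H, (x : G) * (k : G) * (x : G)⁻¹ = (h : G) := by
    rw [isConj_comm, isConj_iff]
    constructor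
    · rintro ⟨x, hx⟩
      exact ⟨x, congrArg Subtype.val hx⟩
    · rintro ⟨x, hx⟩
      exact ⟨x, Subtype.ext hx⟩
  simp only [e2]
  split_ifs <;> simp

theorem om_resAlg_incl_eq_sum {H K : Subgroup G} (hKH : K ≤ H) [Fintype (ConjClasses H)] {z : MonoidAlgebra ℂ H}
    (hz : IsCentralElt z) (ξ : K → ℂ) :
    om ξ (resAlg K (incl H z)) = ∑ c : ConjClasses H, z.coeff c.out * inducedCentralCharIn H K ξ ((c.out : H) : G) := by
  classical
  unfold om tr
  simp only [inducedCentralCharIn_eq_sum, Finset.mul_sum, Finset.sum_div]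
  rw [Finset.sum_comm]
  refine Finset.sum_congr rfl fun k _ => ?_
  have hk : (k : G) ∈ H := hKH k.2
  rw [Finset.sum_eq_single (ConjClasses.mk (⟨k, hk⟩ : H))]
  · have h1 : IsConj (ConjClasses.mk (⟨k, hk⟩ : H)).out (⟨k, hk⟩ : H) := by
      rw [← ConjClasses.mk_eq_mk_iff_isConj]
      exact Quotient.out_eq' _
    have h2 : ∃ x : H, (x : G) * (k : G) * (x : G)⁻¹ = (((ConjClasses.mk (⟨k, hk⟩ : H)).out : H) : G) := by
      obtain ⟨x, hx⟩ := isConj_iff.1 h1.symm
      exact ⟨x, congrArg Subtype.val hx⟩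
    rw [if_pos h2, coeff_resAlg, coeff_eq_of_isConj hz h1]
    have e1 := coeff_incl_coe H z ⟨k, hk⟩
    simp only at e1
    rw [e1]
    ring
  · intro c _ hc
    rw [if_neg, mul_zero]
    rintro ⟨x, hx⟩
    apply hc
    have h1 : IsConj (⟨k, hk⟩ : H) c.out := isConj_iff.2 ⟨x, Subtype.ext hx⟩
    rw [← ConjClasses.mk_eq_mk_iff_isConj] at h1
    rw [h1]
    exact (Quotient.out_eq' _).symm
  · simp

theorem memLocalIdeal_om_resAlg_incl_sub {H K : Subgroup G} (hKH : K ≤ H) {ξ : K → ℂ} {χ : H → ℂ}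
    (hχ : IsClassFunction H χ) (hind : ∀ h : H, MemLocalIdeal M (inducedCentralCharIn H K ξ (h : G) - centralChar χ h))
    {z : MonoidAlgebra ℂ H} (hz : IsCentralElt z) (hl : LocalCoeff M z) :
    MemLocalIdeal M (om ξ (resAlg K (incl H z)) - om χ z) := by
  classical
  have : Fintype (ConjClasses H) := Fintype.ofFinite _
  rw [om_resAlg_incl_eq_sum hKH hz, om_eq_sum_conjClasses hz hχ, ← Finset.sum_sub_distrib]
  apply memLocalIdeal_sum
  intro c _
  rw [← mul_sub]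
  exact memLocalIdeal_mul_left (hl _) (hind _)

/-- Block induction inside `C_G(Q)` gives the normal inclusion. -/
theorem isNormalSubpair_of_inducedIn (hab : ∀ x ∈ P, ∀ y ∈ P, x * y = y * x) (hQP : Q ≤ P) (hP : IsPGroup p P)
    (h : IsInducedBlockIn M (Cen Q) (Cen P) c f) : IsNormalSubpair p M Q f P c := by
  obtain ⟨hc, hf, hind⟩ := h
  have hPC := le_cen_of_abelian hab hQP
  refine isNormalSubpair_iff.2 ⟨⟨hP.to_le hQP, hf⟩, ⟨hP, hc⟩, hQP, hPC.trans (cen_le_normalizer Q),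
    fun x hx => stabilizes_of_mem_cen (hPC hx), fun ξ hξ => ?_⟩
  obtain ⟨χ, hχ⟩ := IsPBlock_nonempty hf
  have h1 := memLocalIdeal_om_resAlg_incl_sub (cen_le_cen hQP) (ξ := (ξ : Cen P → ℂ)) (χ := (χ : Cen Q → ℂ))
    (IsCharacter.isClassFunction (IsIrrCharacter.isCharacter χ.2)) (hind ξ hξ χ hχ) (isCentralElt_blockElt f)
    (localCoeff_blockElt (isBlockUnion_of_isPBlock hf))
  rwa [om_blockElt_of_mem hχ] at h1

/-- The normal inclusion gives block induction inside `C_G(Q)`. -/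
theorem inducedIn_of_isNormalSubpair (hM : IsPModular p M) (hPC : P ≤ Cen Q) (hn : IsNormalSubpair p M Q f P c) :
    IsInducedBlockIn M (Cen Q) (Cen P) c f := by
  classical
  obtain ⟨S, rfl⟩ : ∃ S : Subgroup (Cen Q), up S = P :=
    ⟨P.subgroupOf (Cen Q), Subgroup.map_subgroupOf_eq_of_le hPC⟩
  obtain ⟨hQf, hPc, hQS, -, -, -⟩ := isNormalSubpair_iff.1 hn
  have hcl : Cen (up S) ≤ Cen Q := cen_le_cen hQS
  have hpair := isBrauerPairOf_down hQf.2 rfl hcl hn
  refine ⟨hPc.2, hQf.2, fun ξ hξ χ hχ h => ?_⟩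
  have hξ' : mapIrr (cenIso S hcl).symm ξ ∈ mapBlock (cenIso S hcl).symm c := ⟨ξ, hξ, rfl⟩
  have h1 := om_resAlg_congr hM hpair hξ' hχ (isCentralElt_classSum h) (Cfsg.Agent.Lib.Block.localCoeff_classSum h)
  rw [om_classSum (IsCharacter.isClassFunction (IsIrrCharacter.isCharacter χ.2)), ← om_up S hcl, om_resAlg_incl_classSum hcl] at h1
  exact h1

end Induced

section Abelian

variable {G : Type*} [Group G] [Fintype G] {M : Ideal AlgInt} [hMp : M.IsPrime] {p : ℕ} [hp : Fact p.Prime]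
  {B : Set (IrrCharacter G)} {P Q : Subgroup G} {c : Set (IrrCharacter (Cen P))} {f : Set (IrrCharacter (Cen Q))}

/-- For abelian defect, the inertial quotient has order prime to `p`. -/
theorem mem_cen_of_pElt (hM : IsPModular p M) (hmax : IsMaximalBrauerPair p M B P c)
    (hab : ∀ x ∈ P, ∀ y ∈ P, x * y = y * x) {u : G} (huN : u ∈ Subgroup.normalizer (P : Set G))
    (hus : StabilizesBlock (Cen P) c u) {k : ℕ} (hk : u ^ p ^ k = 1) : u ∈ Cen P := by
  classical
  have hPe := (isBrauerPairOf_iff.1 hmax.1).1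
  obtain ⟨T, hT⟩ := exists_pairT hPe.2
  obtain ⟨F₀, hF₀, hc₀, hdef⟩ := fnorm_of_abelian hM hmax hab .refl T hT
  have hPC : P ≤ Cen P := le_cen_of_abelian hab le_rfl
  have hCT : Cen P ≤ T := fun c hc => (hT c).2 ⟨cen_le_normalizer P hc, stabilizes_of_mem_cen hc⟩
  have huT : u ∈ T := (hT u).2 ⟨huN, hus⟩
  have hzT : Subgroup.zpowers u ≤ T := by
    rw [Subgroup.zpowers_le]
    exact huT
  have hLT : Cen P ⊔ Subgroup.zpowers u ≤ T := sup_le hCT hzT
  have hNn : ((Cen P).subgroupOf (Cen P ⊔ Subgroup.zpowers u)).Normal := by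
    refine ⟨fun n hn t => ?_⟩
    rw [Subgroup.mem_subgroupOf] at hn ⊢
    exact (Subgroup.mem_normalizer_iff.1 (normalizer_le_normalizer_cen ((hT t).1 (hLT t.2)).1) _).1 hn
  have hidx : ∃ j : ℕ, ((Cen P).subgroupOf (Cen P ⊔ Subgroup.zpowers u)).index = p ^ j := by
    have e1 : (Cen P).subgroupOf (Cen P ⊔ Subgroup.zpowers u) ⊔ (Subgroup.zpowers u).subgroupOf (Cen P ⊔ Subgroup.zpowers u) = ⊤ := by
      rw [← Subgroup.subgroupOf_sup (le_sup_left) (le_sup_right)]
      exact Subgroup.subgroupOf_self _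
    have e2 := Subgroup.relIndex_sup_left ((Subgroup.zpowers u).subgroupOf (Cen P ⊔ Subgroup.zpowers u)) ((Cen P).subgroupOf (Cen P ⊔ Subgroup.zpowers u))
    rw [e1, Subgroup.relIndex_top_right] at e2
    rw [e2]
    have h4 : Subgroup.relIndex ((Cen P).subgroupOf (Cen P ⊔ Subgroup.zpowers u)) ((Subgroup.zpowers u).subgroupOf (Cen P ⊔ Subgroup.zpowers u)) ∣
        Nat.card ((Subgroup.zpowers u).subgroupOf (Cen P ⊔ Subgroup.zpowers u)) := Subgroup.relIndex_dvd_card _ _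
    have h5 : Nat.card ((Subgroup.zpowers u).subgroupOf (Cen P ⊔ Subgroup.zpowers u)) = Nat.card (Subgroup.zpowers u) := by
      rw [card_subgroupOf_of_le le_sup_right]
    have h6 : Nat.card (Subgroup.zpowers u) ∣ p ^ k := by
      rw [Nat.card_zpowers]
      exact orderOf_dvd_of_pow_eq_one hk
    have h7 := h4.trans (h5 ▸ h6)
    obtain ⟨j, -, hj⟩ := (Nat.dvd_prime_pow hp.out).1 h7
    exact ⟨j, hj⟩
  have hPN : P ≤ Subgroup.normalizer (P : Set G) := Subgroup.le_normalizer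
  have hD₀L : P ⊓ Subgroup.normalizer (P : Set G) ≤ Cen P ⊔ Subgroup.zpowers u :=
    (inf_le_left.trans hPC).trans le_sup_left
  have h1 := le_sup_of_pIndex hM hmax .refl hPe.2 hT hF₀ hc₀ hdef (L := Cen P ⊔ Subgroup.zpowers u) le_sup_left hD₀L hLT hidx
  have h2 : (P ⊓ Subgroup.normalizer (P : Set G)) ⊔ Cen P = Cen P := sup_eq_right.2 (inf_le_left.trans hPC)
  rw [h2] at h1
  exact h1 (Subgroup.mem_sup_right (Subgroup.mem_zpowers u))

/-- Stabilizers descend from `G` to `L`. -/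
theorem stabilizes_down {L : Subgroup G} {R₁ : Subgroup L} (h₁ : Cen (up R₁) ≤ L) {g : Set (IrrCharacter (Cen (up R₁)))}
    (hg : IsPBlock M g) {u : L} (hN : u ∈ Subgroup.normalizer ((Cen R₁ : Subgroup L) : Set L))
    (hst : StabilizesBlock (Cen (up R₁)) g (u : G)) :
    StabilizesBlock (Cen R₁) (mapBlock (cenIso R₁ h₁).symm g) u := by
  obtain ⟨hu, h1⟩ := (stabilizes_iff hg).1 hst
  refine (stabilizes_iff (isPBlock_mapBlock _ hg)).2 ⟨hN, ?_⟩
  have e : (cenIso R₁ h₁).symm.trans (nConj hN) = (nConj hu).trans (cenIso R₁ h₁).symm := by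
    ext c
    rfl
  rw [← mapBlock_trans, e, mapBlock_trans, h1]

/-- **Free action gives nilpotent blocks.** -/
theorem nilpotent_of_free (hM : IsPModular p M) (hmax : IsMaximalBrauerPair p M B P c)
    (hab : ∀ x ∈ P, ∀ y ∈ P, x * y = y * x)
    (hfree : ∀ g : G, g ∈ Subgroup.normalizer (P : Set G) → StabilizesBlock (Cen P) c g → ∀ x ∈ P, x ≠ 1 →
      g * x * g⁻¹ = x → g ∈ Cen P)
    (hle : SubpairLE p M Q f P c) (hQ1 : Q ≠ ⊥) : IsNilpotentBlock p M f := by
  classical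
  have hPe := (isBrauerPairOf_iff.1 hmax.1).1
  have hQf' := isBrauerPair_of_subpairLE hPe hle
  refine ⟨hQf'.2, fun R g hRg x hxN hxs hxreg => ?_⟩
  have hn := isNormalSubpair_supUp hQf' hRg
  have hS := isBrauerPairOf_of_normal_up hM hn (isBrauerPairOf_of_le hM hmax hle)
  obtain ⟨y, hy⟩ := exists_conj_subpair hM hmax hS
  have hg' : IsPBlock M (mapBlock (cenSup Q R) g) := isPBlock_mapBlock _ (isBrauerPairOf_iff.1 hRg).1.2
  have hzN := conj_mem_normalizer_cj (y := y) (u := (x : G)).2 (coe_mem_normalizer_supUp hxN)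
  have hzs := (stabilizes_conj_iff (x := y) hg').2 (stabilizes_supUp hxN hxs)
  obtain ⟨t, ht1, ht2, c', hc', hzeq⟩ := exists_stab_mul hM hmax hab hy hzN hzs
  obtain ⟨v, hv, hv1⟩ := Q.bot_or_exists_ne_one.resolve_left hQ1
  have hyP : cj y (supUp Q R) ≤ P := le_of_subpairLE hy
  have hwS : y * v * y⁻¹ ∈ cj y (supUp Q R) := conj_mem_cj.2 (Subgroup.mem_sup_left hv)
  have hw1 : y * v * y⁻¹ ≠ 1 := by
    intro h
    apply hv1
    have : v = y⁻¹ * (y * v * y⁻¹) * y := by group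
    rw [this, h]
    group
  have hxv : (x : G) * v = v * (x : G) := (Subgroup.mem_centralizer_iff.1 x.2 v hv).symm
  have hzw : (y * (x : G) * y⁻¹) * (y * v * y⁻¹) * (y * (x : G) * y⁻¹)⁻¹ = y * v * y⁻¹ := by
    have : (y * (x : G) * y⁻¹) * (y * v * y⁻¹) * (y * (x : G) * y⁻¹)⁻¹ = y * ((x : G) * v) * (x : G)⁻¹ * y⁻¹ := by group
    rw [this, hxv]
    group
  have hcw : c' * (y * v * y⁻¹) = (y * v * y⁻¹) * c' := (Subgroup.mem_centralizer_iff.1 hc' _ hwS).symm
  have htw : t * (y * v * y⁻¹) * t⁻¹ = y * v * y⁻¹ := by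
    have h1 : t = (y * (x : G) * y⁻¹) * c'⁻¹ := by
      rw [hzeq]
      group
    rw [h1]
    have h2 : (y * (x : G) * y⁻¹) * c'⁻¹ * (y * v * y⁻¹) * ((y * (x : G) * y⁻¹) * c'⁻¹)⁻¹ =
        (y * (x : G) * y⁻¹) * (c'⁻¹ * ((y * v * y⁻¹) * c')) * (y * (x : G) * y⁻¹)⁻¹ := by group
    rw [h2, ← hcw]
    have h3 : c'⁻¹ * (c' * (y * v * y⁻¹)) = y * v * y⁻¹ := by group
    rw [h3, hzw]
  have htc : t ∈ Cen P := hfree t ht1 ht2 _ (hyP hwS) hw1 htw
  have hz : y * (x : G) * y⁻¹ ∈ Cen (cj y (supUp Q R)) := by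
    rw [hzeq]
    exact Subgroup.mul_mem _ (cen_le_cen hyP htc) hc'
  exact mem_cen_supUp.1 (conj_mem_cen_cj.1 hz)

/-- **Nilpotent blocks give free action.** -/
theorem free_of_nilpotent (hM : IsPModular p M) (hmax : IsMaximalBrauerPair p M B P c)
    (hab : ∀ x ∈ P, ∀ y ∈ P, x * y = y * x)
    (hnil : ∀ (Q : Subgroup G) (f : Set (IrrCharacter (Cen Q))), SubpairLE p M Q f P c → Q ≠ ⊥ → IsNilpotentBlock p M f)
    {g : G} (hgN : g ∈ Subgroup.normalizer (P : Set G)) (hgs : StabilizesBlock (Cen P) c g) {x : G} (hx : x ∈ P)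
    (hx1 : x ≠ 1) (hgx : g * x * g⁻¹ = x) : g ∈ Cen P := by
  classical
  have hPe := (isBrauerPairOf_iff.1 hmax.1).1
  obtain ⟨Q, hQ⟩ : ∃ Q, Q = Subgroup.zpowers x := ⟨_, rfl⟩
  have hxQ : x ∈ Q := hQ ▸ Subgroup.mem_zpowers x
  have hQP : Q ≤ P := by
    rw [hQ, Subgroup.zpowers_le]
    exact hx
  have hQ1 : Q ≠ ⊥ := by
    intro h
    rw [h] at hxQ
    exact hx1 (Subgroup.mem_bot.1 hxQ)
  have hcenQ : ∀ a : G, a * x = x * a → a ∈ Cen Q := by
    intro a ha
    rw [Subgroup.mem_centralizer_iff]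
    intro v hv
    rw [hQ] at hv
    obtain ⟨k, rfl⟩ := Subgroup.mem_zpowers_iff.1 hv
    exact ((Commute.zpow_left (show Commute x a from ha.symm) k)).eq
  obtain ⟨f, ⟨hf, hle⟩, -⟩ := existsUnique_subpair hM hPe hQP
  have hPC := le_cen_of_abelian hab hQP
  have hPN : P ≤ Subgroup.normalizer (Q : Set G) := hPC.trans (cen_le_normalizer Q)
  have hn : IsNormalSubpair p M Q f P c := isNormalSubpair_of_le hM hPe hle .refl hQP hPN
  have hnilf := hnil Q f hle hQ1
  obtain ⟨a, b, hab', -, ⟨k, hk⟩, hbreg, ha, hb⟩ := exists_jordan (p := p) g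
  have hTP : ∃ T : Subgroup G, ∀ y : G, y ∈ T ↔ y ∈ Subgroup.normalizer (P : Set G) ∧ StabilizesBlock (Cen P) c y :=
    exists_pairT hPe.2
  obtain ⟨T, hT⟩ := hTP
  have hgT : g ∈ T := (hT g).2 ⟨hgN, hgs⟩
  have hzT : Subgroup.zpowers g ≤ T := by
    rw [Subgroup.zpowers_le]
    exact hgT
  have hgQ : g ∈ Cen Q := hcenQ g (by
    rw [mul_inv_eq_iff_eq_mul] at hgx
    exact hgx)
  have hzQ : Subgroup.zpowers g ≤ Cen Q := by
    rw [Subgroup.zpowers_le]
    exact hgQ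
  have haC : a ∈ Cen P := by
    obtain ⟨h1, h2⟩ := (hT a).1 (hzT ha)
    refine mem_cen_of_pElt hM hmax hab h1 h2 (k := k) ?_
    rw [← hk]
    exact pow_orderOf_eq_one a
  have hbC : b ∈ Cen P := by
    obtain ⟨h1, h2⟩ := (hT b).1 (hzT hb)
    have hbQ : b ∈ Cen Q := hzQ hb
    obtain ⟨S, hS⟩ : ∃ S : Subgroup (Cen Q), up S = P :=
      ⟨P.subgroupOf (Cen Q), Subgroup.map_subgroupOf_eq_of_le hPC⟩
    subst hS
    have hcl : Cen (up S) ≤ Cen Q := cen_le_cen hQP
    have hpair := isBrauerPairOf_down hf rfl hcl hn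
    have hbN : (⟨b, hbQ⟩ : Cen Q) ∈ Subgroup.normalizer (S : Set (Cen Q)) := by
      rw [Subgroup.mem_normalizer_iff]
      intro v
      rw [← coe_mem_up (R := S), ← coe_mem_up (R := S)]
      exact Subgroup.mem_normalizer_iff.1 h1 (v : G)
    have hbs : StabilizesBlock (Cen S) (mapBlock (cenIso S hcl).symm c) (⟨b, hbQ⟩ : Cen Q) :=
      stabilizes_down hcl hPe.2 (normalizer_le_normalizer_cen hbN) h2
    have hreg : IsPRegular p (⟨b, hbQ⟩ : Cen Q) := by
      unfold IsPRegular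
      rw [← Subgroup.orderOf_coe]
      exact hbreg
    exact coe_mem_cen_up (hnilf.2 S _ hpair _ hbN hbs hreg)
  rw [← hab']
  exact Subgroup.mul_mem _ haC hbC

end Abelian

end Cfsg.Agent.Lib.BPair
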