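import Cfsg.Agent.Lib.BPair.Fully
import Cfsg.Agent.Lib.BPair.Induced
import Cfsg.Agent.Lib.Block.Section

/-!
# A block of the centralizer of a central defect subgroup with the same defect (S4717)
-/

set_option autoImplicit false
set_option linter.unusedSectionVars false
set_option linter.unusedSimpArgs false
set_option linter.unusedVariables false

open scoped ComplexConjugate
open Cfsg MonoidAlgebra
open Cfsg.Agent.Lib.Block Cfsg.Agent.Lib.Char Cfsg.Agent.Lib.CharExtra

namespace Cfsg.Agent.Lib.BPair

attribute [local instance] subFintype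

section

variable {G : Type*} [Group G] [Fintype G] {M : Ideal AlgInt} {p : ℕ} [hp : Fact p.Prime]
  {B : Set (IrrCharacter G)}

/-- `B` has a block of the centralizer of a `Q ≤ D` central in the defect group `D` inducing it, whose
defect group contains `D`. -/
theorem exists_cen_block (hM : IsPModular p M) (hB : IsPBlock M B) {D Q : Subgroup G}
    (hD : IsDefectGroup p M B D) (hQD : Q ≤ D) (hDC : D ≤ Cen Q) :
    ∃ f : Set (IrrCharacter (Cen Q)), IsInducedBlock M (Cen Q) f B ∧
      ∃ D' : Subgroup (Cen Q), IsDefectGroup p M f D' ∧ D.subgroupOf (Cen Q) ≤ D' := by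
  classical
  have := isPModular_isPrime hM
  obtain ⟨e, he⟩ := exists_pair_on_defect hM hD hB
  have hmax := isMaximal_of_defect hM hD he
  obtain ⟨f, ⟨hf, hle⟩, -⟩ := existsUnique_subpair hM (isBrauerPairOf_iff.1 he).1 hQD
  have hpair := isBrauerPairOf_of_le hM hmax hle
  refine ⟨f, isInducedBlock_of_pair hM hpair, ?_⟩
  obtain ⟨D', hD', hle'⟩ := cen_defect_ge hM hmax hle hf
  refine ⟨D', hD', ?_⟩
  have : D ⊓ Cen Q = D := inf_eq_left.2 hDC
  rwa [this] at hle'

/-- The defect does not go down in a block of the centralizer as above. -/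
theorem blockDefect_le_of_defect_le (hM : IsPModular p M) {H : Subgroup G} [Fintype H] {b : Set (IrrCharacter H)}
    (hb : IsPBlock M b) (hB : IsPBlock M B) {D : Subgroup G} {D' : Subgroup H}
    (hD : IsDefectGroup p M B D) (hD' : IsDefectGroup p M b D') (hDH : D ≤ H) (hle : D.subgroupOf H ≤ D') :
    blockDefect p B ≤ blockDefect p b := by
  have h1 := card_defect_group hM hB hD
  have h2 := card_defect_group hM hb hD'
  have h3 : Nat.card D ≤ Nat.card D' := by
    have h4 : Nat.card (D.subgroupOf H) = Nat.card D :=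
      Nat.card_congr (Subgroup.subgroupOfEquivOfLe hDH).toEquiv
    rw [← h4]
    exact Subgroup.card_le_of_le hle
  rw [h1, h2] at h3
  exact (Nat.pow_le_pow_iff_right (Fact.out : p.Prime).one_lt).1 h3

theorem blockDefect_le_of_induced (hM : IsPModular p M) {H : Subgroup G} [Fintype H] {b : Set (IrrCharacter H)}
    (hind : IsInducedBlock M H b B) : blockDefect p b ≤ blockDefect p B := by
  have := isPModular_isPrime hM
  obtain ⟨D', hD'⟩ := Cfsg.Agent.Lib.Block.exists_isDefectGroup hM hind.1
  obtain ⟨E, hE, hle⟩ := defect_le_of_induced hM H hind hD'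
  have h1 := card_defect_group hM hind.2.1 hE
  have h2 := card_defect_group hM hind.1 hD'
  have h3 : Nat.card D' ≤ Nat.card E := by
    have h4 : Nat.card (D'.map H.subtype) = Nat.card D' :=
      Nat.card_congr (D'.equivMapOfInjective _ (Subgroup.subtype_injective _)).symm.toEquiv
    rw [← h4]
    exact Subgroup.card_le_of_le hle
  rw [h1, h2] at h3
  exact (Nat.pow_le_pow_iff_right (Fact.out : p.Prime).one_lt).1 h3

/-- The block of the centralizer of an element of the centre of a defect group. -/
theorem exists_centralizer_block (hM : IsPModular p M) (hB : IsPBlock M B) {D : Subgroup G}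
    (hD : IsDefectGroup p M B D) {y : G} (hy : y ∈ D) (hyc : ∀ d ∈ D, d * y = y * d) :
    ∃ f : Set (IrrCharacter (Subgroup.centralizer ({y} : Set G))),
      IsInducedBlock M (Subgroup.centralizer ({y} : Set G)) f B ∧
      blockDefect p f = blockDefect p B := by
  classical
  have hH : ∀ H : Subgroup G, H = Cen (Subgroup.zpowers y) →
      ∃ f : Set (IrrCharacter H), IsInducedBlock M H f B ∧ blockDefect p f = blockDefect p B := by
    rintro H rfl
    have hQD : Subgroup.zpowers y ≤ D := Subgroup.zpowers_le.2 hy
    have hDC : D ≤ Cen (Subgroup.zpowers y) := by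
      intro d hd
      unfold Cen
      rw [centralizer_zpowers_eq, mem_centralizer_singleton]
      exact hyc d hd
    obtain ⟨f, hf, D', hD', hle⟩ := exists_cen_block hM hB hD hQD hDC
    refine ⟨f, hf, le_antisymm (blockDefect_le_of_induced hM hf) ?_⟩
    exact blockDefect_le_of_defect_le hM hf.1 hB hD hD' hDC hle
  exact hH _ (centralizer_zpowers_eq y).symm

end

end Cfsg.Agent.Lib.BPair

namespace Cfsg.Agent.Lib.BPair

section

variable {G : Type*} [Group G] [Fintype G] {M : Ideal AlgInt} {p : ℕ} [hp : Fact p.Prime]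

/-- Uniqueness of the induced block. -/
theorem induced_block_unique [M.IsPrime] {H : Subgroup G} {b : Set (IrrCharacter H)} {B B' : Set (IrrCharacter G)}
    (h : IsInducedBlock M H b B) (h' : IsInducedBlock M H b B') : B = B' := by
  obtain ⟨ξ, hξ⟩ := IsPBlock_nonempty h.1
  obtain ⟨χ, hχ⟩ := IsPBlock_nonempty h.2.1
  obtain ⟨χ', hχ'⟩ := IsPBlock_nonempty h'.2.1
  have hs : SameBlock M (χ : G → ℂ) (χ' : G → ℂ) := fun g =>
    memLocalIdeal_sub_trans (memLocalIdeal_sub_comm.1 (h.2.2 ξ hξ χ hχ g)) (h'.2.2 ξ hξ χ' hχ' g)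
  rw [blockOf_eq_of_mem h.2.1 hχ, blockOf_eq_of_mem h'.2.1 hχ']
  ext ψ
  exact ⟨fun hψ => sameBlock_trans (sameBlock_symm hs) hψ, fun hψ => sameBlock_trans hs hψ⟩

/-- Main statement of S4717, first part. -/
theorem blockClass_centralizer (hM : IsPModular p M) (r : ℕ)
    (h : ∀ B' : Set (IrrCharacter G), IsPBlock M B' → B' ≠ principalBlock M G → blockDefect p B' < r)
    (y : G) (hy : ∃ k : ℕ, orderOf y = p ^ k)
    (B' : Set (IrrCharacter (Subgroup.centralizer ({y} : Set G)))) (hB' : IsPBlock M B')
    (hne : B' ≠ principalBlock M (Subgroup.centralizer ({y} : Set G))) : blockDefect p B' < r := by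
  classical
  have := isPModular_isPrime hM
  by_contra hge
  push Not at hge
  have hdef : InducedBlockDefined M (Subgroup.centralizer ({y} : Set G)) B' :=
    inducedBlockDefined_of_normalizer hM (isPGroup_zpowers_of_orderOf hy) (zpowers_le_centralizer y)
      (centralizer_zpowers_eq y).le (centralizer_le_normalizer_zpowers y) hB'
  obtain ⟨B, hind⟩ := id hdef
  have hle := blockDefect_le_of_induced (p := p) hM hind
  have hprinc : B = principalBlock M G := by
    by_contra hne'
    have := h B hind.2.1 hne'
    omega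
  subst hprinc
  exact hne ((third_main hM _ B' hdef).1 hind)

/-- Main statement of S4717, second part. -/
theorem blockClass_of_centralizer (hM : IsPModular p M) (r : ℕ) (hr : 0 < r)
    (h : ∀ y : G, orderOf y = p → ∀ B' : Set (IrrCharacter (Subgroup.centralizer ({y} : Set G))),
      IsPBlock M B' → B' ≠ principalBlock M (Subgroup.centralizer ({y} : Set G)) → blockDefect p B' < r)
    (B : Set (IrrCharacter G)) (hB : IsPBlock M B) (hne : B ≠ principalBlock M G) : blockDefect p B < r := by
  classical
  have := isPModular_isPrime hM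
  by_contra hge
  push Not at hge
  obtain ⟨D, hD⟩ := Cfsg.Agent.Lib.Block.exists_isDefectGroup hM hB
  have hcard := card_defect_group hM hB hD
  have hDp : IsPGroup p D := IsPGroup.of_card hcard
  have hnt : Nontrivial D := by
    rw [← Finite.one_lt_card_iff_nontrivial, hcard]
    exact Nat.one_lt_pow (by omega) (Fact.out : p.Prime).one_lt
  have hcnt : Nontrivial (Subgroup.center D) := hDp.center_nontrivial
  have hdvd : p ∣ Nat.card (Subgroup.center D) := by
    have hpc : IsPGroup p (Subgroup.center D) := hDp.to_subgroup _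
    obtain ⟨n, hn⟩ := IsPGroup.iff_card.1 hpc
    rw [hn]
    refine dvd_pow_self _ ?_
    rintro rfl
    rw [pow_zero] at hn
    have : 1 < Nat.card (Subgroup.center D) := Finite.one_lt_card_iff_nontrivial.2 hcnt
    omega
  obtain ⟨z, hz⟩ := exists_prime_orderOf_dvd_card' p hdvd
  set y : G := ((z : D) : G) with hyd
  have hord : orderOf y = p := by
    rw [hyd, Subgroup.orderOf_coe, Subgroup.orderOf_coe, hz]
  have hyD : y ∈ D := (z : D).2
  have hyc : ∀ d ∈ D, d * y = y * d := by
    intro d hd
    have := (Subgroup.mem_center_iff.1 z.2 ⟨d, hd⟩)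
    exact congrArg Subtype.val this
  obtain ⟨f, hf, hfd⟩ := exists_centralizer_block hM hB hD hyD hyc
  have h1 : f ≠ principalBlock M (Subgroup.centralizer ({y} : Set G)) := by
    rintro rfl
    apply hne
    have h2 := (third_main hM _ (principalBlock M (Subgroup.centralizer ({y} : Set G))) ⟨B, hf⟩).2 rfl
    exact induced_block_unique hf h2
  have h3 := h y hord f hf.1 h1
  omega

end

end Cfsg.Agent.Lib.BPair
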