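import Cfsg.Agent.Lib.BPair.Normal

/-!
# Uniqueness of subpairs
-/

set_option autoImplicit false
set_option linter.unusedSectionVars false
set_option linter.unusedSimpArgs false
set_option linter.unusedVariables false

open scoped ComplexConjugate
open Cfsg MonoidAlgebra
open Cfsg.Agent.Lib.Block Cfsg.Agent.Lib.Char Cfsg.Agent.Lib.CharExtra

namespace Cfsg.Agent.Lib.BPair

attribute [local instance] subFintype

section

variable {G : Type*} [Group G] [Fintype G] {M : Ideal AlgInt} [hMp : M.IsPrime] {p : ℕ} [hp : Fact p.Prime]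

/-- Conjugating the element conjugates the character. -/
theorem om_resAlg_conjElt {K : Subgroup G} {x : G} (hx : x ∈ Subgroup.normalizer (K : Set G))
    (η : IrrCharacter K) (z : MonoidAlgebra ℂ G) :
    om (η : K → ℂ) (resAlg K (conjElt x z)) =
      om (mapIrr (nConj hx).symm η : K → ℂ) (resAlg K z) := by
  classical
  unfold om tr
  have h1 : (mapIrr (nConj hx).symm η : K → ℂ) 1 = (η : K → ℂ) 1 := by
    simp [mapIrr]
  rw [h1]
  congr 1
  rw [← Equiv.sum_comp (nConj hx).toEquiv]
  refine Finset.sum_congr rfl fun c _ => ?_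
  rw [coeff_resAlg, coeff_resAlg, coeff_conjElt]
  have h2 : x⁻¹ * (((nConj hx).toEquiv c : K) : G) * x = (c : G) := by
    show x⁻¹ * (x * (c : G) * x⁻¹) * x = c
    group
  rw [h2]
  rw [mapIrr_apply']
  simp

theorem Ee_mapBlock {Q : Subgroup G} {x : G} (hx : x ∈ Subgroup.normalizer ((Cen Q : Subgroup G) : Set G))
    (f : Set (IrrCharacter (Cen Q))) : Ee Q (mapBlock (nConj hx) f) = conjElt x (Ee Q f) := by
  apply ext_coeff
  intro g
  rw [coeff_conjElt]
  unfold Ee
  by_cases hg : g ∈ Cen Q
  · have hg' : x⁻¹ * g * x ∈ Cen Q := by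
      have := (Subgroup.mem_normalizer_iff.1 ((Subgroup.normalizer ((Cen Q : Subgroup G) : Set G)).inv_mem hx) g).1 hg
      simpa using this
    have e1 := coeff_incl_coe (Cen Q) (blockElt (mapBlock (nConj hx) f)) ⟨g, hg⟩
    have e2 := coeff_incl_coe (Cen Q) (blockElt f) ⟨x⁻¹ * g * x, hg'⟩
    simp only at e1 e2
    rw [e1, e2, coeff_blockElt, coeff_blockElt]
    have e3 : (⟨g, hg⟩ : Cen Q) = nConj hx ⟨x⁻¹ * g * x, hg'⟩ := by
      apply Subtype.ext
      simp [mul_assoc]
    rw [e3]
    exact blockCoeff_mapBlock (nConj hx) f _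
  · have hg' : x⁻¹ * g * x ∉ Cen Q := fun h => hg (by
      have := (Subgroup.mem_normalizer_iff.1 hx (x⁻¹ * g * x)).1 h
      simpa [mul_assoc] using this)
    rw [coeff_incl_of_notMem _ _ hg, coeff_incl_of_notMem _ _ hg']

/-- Transitivity when the bottom is normal in the top. -/
theorem isNormalSubpair_trans (hM : IsPModular p M) {Q R P : Subgroup G} {f : Set (IrrCharacter (Cen Q))}
    {g : Set (IrrCharacter (Cen R))} {e : Set (IrrCharacter (Cen P))} (h₁ : IsNormalSubpair p M Q f R g)
    (h₂ : IsNormalSubpair p M R g P e) (hPN : P ≤ Subgroup.normalizer (Q : Set G)) :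
    IsNormalSubpair p M Q f P e := by
  classical
  obtain ⟨hQf, hRg, hQR, hRN, hst₁, hom₁⟩ := isNormalSubpair_iff.1 h₁
  obtain ⟨hRg', hPe, hRP, hPNR, hst₂, hom₂⟩ := isNormalSubpair_iff.1 h₂
  have hf := hQf.2
  have hg := hRg.2
  have hPN' : P ≤ Subgroup.normalizer ((Cen Q : Subgroup G) : Set G) :=
    fun x hx => normalizer_le_normalizer_cen (hPN hx)
  letI act := blocksSmul (M := M) hPN'
  set F : Blocks M (Cen Q) := ⟨f, hf⟩ with hF
  have hFR : ∀ r : P, (r : G) ∈ R → r • F = F := by
    intro r hr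
    apply Subtype.ext
    obtain ⟨hx, hh⟩ := (stabilizes_iff hf).1 (hst₁ r hr)
    exact hh
  have hst : ∀ x : P, x • F = F := by
    intro x
    set F' := x • F with hF'
    have hxR : (x : G) ∈ Subgroup.normalizer ((Cen R : Subgroup G) : Set G) :=
      normalizer_le_normalizer_cen (hPNR x.2)
    have hF'e : Ee Q F'.1 = conjElt (x : G) (Ee Q f) := Ee_mapBlock (hPN' x.2) f
    have h1 : IsNormalSubpair p M Q F'.1 R g := by
      refine isNormalSubpair_iff.2 ⟨⟨hQf.1, F'.2⟩, hRg, hQR, hRN, ?_, ?_⟩
      · intro r hr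
        have hrP : r ∈ P := hRP hr
        have hrep : (⟨r, hrP⟩ : P) • F' = F' := by
          set r₁ : P := x⁻¹ * ⟨r, hrP⟩ * x with hr₁
          have hr₁R : (r₁ : G) ∈ R := by
            have := (Subgroup.mem_normalizer_iff.1 (P.mul_mem (hRP (R.one_mem)) (P.inv_mem x.2) |> fun _ =>
              hPNR (P.inv_mem x.2)) r).1 hr
            simpa [hr₁] using this
          have e1 : (⟨r, hrP⟩ : P) * x = x * r₁ := by
            rw [hr₁]
            group
          rw [hF', ← mul_smul, e1, mul_smul, hFR r₁ hr₁R]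
        exact (stabilizes_iff F'.2).2 ⟨hPN' hrP, congrArg Subtype.val hrep⟩
      · intro η hη
        rw [hF'e, om_resAlg_conjElt hxR]
        apply hom₁
        obtain ⟨hx2, hh2⟩ := (stabilizes_iff hg).1 (hst₂ x x.2)
        rw [← hh2] at hη
        exact mem_mapBlock.1 hη
    exact Subtype.ext (eq_of_isNormalSubpair hM h1 h₁)
  have hstP : ∀ x ∈ P, StabilizesBlock (Cen Q) f x := by
    intro x hx
    exact (stabilizes_iff hf).2 ⟨hPN' hx, congrArg Subtype.val (hst ⟨x, hx⟩)⟩
  refine isNormalSubpair_iff.2 ⟨hQf, hPe, hQR.trans hRP, hPN, hstP, ?_⟩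
  exact tru_step hM h₂ (isInvBy_Ee_of_stable hf hstP) (isInvBy_Ee_of_le (cen_le_cen hQR) f)
    (localCoeff_Ee hf) (Ee_mul_self Q f) hom₁

theorem chain_le {a b : BrauerPairIdx G} (h : Relation.ReflTransGen (NormalSubpairRel p M) a b) : a.1 ≤ b.1 := by
  induction h with
  | refl => exact le_rfl
  | tail _ hstep ih => exact ih.trans (isNormalSubpair_iff.1 hstep).2.2.1

theorem normal_of_chain (hM : IsPModular p M) {a b : BrauerPairIdx G}
    (h : Relation.ReflTransGen (NormalSubpairRel p M) a b) (ha : IsBrauerPair p M a.1 a.2)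
    (hN : b.1 ≤ Subgroup.normalizer (a.1 : Set G)) : IsNormalSubpair p M a.1 a.2 b.1 b.2 := by
  induction h with
  | refl => exact isNormalSubpair_self ha
  | @tail c d hac hcd ih =>
    have hcdle : c.1 ≤ d.1 := (isNormalSubpair_iff.1 hcd).2.2.1
    exact isNormalSubpair_trans hM (ih (hcdle.trans hN)) hcd hN

theorem lt_inf_normalizer {P Q : Subgroup G} (hP : IsPGroup p P) (hQP : Q < P) :
    Q < P ⊓ Subgroup.normalizer (Q : Set G) := by
  haveI : Group.IsNilpotent P := hP.isNilpotent
  have h1 : NormalizerCondition P := normalizerCondition_of_isNilpotent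
  have h2 : Q.subgroupOf P < ⊤ := by
    rw [lt_top_iff_ne_top]
    intro h
    apply hQP.not_ge
    intro x hx
    have : (⟨x, hx⟩ : P) ∈ Q.subgroupOf P := by rw [h]; exact Subgroup.mem_top _
    exact this
  have h3 := h1 _ h2
  obtain ⟨x, hx1, hx2⟩ := SetLike.exists_of_lt h3
  refine lt_of_le_of_ne (le_inf hQP.le (by
    intro y hy
    rw [Subgroup.mem_normalizer_iff]
    intro h
    exact ⟨fun hh => Q.mul_mem (Q.mul_mem hy hh) (Q.inv_mem hy), fun hh => by
      have := Q.mul_mem (Q.mul_mem (Q.inv_mem hy) hh) hy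
      simpa [mul_assoc] using this⟩)) ?_
  intro heq
  apply hx2
  have hxmem : (x : G) ∈ P ⊓ Subgroup.normalizer (Q : Set G) := by
    refine ⟨x.2, ?_⟩
    show (x : G) ∈ Subgroup.normalizer (Q : Set G)
    rw [Subgroup.mem_normalizer_iff]
    intro h
    have h4 := Subgroup.mem_normalizer_iff.1 hx1
    constructor
    · intro hh
      have hhP : h ∈ P := hQP.le hh
      have := (h4 ⟨h, hhP⟩).1 (by simpa [Subgroup.mem_subgroupOf] using hh)
      simpa [Subgroup.mem_subgroupOf] using this
    · intro hh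
      have hhP : (x : G) * h * (x : G)⁻¹ ∈ P := hQP.le hh
      have hhP2 : h ∈ P := by
        have := P.mul_mem (P.mul_mem (P.inv_mem x.2) hhP) x.2
        simpa [mul_assoc] using this
      have := (h4 ⟨h, hhP2⟩).2 (by simpa [Subgroup.mem_subgroupOf] using hh)
      simpa [Subgroup.mem_subgroupOf] using this
  rw [← heq] at hxmem
  exact hxmem

theorem card_sub_lt {Q R P : Subgroup G} (hQR : Q < R) (hRP : R ≤ P) :
    Nat.card P - Nat.card R < Nat.card P - Nat.card Q := by
  have h1 : Nat.card Q < Nat.card R := by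
    apply lt_of_le_of_ne (Subgroup.card_le_of_le hQR.le)
    intro hc
    exact hQR.ne (Subgroup.eq_of_le_of_card_ge hQR.le hc.ge)
  have h2 : Nat.card R ≤ Nat.card P := Subgroup.card_le_of_le hRP
  omega

/-- Existence of subpairs. -/
theorem exists_subpair (hM : IsPModular p M) {P : Subgroup G} {e : Set (IrrCharacter (Cen P))}
    (hPe : IsBrauerPair p M P e) :
    ∀ (n : ℕ) (Q : Subgroup G), Nat.card P - Nat.card Q = n → Q ≤ P →
      ∃ f : Set (IrrCharacter (Cen Q)), IsPBlock M f ∧ SubpairLE p M Q f P e := by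
  classical
  intro n
  induction n using Nat.strong_induction_on with
  | _ n ih =>
    intro Q hn hQP
    by_cases hQe : Q = P
    · subst hQe
      exact ⟨e, hPe.2, Relation.ReflTransGen.refl⟩
    · have hlt : Q < P := lt_of_le_of_ne hQP hQe
      have hNlt := lt_inf_normalizer hPe.1 hlt
      set N := P ⊓ Subgroup.normalizer (Q : Set G) with hN
      have hNP : N ≤ P := inf_le_left
      obtain ⟨h, hh, hle⟩ := ih _ (by rw [← hn]; exact card_sub_lt hNlt hNP) N rfl hNP
      have hNp : IsBrauerPair p M N h := ⟨hPe.1.to_le hNP, hh⟩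
      obtain ⟨f, hf, -⟩ := existsUnique_normalSubpair hM hNp hNlt.le inf_le_right
      refine ⟨f, (isNormalSubpair_iff.1 hf).1.2, ?_⟩
      exact Relation.ReflTransGen.head (show NormalSubpairRel p M ⟨Q, f⟩ ⟨N, h⟩ from hf) hle

/-- **Uniqueness of subpairs.** -/
theorem unique_subpair (hM : IsPModular p M) {P : Subgroup G} {e : Set (IrrCharacter (Cen P))}
    (hPe : IsBrauerPair p M P e) :
    ∀ (n : ℕ) (Q : Subgroup G), Nat.card P - Nat.card Q = n → Q ≤ P →
      ∀ f f' : Set (IrrCharacter (Cen Q)), IsPBlock M f → IsPBlock M f' →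
        SubpairLE p M Q f P e → SubpairLE p M Q f' P e → f = f' := by
  classical
  intro n
  induction n using Nat.strong_induction_on with
  | _ n ih =>
    intro Q hn hQP f f' hf hf' hle hle'
    have hQp : IsPGroup p Q := hPe.1.to_le hQP
    by_cases hPN : P ≤ Subgroup.normalizer (Q : Set G)
    · have h1 := normal_of_chain hM (a := ⟨Q, f⟩) (b := ⟨P, e⟩) hle ⟨hQp, hf⟩ hPN
      have h2 := normal_of_chain hM (a := ⟨Q, f'⟩) (b := ⟨P, e⟩) hle' ⟨hQp, hf'⟩ hPN
      exact eq_of_isNormalSubpair hM h1 h2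
    · have hQe : Q ≠ P := by
        rintro rfl
        apply hPN
        intro x hx
        rw [Subgroup.mem_normalizer_iff]
        intro h
        exact ⟨fun hh => Q.mul_mem (Q.mul_mem hx hh) (Q.inv_mem hx), fun hh => by
          have := Q.mul_mem (Q.mul_mem (Q.inv_mem hx) hh) hx
          simpa [mul_assoc] using this⟩
      have hlt : Q < P := lt_of_le_of_ne hQP hQe
      have hNlt := lt_inf_normalizer hPe.1 hlt
      set N := P ⊓ Subgroup.normalizer (Q : Set G) with hN
      have hNP : N ≤ P := inf_le_left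
      obtain ⟨h, hh, hNle⟩ := exists_subpair hM hPe _ N rfl hNP
      have hNp : IsBrauerPair p M N h := ⟨hPe.1.to_le hNP, hh⟩
      -- every chain from `Q` passes through `(N, h)`
      have claim : ∀ a : BrauerPairIdx G, Relation.ReflTransGen (NormalSubpairRel p M) a ⟨P, e⟩ →
          a.1 = Q → Relation.ReflTransGen (NormalSubpairRel p M) a ⟨N, h⟩ := by
        intro a hchain
        induction hchain using Relation.ReflTransGen.head_induction_on with
        | refl =>
          intro hQ
          exact absurd hQ.symm hQe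
        | @head a c hac hcP ihc =>
          intro haQ
          by_cases hcQ : c.1 = Q
          · exact Relation.ReflTransGen.head hac (ihc hcQ)
          · have hac' := isNormalSubpair_iff.1 hac
            have hQc : Q ≤ c.1 := by
              rw [← haQ]
              exact hac'.2.2.1
            have hcN : c.1 ≤ Subgroup.normalizer (Q : Set G) := by
              rw [← haQ]
              exact hac'.2.2.2.1
            have hcP' : c.1 ≤ P := chain_le hcP
            have hcle : c.1 ≤ N := le_inf hcP' hcN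
            have hQltc : Q < c.1 := lt_of_le_of_ne hQc (Ne.symm hcQ)
            obtain ⟨f₁, hf₁, hle₁⟩ := exists_subpair hM hNp _ c.1 rfl hcle
            have hle₁' : SubpairLE p M c.1 f₁ P e := Relation.ReflTransGen.trans hle₁ hNle
            have heq := ih _ (by rw [← hn]; exact card_sub_lt hQltc hcP') c.1 rfl hcP' f₁ c.2 hf₁
              hac'.2.1.2 hle₁' hcP
            have hcN' : Relation.ReflTransGen (NormalSubpairRel p M) c ⟨N, h⟩ := by
              have : c = ⟨c.1, f₁⟩ := by rw [heq]
              rw [this]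
              exact hle₁
            exact Relation.ReflTransGen.head hac hcN'
      have h1 := claim ⟨Q, f⟩ hle rfl
      have h2 := claim ⟨Q, f'⟩ hle' rfl
      have h3 := normal_of_chain hM h1 ⟨hQp, hf⟩ inf_le_right
      have h4 := normal_of_chain hM h2 ⟨hQp, hf'⟩ inf_le_right
      exact eq_of_isNormalSubpair hM h3 h4

theorem existsUnique_subpair (hM : IsPModular p M) {P Q : Subgroup G} {e : Set (IrrCharacter (Cen P))}
    (hPe : IsBrauerPair p M P e) (hQP : Q ≤ P) :
    ∃! f : Set (IrrCharacter (Cen Q)), IsPBlock M f ∧ SubpairLE p M Q f P e := by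
  obtain ⟨f, hf, hle⟩ := exists_subpair hM hPe _ Q rfl hQP
  refine ⟨f, ⟨hf, hle⟩, ?_⟩
  rintro f' ⟨hf', hle'⟩
  exact unique_subpair hM hPe _ Q rfl hQP f' f hf' hf hle' hle

end

end Cfsg.Agent.Lib.BPair
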