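import Cfsg.Agent.Lib.BPair.Chain

/-!
# Conjugation of Brauer pairs
-/

set_option autoImplicit false
set_option linter.unusedSectionVars false
set_option linter.unusedSimpArgs false
set_option linter.unusedVariables false

open scoped ComplexConjugate
open Cfsg MonoidAlgebra
open Cfsg.Agent.Lib.Block Cfsg.Agent.Lib.Char Cfsg.Agent.Lib.CharExtra

namespace Cfsg.Agent.Lib.BPair

attribute [local instance] subFintype

section

variable {G : Type*} [Group G] [Fintype G] {M : Ideal AlgInt} [hMp : M.IsPrime] {p : ℕ} [hp : Fact p.Prime]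

/-- The conjugate subgroup. -/
abbrev cj (x : G) (Q : Subgroup G) : Subgroup G := Q.map (MulAut.conj x).toMonoidHom

theorem mem_cj {x : G} {Q : Subgroup G} {u : G} : u ∈ cj x Q ↔ x⁻¹ * u * x ∈ Q := by
  constructor
  · rintro ⟨v, hv, rfl⟩
    simpa [MulAut.conj_apply, mul_assoc] using hv
  · intro h
    exact ⟨_, h, by simp [MulAut.conj_apply, mul_assoc]⟩

theorem conj_mem_cj {x : G} {Q : Subgroup G} {u : G} : x * u * x⁻¹ ∈ cj x Q ↔ u ∈ Q := by
  rw [mem_cj]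
  have : x⁻¹ * (x * u * x⁻¹) * x = u := by group
  rw [this]

theorem conj_mem_cen_cj {x : G} {Q : Subgroup G} {c : G} : x * c * x⁻¹ ∈ Cen (cj x Q) ↔ c ∈ Cen Q := by
  constructor
  · intro h
    rw [Subgroup.mem_centralizer_iff] at h ⊢
    intro v hv
    have h1 := h (x * v * x⁻¹) (conj_mem_cj.2 hv)
    have h2 : x * (v * c) * x⁻¹ = x * (c * v) * x⁻¹ := by
      calc x * (v * c) * x⁻¹ = (x * v * x⁻¹) * (x * c * x⁻¹) := by group
        _ = (x * c * x⁻¹) * (x * v * x⁻¹) := h1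
        _ = x * (c * v) * x⁻¹ := by group
    exact mul_left_cancel (mul_right_cancel h2)
  · intro h
    rw [Subgroup.mem_centralizer_iff] at h ⊢
    intro v hv
    have hv' := mem_cj.1 hv
    have h1 := h _ hv'
    calc v * (x * c * x⁻¹) = x * ((x⁻¹ * v * x) * c) * x⁻¹ := by group
      _ = x * (c * (x⁻¹ * v * x)) * x⁻¹ := by rw [h1]
      _ = x * c * x⁻¹ * v := by group

theorem mem_cen_cj {x : G} {Q : Subgroup G} {c : G} : c ∈ Cen (cj x Q) ↔ x⁻¹ * c * x ∈ Cen Q := by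
  rw [← conj_mem_cen_cj (x := x) (Q := Q) (c := x⁻¹ * c * x)]
  have : x * (x⁻¹ * c * x) * x⁻¹ = c := by group
  rw [this]

/-- Conjugation as an isomorphism between centralizers. -/
noncomputable def cEquiv (Q : Subgroup G) (x : G) : Cen Q ≃* Cen (cj x Q) where
  toFun c := ⟨x * c * x⁻¹, conj_mem_cen_cj.2 c.2⟩
  invFun c := ⟨x⁻¹ * c * x, mem_cen_cj.1 c.2⟩
  left_inv c := by
    apply Subtype.ext
    show x⁻¹ * (x * (c : G) * x⁻¹) * x = c
    group
  right_inv c := by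
    apply Subtype.ext
    show x * (x⁻¹ * (c : G) * x) * x⁻¹ = c
    group
  map_mul' a b := by
    apply Subtype.ext
    show x * ((a : G) * b) * x⁻¹ = (x * a * x⁻¹) * (x * b * x⁻¹)
    group

@[simp] theorem cEquiv_coe (Q : Subgroup G) (x : G) (c : Cen Q) : ((cEquiv Q x c : Cen (cj x Q)) : G) = x * c * x⁻¹ := rfl

@[simp] theorem cEquiv_symm_coe (Q : Subgroup G) (x : G) (c : Cen (cj x Q)) :
    (((cEquiv Q x).symm c : Cen Q) : G) = x⁻¹ * c * x := rfl

theorem conjBlock_eq (Q : Subgroup G) (x : G) (f : Set (IrrCharacter (Cen Q))) :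
    conjBlock Q x f = mapBlock (cEquiv Q x) f := by
  ext ξ'
  constructor
  · rintro ⟨ξ, hξ, h⟩
    have : ξ' = mapIrr (cEquiv Q x) ξ := by
      apply Subtype.ext
      funext c'
      rw [mapIrr_apply']
      exact h _ _ (by simp [mul_assoc])
    rw [this]
    exact ⟨ξ, hξ, rfl⟩
  · rintro ⟨ξ, hξ, rfl⟩
    refine ⟨ξ, hξ, fun c c' hc => ?_⟩
    have : c' = cEquiv Q x c := Subtype.ext hc
    rw [this, mapIrr_apply]

theorem isPBlock_conjBlock {Q : Subgroup G} {x : G} {f : Set (IrrCharacter (Cen Q))} (hf : IsPBlock M f) :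
    IsPBlock M (conjBlock Q x f) := by
  rw [conjBlock_eq]
  exact isPBlock_mapBlock _ hf

theorem isBrauerPair_conj {Q : Subgroup G} {x : G} {f : Set (IrrCharacter (Cen Q))} (h : IsBrauerPair p M Q f) :
    IsBrauerPair p M (cj x Q) (conjBlock Q x f) :=
  ⟨h.1.map _, isPBlock_conjBlock h.2⟩

theorem Ee_conj (Q : Subgroup G) (x : G) (f : Set (IrrCharacter (Cen Q))) :
    Ee (cj x Q) (conjBlock Q x f) = conjElt x (Ee Q f) := by
  rw [conjBlock_eq]
  apply ext_coeff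
  intro g
  rw [coeff_conjElt]
  unfold Ee
  by_cases hg : g ∈ Cen (cj x Q)
  · have hg' : x⁻¹ * g * x ∈ Cen Q := mem_cen_cj.1 hg
    have e1 := coeff_incl_coe (Cen (cj x Q)) (blockElt (mapBlock (cEquiv Q x) f)) ⟨g, hg⟩
    have e2 := coeff_incl_coe (Cen Q) (blockElt f) ⟨x⁻¹ * g * x, hg'⟩
    simp only at e1 e2
    rw [e1, e2, coeff_blockElt, coeff_blockElt]
    have e3 : (⟨g, hg⟩ : Cen (cj x Q)) = cEquiv Q x ⟨x⁻¹ * g * x, hg'⟩ := by
      apply Subtype.ext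
      simp [mul_assoc]
    rw [e3]
    exact blockCoeff_mapBlock (cEquiv Q x) f _
  · have hg' : x⁻¹ * g * x ∉ Cen Q := fun h => hg (mem_cen_cj.2 h)
    rw [coeff_incl_of_notMem _ _ hg, coeff_incl_of_notMem _ _ hg']

theorem om_resAlg_conj {Q : Subgroup G} {x : G} (η : IrrCharacter (Cen (cj x Q))) (z : MonoidAlgebra ℂ G) :
    om (η : Cen (cj x Q) → ℂ) (resAlg (Cen (cj x Q)) (conjElt x z)) =
      om (mapIrr (cEquiv Q x).symm η : Cen Q → ℂ) (resAlg (Cen Q) z) := by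
  classical
  unfold om tr
  have h1 : (mapIrr (cEquiv Q x).symm η : Cen Q → ℂ) 1 = (η : Cen (cj x Q) → ℂ) 1 := by
    simp [mapIrr]
  rw [h1]
  congr 1
  rw [← Equiv.sum_comp (cEquiv Q x).toEquiv]
  refine Finset.sum_congr rfl fun c _ => ?_
  rw [coeff_resAlg, coeff_resAlg, coeff_conjElt]
  have h2 : x⁻¹ * (((cEquiv Q x).toEquiv c : Cen (cj x Q)) : G) * x = (c : G) := by
    show x⁻¹ * (x * (c : G) * x⁻¹) * x = c
    group
  rw [h2]
  rw [mapIrr_apply']
  simp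

theorem conjElt_of_central {z : MonoidAlgebra ℂ G} (hz : IsCentralElt z) (x : G) : conjElt x z = z := by
  apply ext_coeff
  intro g
  rw [coeff_conjElt]
  have := hz x⁻¹ g
  simpa using this

theorem isBrauerPairOf_conj {B : Set (IrrCharacter G)} {Q : Subgroup G} {x : G} {f : Set (IrrCharacter (Cen Q))}
    (h : IsBrauerPairOf p M B Q f) : IsBrauerPairOf p M B (cj x Q) (conjBlock Q x f) := by
  obtain ⟨hQf, hB, hom⟩ := isBrauerPairOf_iff.1 h
  refine isBrauerPairOf_iff.2 ⟨isBrauerPair_conj hQf, hB, fun ξ hξ => ?_⟩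
  rw [conjBlock_eq, mem_mapBlock] at hξ
  have h1 := hom _ hξ
  rw [← om_resAlg_conj, conjElt_of_central (isCentralElt_blockElt B)] at h1
  exact h1

theorem stabilizes_conj {Q : Subgroup G} {x v : G} {f : Set (IrrCharacter (Cen Q))} (hf : IsPBlock M f)
    (h : StabilizesBlock (Cen Q) f v) :
    StabilizesBlock (Cen (cj x Q)) (conjBlock Q x f) (x * v * x⁻¹) := by
  obtain ⟨hv, h1⟩ := (stabilizes_iff hf).1 h
  have hu : x * v * x⁻¹ ∈ Subgroup.normalizer ((Cen (cj x Q) : Subgroup G) : Set G) := by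
    rw [Subgroup.mem_normalizer_iff]
    intro c
    rw [mem_cen_cj, mem_cen_cj]
    have hv' := Subgroup.mem_normalizer_iff.1 hv (x⁻¹ * c * x)
    have e : x⁻¹ * (x * v * x⁻¹ * c * (x * v * x⁻¹)⁻¹) * x = v * (x⁻¹ * c * x) * v⁻¹ := by group
    rw [e]
    exact hv'
  refine (stabilizes_iff (isPBlock_conjBlock hf)).2 ⟨hu, ?_⟩
  rw [conjBlock_eq]
  have e : (cEquiv Q x).trans (nConj hu) = (nConj hv).trans (cEquiv Q x) := by
    ext c
    show (x * v * x⁻¹) * (x * (c : G) * x⁻¹) * (x * v * x⁻¹)⁻¹ = x * (v * c * v⁻¹) * x⁻¹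
    group
  rw [← mapBlock_trans, e, mapBlock_trans, h1]

theorem isNormalSubpair_conj {Q P : Subgroup G} {x : G} {f : Set (IrrCharacter (Cen Q))}
    {e : Set (IrrCharacter (Cen P))} (h : IsNormalSubpair p M Q f P e) :
    IsNormalSubpair p M (cj x Q) (conjBlock Q x f) (cj x P) (conjBlock P x e) := by
  obtain ⟨hQf, hPe, hQP, hPN, hst, hom⟩ := isNormalSubpair_iff.1 h
  refine isNormalSubpair_iff.2 ⟨isBrauerPair_conj hQf, isBrauerPair_conj hPe, Subgroup.map_mono hQP, ?_, ?_, ?_⟩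
  · intro u hu
    have hv := mem_cj.1 hu
    rw [Subgroup.mem_normalizer_iff]
    intro c
    rw [mem_cj, mem_cj]
    have := Subgroup.mem_normalizer_iff.1 (hPN hv) (x⁻¹ * c * x)
    have e : x⁻¹ * (u * c * u⁻¹) * x = (x⁻¹ * u * x) * (x⁻¹ * c * x) * (x⁻¹ * u * x)⁻¹ := by group
    rw [e]
    exact this
  · intro u hu
    have hv := mem_cj.1 hu
    have := stabilizes_conj (x := x) hQf.2 (hst _ hv)
    have e : x * (x⁻¹ * u * x) * x⁻¹ = u := by group
    rwa [e] at this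
  · intro ξ hξ
    rw [conjBlock_eq, mem_mapBlock] at hξ
    have h1 := hom _ hξ
    rw [← om_resAlg_conj, ← Ee_conj] at h1
    exact h1

/-- The conjugate of an index. -/
noncomputable def conjIdx (x : G) (a : BrauerPairIdx G) : BrauerPairIdx G := ⟨cj x a.1, conjBlock a.1 x a.2⟩

theorem chain_conj (x : G) {a b : BrauerPairIdx G} (h : Relation.ReflTransGen (NormalSubpairRel p M) a b) :
    Relation.ReflTransGen (NormalSubpairRel p M) (conjIdx x a) (conjIdx x b) := by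
  induction h with
  | refl => exact .refl
  | tail _ hstep ih => exact ih.tail (isNormalSubpair_conj hstep)

theorem subpairLE_conj {Q P : Subgroup G} {x : G} {f : Set (IrrCharacter (Cen Q))}
    {e : Set (IrrCharacter (Cen P))} (h : SubpairLE p M Q f P e) :
    SubpairLE p M (cj x Q) (conjBlock Q x f) (cj x P) (conjBlock P x e) := by
  exact chain_conj x h

theorem sigma_eq_of {Q Q'' : Subgroup G} (h : Q'' = Q) {f'' : Set (IrrCharacter (Cen Q''))}
    {f : Set (IrrCharacter (Cen Q))}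
    (H : ∀ ξ'' : IrrCharacter (Cen Q''), ξ'' ∈ f'' ↔ ∃ ξ ∈ f, ∀ (c'' : Cen Q'') (c : Cen Q), (c'' : G) = c →
      (ξ'' : Cen Q'' → ℂ) c'' = (ξ : Cen Q → ℂ) c) :
    (⟨Q'', f''⟩ : BrauerPairIdx G) = ⟨Q, f⟩ := by
  subst h
  have : f'' = f := by
    ext ξ
    rw [H]
    constructor
    · rintro ⟨ξ₁, hξ₁, hh⟩
      have : ξ = ξ₁ := Subtype.ext (funext fun c => hh c c rfl)
      rwa [this]
    · intro h
      exact ⟨ξ, h, fun c c' hc => by rw [Subtype.ext hc]⟩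
  rw [this]

theorem cj_inv_cj (x : G) (Q : Subgroup G) : cj x⁻¹ (cj x Q) = Q := by
  ext u
  rw [mem_cj, mem_cj]
  have : x⁻¹ * (x⁻¹⁻¹ * u * x⁻¹) * x = u := by group
  rw [this]

theorem conjIdx_inv (x : G) (a : BrauerPairIdx G) : conjIdx x⁻¹ (conjIdx x a) = a := by
  obtain ⟨Q, f⟩ := a
  show (⟨cj x⁻¹ (cj x Q), conjBlock (cj x Q) x⁻¹ (conjBlock Q x f)⟩ : BrauerPairIdx G) = ⟨Q, f⟩
  apply sigma_eq_of (cj_inv_cj x Q)
  intro ξ''
  constructor
  · rintro ⟨ξ₁, ⟨ξ, hξ, h2⟩, h1⟩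
    refine ⟨ξ, hξ, fun c'' c hc => ?_⟩
    have hc1 : x * (c : G) * x⁻¹ ∈ Cen (cj x Q) := conj_mem_cen_cj.2 c.2
    rw [h1 ⟨_, hc1⟩ c'' (by simp [hc, mul_assoc]), h2 c ⟨_, hc1⟩ rfl]
  · rintro ⟨ξ, hξ, h⟩
    refine ⟨mapIrr (cEquiv Q x) ξ, ?_, ?_⟩
    · rw [conjBlock_eq]
      exact ⟨ξ, hξ, rfl⟩
    · intro c₁ c'' hc
      rw [mapIrr_apply']
      refine h c'' _ ?_
      rw [hc, cEquiv_symm_coe, inv_inv]

end

end Cfsg.Agent.Lib.BPair
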