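import Cfsg.Agent.Lib.BPair.Induced
import Cfsg.Agent.Lib.Block.CentralDefect2

/-!
# Truncated block idempotents and the Brauer correspondence over `H ⊇ N_G(P)`
-/

set_option autoImplicit false
set_option linter.unusedSectionVars false
set_option linter.unusedSimpArgs false
set_option linter.unusedVariables false

open scoped ComplexConjugate Pointwise
open Cfsg MonoidAlgebra
open Cfsg.Agent.Lib.Block Cfsg.Agent.Lib.Char Cfsg.Agent.Lib.CharExtra

namespace Cfsg.Agent.Lib.BPair

attribute [local instance] subFintype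

section Trunc

theorem idem_comm {C : Type*} [CommRing C] (a b : C) (hbb : b * b = b) :
    (a + b - 2 * (a * b)) * (a + b - 2 * (a * b)) - (a + b - 2 * (a * b)) = a * a - a ∧
      (a - b) = (a - b) * (a + b - 2 * (a * b)) - (a * a - a) * (1 - 2 * b) := by
  constructor
  · linear_combination (1 + 4 * a * a - 4 * a) * hbb
  · linear_combination (1 - 2 * a) * hbb

theorem idem_aux {R : Type*} [Ring R] {a b : R} (hab : a * b = b * a) (hbb : b * b = b) :
    (a + b - 2 * (a * b)) * (a + b - 2 * (a * b)) - (a + b - 2 * (a * b)) = a * a - a ∧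
      (a - b) = (a - b) * (a + b - 2 * (a * b)) - (a * a - a) * (1 - 2 * b) := by
  have hcomm : ∀ x ∈ ({a, b} : Set R), ∀ y ∈ ({a, b} : Set R), x * y = y * x := by
    rintro x (rfl | rfl) y (rfl | rfl)
    · rfl
    · exact hab
    · exact hab.symm
    · rfl
  letI := Subring.closureCommRingOfComm hcomm
  have hbb' : (⟨b, Subring.subset_closure (by simp)⟩ : Subring.closure ({a, b} : Set R)) *
      ⟨b, Subring.subset_closure (by simp)⟩ = ⟨b, Subring.subset_closure (by simp)⟩ := Subtype.ext hbb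
  have key := idem_comm (⟨a, Subring.subset_closure (by simp)⟩ : Subring.closure ({a, b} : Set R))
    ⟨b, Subring.subset_closure (by simp)⟩ hbb'
  exact ⟨congrArg Subtype.val key.1, congrArg Subtype.val key.2⟩

variable {G : Type*} [Group G] [Fintype G] {M : Ideal AlgInt} [hMp : M.IsPrime] {p : ℕ} [hp : Fact p.Prime]

/-- The union of the blocks of `C_G(P)` on which the truncation of `z` is nonzero. -/
def truncUnion (M : Ideal AlgInt) (P : Subgroup G) (z : MonoidAlgebra ℂ G) : Set (IrrCharacter (Cen P)) :=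
  {ξ | ¬ MemLocalIdeal M (om (ξ : Cen P → ℂ) (resAlg (Cen P) z))}

theorem isBlockUnion_truncUnion {P : Subgroup G} {z : MonoidAlgebra ℂ G} (hz : IsCentralElt z) (hl : LocalCoeff M z) :
    IsBlockUnion M (truncUnion M P z) := by
  intro χ hχ ψ hψ h
  have h1 := memLocalIdeal_om_sub χ.2 ψ.2 h (isCentralElt_resAlg_of_isInvBy (hz.isInvBy _)) (localCoeff_resAlg _ hl)
  have hψ' : MemLocalIdeal M (om (ψ : Cen P → ℂ) (resAlg (Cen P) z)) := by
    by_contra hcon
    exact hψ hcon
  apply hχ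
  have := memLocalIdeal_add h1 hψ'
  simpa using this

/-- The truncation of an idempotent is congruent to an idempotent. -/
theorem localIdealCoeff_truncUnion (hM : IsPModular p M) {P : Subgroup G} (hP : IsPGroup p P) {z : MonoidAlgebra ℂ G}
    (hz : IsCentralElt z) (hl : LocalCoeff M z) (hid : z * z = z) :
    LocalIdealCoeff M (resAlg (Cen P) z - blockElt (truncUnion M P z)) := by
  classical
  obtain ⟨a, ha⟩ : ∃ a, a = resAlg (Cen P) z := ⟨_, rfl⟩
  obtain ⟨b, hb⟩ : ∃ b, b = blockElt (truncUnion M P z) := ⟨_, rfl⟩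
  rw [← ha, ← hb]
  have hac : IsCentralElt a := ha ▸ isCentralElt_resAlg_of_isInvBy (hz.isInvBy _)
  have hbc : IsCentralElt b := hb ▸ isCentralElt_blockElt _
  have hal : LocalCoeff M a := ha ▸ localCoeff_resAlg _ hl
  have hbl : LocalCoeff M b := hb ▸ localCoeff_blockElt (isBlockUnion_truncUnion hz hl)
  have hbb : b * b = b := hb ▸ blockElt_mul_self _
  have hcomm : a * b = b * a := isCentralElt_commute hac b
  obtain ⟨h1, h2⟩ := idem_aux hcomm hbb
  have ht : LocalIdealCoeff M (a * a - a) := by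
    have h3 := localIdealCoeff_resAlg_mul_sub hM hP (hz.isInvBy P) (hz.isInvBy P) hl hl
    rw [hid, ← ha] at h3
    have h4 := localIdealCoeff_neg h3
    rwa [neg_sub] at h4
  have hsc : IsCentralElt (a + b - 2 * (a * b)) :=
    isCentralElt_sub (isCentralElt_add hac hbc)
      (isCentralElt_mul (by
        have : (2 : MonoidAlgebra ℂ (Cen P)) = 1 + 1 := by norm_num
        rw [this]
        exact isCentralElt_add isCentralElt_one isCentralElt_one) (isCentralElt_mul hac hbc))
  have h2l : LocalCoeff M (2 : MonoidAlgebra ℂ (Cen P)) := by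
    have : (2 : MonoidAlgebra ℂ (Cen P)) = 1 + 1 := by norm_num
    rw [this]
    exact localCoeff_add localCoeff_one localCoeff_one
  have hsl : LocalCoeff M (a + b - 2 * (a * b)) :=
    localCoeff_sub (localCoeff_add hal hbl) (localCoeff_mul h2l (localCoeff_mul hal hbl))
  have hs0 : LocalIdealCoeff M (a + b - 2 * (a * b)) := by
    refine localIdealCoeff_of_idem_of_om hsc hsl (by rw [h1]; exact ht) fun ξ => ?_
    have h2om : om (ξ : Cen P → ℂ) (2 : MonoidAlgebra ℂ (Cen P)) = 2 := by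
      have : (2 : MonoidAlgebra ℂ (Cen P)) = 1 + 1 := by norm_num
      rw [this, om_add, om_one ξ.2]
      norm_num
    have hA : IsCentralElt (2 : MonoidAlgebra ℂ (Cen P)) := by
      have : (2 : MonoidAlgebra ℂ (Cen P)) = 1 + 1 := by norm_num
      rw [this]
      exact isCentralElt_add isCentralElt_one isCentralElt_one
    rw [om_sub, om_add, om_mul ξ.2 hA, om_mul ξ.2 hac, h2om]
    have hx : MemLocalRing M (om (ξ : Cen P → ℂ) a) := memLocalRing_om ξ.2 hac hal
    by_cases hξ : ξ ∈ truncUnion M P z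
    · have hb1 : om (ξ : Cen P → ℂ) b = 1 := by
        rw [hb]
        exact om_blockElt_of_mem hξ
      have hcases := om_idem_cases hM hP ξ (hz.isInvBy P) (hz.isInvBy _) hl hid
      rw [← ha] at hcases
      have hone : MemLocalIdeal M (om (ξ : Cen P → ℂ) a - 1) := by
        rcases hcases with h3 | h3
        · exact absurd (ha ▸ h3) hξ
        · exact h3
      rw [hb1]
      have e : om (ξ : Cen P → ℂ) a + 1 - 2 * (om (ξ : Cen P → ℂ) a * 1) = -(om (ξ : Cen P → ℂ) a - 1) := by ring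
      rw [e]
      exact memLocalIdeal_neg hone
    · have hb0 : om (ξ : Cen P → ℂ) b = 0 := by
        rw [hb]
        exact om_blockElt_of_notMem hξ
      have hzero : MemLocalIdeal M (om (ξ : Cen P → ℂ) a) := by
        by_contra hcon
        apply hξ
        show ¬ _
        rwa [← ha]
      rw [hb0]
      simpa using hzero
  rw [h2]
  exact localIdealCoeff_sub (localIdealCoeff_mul_left (localCoeff_sub hal hbl) hs0)
    (localIdealCoeff_mul_right ht (localCoeff_sub localCoeff_one (localCoeff_mul h2l hbl)))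

end Trunc

section Orbit

variable {G : Type*} [Group G] [Fintype G] {M : Ideal AlgInt} [hMp : M.IsPrime] {p : ℕ} [hp : Fact p.Prime]
  {B : Set (IrrCharacter G)} {P Q : Subgroup G} {e f : Set (IrrCharacter (Cen P))}

theorem conjIdx_of_normalizer {Q : Subgroup G} (f : Set (IrrCharacter (Cen Q))) {z : G}
    (hz : z ∈ Subgroup.normalizer (Q : Set G)) :
    conjIdx z ⟨Q, f⟩ = ⟨Q, mapBlock (nConj (normalizer_le_normalizer_cen hz)) f⟩ := by
  show (⟨cj z Q, conjBlock Q z f⟩ : BrauerPairIdx G) = ⟨Q, _⟩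
  have hzC := normalizer_le_normalizer_cen hz
  apply sigma_eq_of (cj_eq_of_mem_normalizer hz)
  intro ξ''
  constructor
  · rintro ⟨ξ₀, hξ₀, h⟩
    refine ⟨mapIrr (nConj hzC) ξ₀, ⟨ξ₀, hξ₀, rfl⟩, fun c'' c hc => ?_⟩
    rw [mapIrr_apply']
    refine h _ c'' ?_
    show (c'' : G) = z * (z⁻¹ * (c : G) * z) * z⁻¹
    rw [hc]
    group
  · rintro ⟨ξ, hξ, h⟩
    have hξ₀ : mapIrr (nConj hzC).symm ξ ∈ f := mem_mapBlock.1 hξ
    refine ⟨_, hξ₀, fun c c' hc' => ?_⟩
    rw [mapIrr_apply', MulEquiv.symm_symm]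
    exact h c' _ hc'

theorem isBrauerPairOf_nConj {Q : Subgroup G} {f : Set (IrrCharacter (Cen Q))} (h : IsBrauerPairOf p M B Q f) {z : G}
    (hz : z ∈ Subgroup.normalizer (Q : Set G)) :
    IsBrauerPairOf p M B Q (mapBlock (nConj (normalizer_le_normalizer_cen hz)) f) := by
  have h1 := isBrauerPairOf_conj (x := z) h
  have key : ∀ a : BrauerPairIdx G, a = conjIdx z ⟨Q, f⟩ → IsBrauerPairOf p M B a.1 a.2 := by
    rintro _ rfl
    exact h1
  exact key ⟨Q, _⟩ (conjIdx_of_normalizer f hz).symm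

/-- All the pairs of a block on a defect group are conjugate. -/
theorem exists_nConj_of_pair (hM : IsPModular p M) (hmax : IsMaximalBrauerPair p M B P e)
    (h : IsBrauerPairOf p M B P f) :
    ∃ x, ∃ hx : x ∈ Subgroup.normalizer (P : Set G), f = mapBlock (nConj (normalizer_le_normalizer_cen hx)) e := by
  have hD := isDefectGroup_of_max hM hmax
  have hmax' := isMaximal_of_defect hM hD h
  obtain ⟨x, hx⟩ := exists_conj_of_max hM hmax hmax'
  have h1 : cj x P = P := (congrArg Sigma.fst hx).symm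
  have hxN := mem_normalizer_of_cj_eq h1
  rw [conjIdx_of_normalizer e hxN] at hx
  exact ⟨x, hxN, eq_of_heq (Sigma.mk.inj hx).2⟩

end Orbit

section Corr

variable {G : Type*} [Group G] [Fintype G] {M : Ideal AlgInt} [hMp : M.IsPrime] {p : ℕ} [hp : Fact p.Prime]
  {L : Subgroup G} {S : Subgroup L}

theorem coe_mem_normalizer_up {u : L} (hu : u ∈ Subgroup.normalizer (S : Set L)) :
    (u : G) ∈ Subgroup.normalizer ((up S : Subgroup G) : Set G) := by
  rw [Subgroup.mem_normalizer_iff]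
  intro v
  by_cases hv : v ∈ L
  · have h1 := Subgroup.mem_normalizer_iff.1 hu ⟨v, hv⟩
    have e1 : (u : G) * v * (u : G)⁻¹ = ((u * ⟨v, hv⟩ * u⁻¹ : L) : G) := rfl
    rw [e1, coe_mem_up]
    have e2 : v ∈ up S ↔ (⟨v, hv⟩ : L) ∈ S := coe_mem_up (u := ⟨v, hv⟩)
    rw [e2]
    exact h1
  · constructor
    · intro h
      exact absurd (up_le h) hv
    · intro h
      exfalso
      apply hv
      have := up_le h
      have h3 := L.mul_mem (L.mul_mem (L.inv_mem u.2) this) u.2
      simpa [mul_assoc] using h3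

theorem mem_normalizer_of_coe {u : L} (hu : (u : G) ∈ Subgroup.normalizer ((up S : Subgroup G) : Set G)) :
    u ∈ Subgroup.normalizer (S : Set L) := by
  rw [Subgroup.mem_normalizer_iff]
  intro v
  rw [← coe_mem_up (R := S), ← coe_mem_up (R := S)]
  exact Subgroup.mem_normalizer_iff.1 hu (v : G)

theorem isNormalSubpair_down {R₁ R₂ : Subgroup L} (h₁ : Cen (up R₁) ≤ L) (h₂ : Cen (up R₂) ≤ L)
    {g₁ : Set (IrrCharacter (Cen R₁))} {g₂ : Set (IrrCharacter (Cen (up R₂)))}
    (hn : IsNormalSubpair p M (up R₁) (mapBlock (cenIso R₁ h₁) g₁) (up R₂) g₂) :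
    IsNormalSubpair p M R₁ g₁ R₂ (mapBlock (cenIso R₂ h₂).symm g₂) := by
  obtain ⟨⟨hp₁, hb₁⟩, ⟨hp₂, hb₂⟩, hle, hN, hst, hom⟩ := isNormalSubpair_iff.1 hn
  have hg₁ : IsPBlock M g₁ := by
    have := isPBlock_mapBlock (cenIso R₁ h₁).symm hb₁
    rwa [mapBlock_symm_mapBlock] at this
  have hle' : R₁ ≤ R₂ := fun u hu => coe_mem_up.1 (hle (coe_mem_up.2 hu))
  have hN' : R₂ ≤ Subgroup.normalizer (R₁ : Set L) := fun u hu => mem_normalizer_of_coe (hN (coe_mem_up.2 hu))
  refine isNormalSubpair_iff.2 ⟨⟨isPGroup_of_up hp₁, hg₁⟩, ⟨isPGroup_of_up hp₂, isPBlock_mapBlock _ hb₂⟩, hle', hN',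
    fun x hx => ?_, fun ξ hξ => ?_⟩
  · have := stabilizes_down h₁ hb₁ (normalizer_le_normalizer_cen (hN' hx)) (hst (x : G) (coe_mem_up.2 hx))
    rwa [mapBlock_symm_mapBlock] at this
  · rw [mem_mapBlock, MulEquiv.symm_symm] at hξ
    have h1 := hom _ hξ
    rw [← incl_Ee_up R₁ h₁, om_up R₂ h₂, mapIrr_symm_mapIrr] at h1
    exact h1

/-- If `(up S, e)` is maximal in `G` then `(S, e↓)` is maximal in `L`. -/
theorem isMaximal_down_of_normalizer (hM : IsPModular p M) (h : Cen (up S) ≤ L)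
    {B : Set (IrrCharacter G)} {e : Set (IrrCharacter (Cen (up S)))} (hmax : IsMaximalBrauerPair p M B (up S) e)
    {c : Set (IrrCharacter L)} (hpair : IsBrauerPairOf p M c S (mapBlock (cenIso S h).symm e)) :
    IsMaximalBrauerPair p M c S (mapBlock (cenIso S h).symm e) := by
  refine ⟨hpair, fun R g hRg hle => ?_⟩
  by_contra hne
  have hSR : S ≤ R := le_of_subpairLE hle
  have hlt : S < R := lt_of_le_of_ne hSR (Ne.symm hne)
  have hRg' := (isBrauerPairOf_iff.1 hRg).1
  have hQR := lt_inf_normalizer hRg'.1 hlt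
  obtain ⟨g₀, ⟨hg₀, hg₀le⟩, -⟩ := existsUnique_subpair hM hRg' (inf_le_left : R ⊓ Subgroup.normalizer (S : Set L) ≤ R)
  have hn := isNormalSubpair_of_le hM hRg' hle hg₀le hQR.le inf_le_right
  have hR₀ : Cen (up (R ⊓ Subgroup.normalizer (S : Set L))) ≤ L := cen_up_anti hQR.le h
  have hnup := isNormalSubpair_up h hR₀ hn
  rw [mapBlock_mapBlock_symm] at hnup
  have hpairR := isBrauerPairOf_of_normal_up hM hnup hmax.1
  have heq := hmax.2 _ _ hpairR (Relation.ReflTransGen.single hnup)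
  have heq' : R ⊓ Subgroup.normalizer (S : Set L) = S := Subgroup.map_injective (Subgroup.subtype_injective L) heq
  rw [heq'] at hQR
  exact lt_irrefl _ hQR

/-- If `(S, s)` is maximal in `L ⊇ N_G(up S)` then `(up S, s↑)` is maximal in `G`. -/
theorem isMaximal_up_of_normalizer (hM : IsPModular p M) (h : Cen (up S) ≤ L)
    (hN : Subgroup.normalizer ((up S : Subgroup G) : Set G) ≤ L)
    {c : Set (IrrCharacter L)} {s : Set (IrrCharacter (Cen S))} (hmax : IsMaximalBrauerPair p M c S s)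
    {B : Set (IrrCharacter G)} (hpair : IsBrauerPairOf p M B (up S) (mapBlock (cenIso S h) s)) :
    IsMaximalBrauerPair p M B (up S) (mapBlock (cenIso S h) s) := by
  have main : ∀ (R₀ : Subgroup G) (g₀ : Set (IrrCharacter (Cen R₀))), up S < R₀ → R₀ ≤ L →
      IsNormalSubpair p M (up S) (mapBlock (cenIso S h) s) R₀ g₀ → False := by
    intro R₀ g₀ hlt hR₀L hn
    obtain ⟨R₁, rfl⟩ : ∃ R₁ : Subgroup L, up R₁ = R₀ := ⟨R₀.subgroupOf L, Subgroup.map_subgroupOf_eq_of_le hR₀L⟩
    have hC : Cen (up R₁) ≤ L := (cen_le_cen hlt.le).trans h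
    have hn' := isNormalSubpair_down h hC hn
    have hpairR := isBrauerPairOf_of_normal_up hM hn' hmax.1
    have heq := hmax.2 _ _ hpairR (Relation.ReflTransGen.single hn')
    rw [heq] at hlt
    exact lt_irrefl _ hlt
  refine ⟨hpair, fun R g hRg hle => ?_⟩
  by_contra hne
  have hSR : up S ≤ R := le_of_subpairLE hle
  have hlt : up S < R := lt_of_le_of_ne hSR (Ne.symm hne)
  have hRg' := (isBrauerPairOf_iff.1 hRg).1
  have hQR := lt_inf_normalizer hRg'.1 hlt
  obtain ⟨g₀, ⟨hg₀, hg₀le⟩, -⟩ := existsUnique_subpair hM hRg'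
    (inf_le_left : R ⊓ Subgroup.normalizer ((up S : Subgroup G) : Set G) ≤ R)
  have hn := isNormalSubpair_of_le hM hRg' hle hg₀le hQR.le inf_le_right
  exact main _ g₀ hQR (inf_le_right.trans hN) hn

theorem mapBlock_cenIso_nConj (h : Cen (up S) ≤ L) {u : L} (hu : u ∈ Subgroup.normalizer ((Cen S : Subgroup L) : Set L))
    (hN : (u : G) ∈ Subgroup.normalizer ((Cen (up S) : Subgroup G) : Set G)) (s : Set (IrrCharacter (Cen S))) :
    mapBlock (cenIso S h) (mapBlock (nConj hu) s) = mapBlock (nConj hN) (mapBlock (cenIso S h) s) := by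
  rw [← mapBlock_trans, ← mapBlock_trans]
  have e : (nConj hu).trans (cenIso S h) = (cenIso S h).trans (nConj hN) := by
    ext c
    rfl
  rw [e]

/-- The two truncated unions correspond. -/
theorem truncUnion_up (hM : IsPModular p M) (h : Cen (up S) ≤ L)
    (hN : Subgroup.normalizer ((up S : Subgroup G) : Set G) ≤ L) {B : Set (IrrCharacter G)} {c : Set (IrrCharacter L)}
    {e : Set (IrrCharacter (Cen (up S)))} (hmaxG : IsMaximalBrauerPair p M B (up S) e)
    (hmaxL : IsMaximalBrauerPair p M c S (mapBlock (cenIso S h).symm e)) :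
    truncUnion M (up S) (blockElt B) = mapBlock (cenIso S h) (truncUnion M S (blockElt c)) := by
  classical
  have hGe := (isBrauerPairOf_iff.1 hmaxG.1)
  have hLe := (isBrauerPairOf_iff.1 hmaxL.1)
  have hBc := isCentralElt_blockElt B
  have hBl : LocalCoeff M (blockElt B) := localCoeff_blockElt (isBlockUnion_of_isPBlock hGe.2.1)
  have hcc := isCentralElt_blockElt c
  have hcl : LocalCoeff M (blockElt c) := localCoeff_blockElt (isBlockUnion_of_isPBlock hLe.2.1)
  ext ξ
  rw [mem_mapBlock]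
  show ¬ MemLocalIdeal M (om (ξ : Cen (up S) → ℂ) (resAlg (Cen (up S)) (blockElt B))) ↔
    ¬ MemLocalIdeal M (om (mapIrr (cenIso S h).symm ξ : Cen S → ℂ) (resAlg (Cen S) (blockElt c)))
  constructor
  · intro hξ
    have hone : MemLocalIdeal M (om (ξ : Cen (up S) → ℂ) (resAlg (Cen (up S)) (blockElt B)) - 1) :=
      (om_idem_cases hM hGe.1.1 ξ (hBc.isInvBy _) (hBc.isInvBy _) hBl (blockElt_mul_self B)).resolve_left hξ
    have hpf : IsBrauerPairOf p M B (up S) (blockOf M (ξ : Cen (up S) → ℂ)) := by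
      refine isBrauerPairOf_iff.2 ⟨⟨hGe.1.1, isPBlock_blockOf ξ⟩, hGe.2.1, fun ξ₁ hξ₁ => ?_⟩
      exact om_block_congr (isPBlock_blockOf ξ) hξ₁ (mem_blockOf_self ξ) (hBc.isInvBy _) hBl hone
    obtain ⟨x, hx, hfe⟩ := exists_nConj_of_pair hM hmaxG hpf
    have hxL : x ∈ L := hN hx
    have hu : (⟨x, hxL⟩ : L) ∈ Subgroup.normalizer (S : Set L) := mem_normalizer_of_coe hx
    have hpair' := isBrauerPairOf_nConj hmaxL.1 hu
    have hmem : mapIrr (cenIso S h).symm ξ ∈ mapBlock (nConj (normalizer_le_normalizer_cen hu))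
        (mapBlock (cenIso S h).symm e) := by
      have h2 : ξ ∈ mapBlock (nConj (normalizer_le_normalizer_cen hx)) e := by
        rw [← hfe]
        exact mem_blockOf_self ξ
      have h3 := mapBlock_cenIso_nConj (S := S) h (normalizer_le_normalizer_cen hu) (normalizer_le_normalizer_cen hx)
        (mapBlock (cenIso S h).symm e)
      rw [mapBlock_mapBlock_symm] at h3
      rw [← h3] at h2
      have h4 := mem_mapBlock.1 h2
      exact h4
    have h5 := (isBrauerPairOf_iff.1 hpair').2.2 _ hmem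
    intro h6
    apply not_memLocalIdeal_one (M := M)
    have e1 := memLocalIdeal_sub h6 h5
    simpa using e1
  · intro hξ
    have hone : MemLocalIdeal M (om (mapIrr (cenIso S h).symm ξ : Cen S → ℂ) (resAlg (Cen S) (blockElt c)) - 1) :=
      (om_idem_cases hM hLe.1.1 _ (hcc.isInvBy _) (hcc.isInvBy _) hcl (blockElt_mul_self c)).resolve_left hξ
    have hpf : IsBrauerPairOf p M c S (blockOf M (mapIrr (cenIso S h).symm ξ : Cen S → ℂ)) := by
      refine isBrauerPairOf_iff.2 ⟨⟨hLe.1.1, isPBlock_blockOf _⟩, hLe.2.1, fun ξ₁ hξ₁ => ?_⟩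
      exact om_block_congr (isPBlock_blockOf _) hξ₁ (mem_blockOf_self _) (hcc.isInvBy _) hcl hone
    obtain ⟨x, hx, hfe⟩ := exists_nConj_of_pair hM hmaxL hpf
    have hxG := coe_mem_normalizer_up hx
    have hpair' := isBrauerPairOf_nConj hmaxG.1 hxG
    have hmem : ξ ∈ mapBlock (nConj (normalizer_le_normalizer_cen hxG)) e := by
      have h2 : mapIrr (cenIso S h).symm ξ ∈ mapBlock (nConj (normalizer_le_normalizer_cen hx))
          (mapBlock (cenIso S h).symm e) := by
        rw [← hfe]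
        exact mem_blockOf_self _
      have h3 := mapBlock_cenIso_nConj (S := S) h (normalizer_le_normalizer_cen hx) (normalizer_le_normalizer_cen hxG)
        (mapBlock (cenIso S h).symm e)
      rw [mapBlock_mapBlock_symm] at h3
      rw [← h3, mem_mapBlock]
      exact h2
    have h5 := (isBrauerPairOf_iff.1 hpair').2.2 _ hmem
    intro h6
    apply not_memLocalIdeal_one (M := M)
    have e1 := memLocalIdeal_sub h6 h5
    simpa using e1

/-- Comparison of the coefficients of the two block idempotents. -/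
theorem coeff_congr_of_max (hM : IsPModular p M) (h : Cen (up S) ≤ L)
    (hN : Subgroup.normalizer ((up S : Subgroup G) : Set G) ≤ L) {B : Set (IrrCharacter G)} {c : Set (IrrCharacter L)}
    {e : Set (IrrCharacter (Cen (up S)))} (hmaxG : IsMaximalBrauerPair p M B (up S) e)
    (hmaxL : IsMaximalBrauerPair p M c S (mapBlock (cenIso S h).symm e)) {x : G} (hx : x ∈ Cen (up S)) :
    MemLocalIdeal M (blockCoeff B x - subgroupBlockCoeff L c x) := by
  classical
  have hGe := (isBrauerPairOf_iff.1 hmaxG.1)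
  have hLe := (isBrauerPairOf_iff.1 hmaxL.1)
  have hBl : LocalCoeff M (blockElt B) := localCoeff_blockElt (isBlockUnion_of_isPBlock hGe.2.1)
  have hcl : LocalCoeff M (blockElt c) := localCoeff_blockElt (isBlockUnion_of_isPBlock hLe.2.1)
  have h1 := localIdealCoeff_truncUnion hM hGe.1.1 (isCentralElt_blockElt B) hBl (blockElt_mul_self B) ⟨x, hx⟩
  have h2 := localIdealCoeff_truncUnion hM hLe.1.1 (isCentralElt_blockElt c) hcl (blockElt_mul_self c)
    ((cenIso S h).symm ⟨x, hx⟩)
  rw [truncUnion_up hM h hN hmaxG hmaxL] at h1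
  simp only [MonoidAlgebra.coeff_sub, Finsupp.sub_apply, coeff_resAlg, coeff_blockElt] at h1 h2
  have e1 := blockCoeff_mapBlock (cenIso S h) (truncUnion M S (blockElt c)) ((cenIso S h).symm ⟨x, hx⟩)
  rw [MulEquiv.apply_symm_apply] at e1
  rw [e1] at h1
  have hxL : x ∈ L := h hx
  have e2 : subgroupBlockCoeff L c x = blockCoeff c ⟨x, hxL⟩ := by
    unfold subgroupBlockCoeff
    simp [hxL]
  rw [e2]
  have e3 : (((cenIso S h).symm ⟨x, hx⟩ : Cen S) : L) = ⟨x, hxL⟩ := rfl
  rw [e3] at h2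
  have h3 := memLocalIdeal_sub h1 h2
  have e4 : blockCoeff B x - blockCoeff c ⟨x, hxL⟩ =
      (blockCoeff B x - blockCoeff (truncUnion M S (blockElt c)) ((cenIso S h).symm ⟨x, hx⟩)) -
      (blockCoeff c ⟨x, hxL⟩ - blockCoeff (truncUnion M S (blockElt c)) ((cenIso S h).symm ⟨x, hx⟩)) := by ring
  rw [e4]
  exact h3

/-- Congruent coefficients give the same pairs. -/
theorem pair_iff_of_congr (h : Cen (up S) ≤ L) {B : Set (IrrCharacter G)} {c : Set (IrrCharacter L)}
    (hB : IsPBlock M B) (hc : IsPBlock M c) (hcong : ∀ x : G, x ∈ Cen (up S) → MemLocalIdeal M (blockCoeff B x - subgroupBlockCoeff L c x))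
    {e : Set (IrrCharacter (Cen (up S)))} (hpg : IsPGroup p (up S)) (he : IsPBlock M e) :
    IsBrauerPairOf p M B (up S) e ↔ IsBrauerPairOf p M c S (mapBlock (cenIso S h).symm e) := by
  classical
  have hinv : IsInvBy (Cen (up S)) (incl L (blockElt c)) := by
    intro u hu g
    have huL : u ∈ L := h hu
    by_cases hg : g ∈ L
    · have e1 := coeff_incl_coe L (blockElt c) ⟨g, hg⟩
      have e2 := coeff_incl_coe L (blockElt c) (⟨u, huL⟩ * ⟨g, hg⟩ * (⟨u, huL⟩ : L)⁻¹)
      simp only at e1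
      have e3 : u * g * u⁻¹ = (((⟨u, huL⟩ : L) * ⟨g, hg⟩ * (⟨u, huL⟩ : L)⁻¹ : L) : G) := rfl
      rw [e3, e2, e1, isCentralElt_blockElt c]
    · have hg' : u * g * u⁻¹ ∉ L := by
        intro h5
        apply hg
        have h6 := L.mul_mem (L.mul_mem (L.inv_mem huL) h5) huL
        simpa [mul_assoc] using h6
      rw [coeff_incl_of_notMem _ _ hg, coeff_incl_of_notMem _ _ hg']
  have key : ∀ ξ : IrrCharacter (Cen (up S)), MemLocalIdeal M (om (ξ : Cen (up S) → ℂ) (resAlg (Cen (up S)) (blockElt B)) -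
      om (mapIrr (cenIso S h).symm ξ : Cen S → ℂ) (resAlg (Cen S) (blockElt c))) := by
    intro ξ
    rw [← om_up S h, ← om_sub, ← resAlg_sub]
    refine memLocalIdeal_om_of_localIdealCoeff ξ.2 (isCentralElt_resAlg_of_isInvBy ?_) ?_
    · intro u hu g
      simp only [MonoidAlgebra.coeff_sub, Finsupp.sub_apply]
      rw [hinv u hu g, isCentralElt_blockElt B]
    · intro y
      rw [coeff_resAlg, MonoidAlgebra.coeff_sub, Finsupp.sub_apply, coeff_blockElt]
      have hyL : (y : G) ∈ L := h y.2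
      have e1 := coeff_incl_coe L (blockElt c) ⟨y, hyL⟩
      simp only at e1
      rw [e1, coeff_blockElt]
      have e2 := hcong y y.2
      have e3 : subgroupBlockCoeff L c (y : G) = blockCoeff c ⟨y, hyL⟩ := by
        unfold subgroupBlockCoeff
        simp [hyL]
      rwa [e3] at e2
  constructor
  · intro hp
    refine isBrauerPairOf_iff.2 ⟨⟨isPGroup_of_up hpg, isPBlock_mapBlock _ he⟩, hc, fun ξ hξ => ?_⟩
    rw [mem_mapBlock, MulEquiv.symm_symm] at hξ
    have h1 := (isBrauerPairOf_iff.1 hp).2.2 _ hξ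
    have h2 := key (mapIrr (cenIso S h) ξ)
    rw [mapIrr_symm_mapIrr] at h2
    have h3 := memLocalIdeal_sub h1 h2
    simpa using h3
  · intro hp
    refine isBrauerPairOf_iff.2 ⟨⟨hpg, he⟩, hB, fun ξ hξ => ?_⟩
    have hξ' : mapIrr (cenIso S h).symm ξ ∈ mapBlock (cenIso S h).symm e := ⟨ξ, hξ, rfl⟩
    have h1 := (isBrauerPairOf_iff.1 hp).2.2 _ hξ'
    have h3 := memLocalIdeal_add h1 (key ξ)
    simpa using h3

/-- From a block of `G` to a block of `L ⊇ N_G(up S)`. -/
theorem corr_of_G (hM : IsPModular p M) (h : Cen (up S) ≤ L) (hN : Subgroup.normalizer ((up S : Subgroup G) : Set G) ≤ L)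
    {B : Set (IrrCharacter G)} (hB : IsPBlock M B) (hD : IsDefectGroup p M B (up S)) :
    ∃! c : Set (IrrCharacter L), IsPBlock M c ∧ IsDefectGroup p M c S ∧
      ∀ x : G, x ∈ Cen (up S) → MemLocalIdeal M (blockCoeff B x - subgroupBlockCoeff L c x) := by
  classical
  obtain ⟨e, he⟩ := exists_pair_on_defect hM hD hB
  have hmax := isMaximal_of_defect hM hD he
  have hpg := (isBrauerPairOf_iff.1 he).1.1
  have hb := (isBrauerPairOf_iff.1 he).1.2
  have hSf : IsBrauerPair p M S (mapBlock (cenIso S h).symm e) := ⟨isPGroup_of_up hpg, isPBlock_mapBlock _ hb⟩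
  obtain ⟨c, hc, huniq⟩ := existsUnique_block_of_pair hM hSf
  have hmaxL := isMaximal_down_of_normalizer hM h hmax hc
  have hcb := (isBrauerPairOf_iff.1 hc).2.1
  refine ⟨c, ⟨hcb, isDefectGroup_of_max hM hmaxL, fun x hx => coeff_congr_of_max hM h hN hmax hmaxL hx⟩, ?_⟩
  rintro c' ⟨hc', -, hcong⟩
  exact huniq c' ((pair_iff_of_congr h hB hc' hcong hpg hb).1 he)

/-- From a block of `L ⊇ N_G(up S)` to a block of `G`. -/
theorem corr_of_L (hM : IsPModular p M) (h : Cen (up S) ≤ L) (hN : Subgroup.normalizer ((up S : Subgroup G) : Set G) ≤ L)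
    (hpg : IsPGroup p (up S)) {c : Set (IrrCharacter L)} (hc : IsPBlock M c) (hD : IsDefectGroup p M c S) :
    ∃! B : Set (IrrCharacter G), IsPBlock M B ∧ IsDefectGroup p M B (up S) ∧
      ∀ x : G, x ∈ Cen (up S) → MemLocalIdeal M (blockCoeff B x - subgroupBlockCoeff L c x) := by
  classical
  obtain ⟨s, hs⟩ := exists_pair_on_defect hM hD hc
  have hmaxL := isMaximal_of_defect hM hD hs
  have hb := (isBrauerPairOf_iff.1 hs).1.2
  have hSf : IsBrauerPair p M (up S) (mapBlock (cenIso S h) s) := ⟨hpg, isPBlock_mapBlock _ hb⟩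
  obtain ⟨B, hB, huniq⟩ := existsUnique_block_of_pair hM hSf
  have hmax := isMaximal_up_of_normalizer hM h hN hmaxL hB
  have hBb := (isBrauerPairOf_iff.1 hB).2.1
  have hmaxL' : IsMaximalBrauerPair p M c S (mapBlock (cenIso S h).symm (mapBlock (cenIso S h) s)) := by
    rwa [mapBlock_symm_mapBlock]
  refine ⟨B, ⟨hBb, isDefectGroup_of_max hM hmax, fun x hx => coeff_congr_of_max hM h hN hmax hmaxL' hx⟩, ?_⟩
  rintro B' ⟨hB', -, hcong⟩
  refine huniq B' ((pair_iff_of_congr h hB' hc hcong hpg hSf.2).2 ?_)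
  rw [mapBlock_symm_mapBlock]
  exact hs

end Corr

end Cfsg.Agent.Lib.BPair
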