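import Cfsg.Agent.Lib.BPair.Rel

/-!
# A Frobenius theorem for blocks
-/

set_option autoImplicit false
set_option linter.unusedSectionVars false
set_option linter.unusedSimpArgs false
set_option linter.unusedVariables false

open scoped ComplexConjugate Pointwise
open Cfsg MonoidAlgebra
open Cfsg.Agent.Lib.Block Cfsg.Agent.Lib.Char Cfsg.Agent.Lib.CharExtra

namespace Cfsg.Agent.Lib.BPair

attribute [local instance] subFintype

section Between

variable {G : Type*} [Group G] [Fintype G] {M : Ideal AlgInt} [hMp : M.IsPrime] {p : ℕ} [hp : Fact p.Prime]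
  {B : Set (IrrCharacter G)} {P Q₀ : Subgroup G} {e : Set (IrrCharacter (Cen P))} {f₀ : Set (IrrCharacter (Cen Q₀))}

/-- In a fully normalized pair, `N_P(Q₀)` is a defect group of the block of every subgroup between. -/
theorem defect_between (hM : IsPModular p M) (hmax : IsMaximalBrauerPair p M B P e)
    (hle : SubpairLE p M Q₀ f₀ P e) {T : Subgroup G}
    (hT : ∀ y : G, y ∈ T ↔ y ∈ Subgroup.normalizer (Q₀ : Set G) ∧ StabilizesBlock (Cen Q₀) f₀ y)
    {F₀ : Set (IrrCharacter T)} (hF₀ : IsPBlock M F₀)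
    (hc₀ : ∀ t : T, blockCoeff F₀ t = subgroupBlockCoeff (Cen Q₀) f₀ (t : G))
    (hdef : IsDefectGroup p M F₀ ((P ⊓ Subgroup.normalizer (Q₀ : Set G)).subgroupOf T))
    {L : Subgroup G} (hCL : Cen Q₀ ≤ L) (hD₀L : P ⊓ Subgroup.normalizer (Q₀ : Set G) ≤ L) (hLT : L ≤ T)
    {b : Set (IrrCharacter L)} (hb : IsPBlock M b)
    (hbc : ∀ t : L, blockCoeff b t = subgroupBlockCoeff (Cen Q₀) f₀ (t : G)) :
    IsDefectGroup p M b ((P ⊓ Subgroup.normalizer (Q₀ : Set G)).subgroupOf L) := by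
  classical
  have hPe := (isBrauerPairOf_iff.1 hmax.1).1
  obtain ⟨D₀, hD₀⟩ : ∃ D₀, D₀ = P ⊓ Subgroup.normalizer (Q₀ : Set G) := ⟨_, rfl⟩
  rw [← hD₀] at hdef hD₀L ⊢
  have hD₀P : D₀ ≤ P := hD₀ ▸ inf_le_left
  have hD₀T : D₀ ≤ T := hD₀ ▸ inf_normalizer_le_T hM hmax hle hT
  have hLN : L ≤ Subgroup.normalizer (Q₀ : Set G) := fun t ht => ((hT t).1 (hLT ht)).1
  obtain ⟨D₁, hD₁, hle₁⟩ := exists_defect_ge hM hPe hle hCL hLN hb hbc hD₀P hD₀L
  have hcard : Nat.card D₁ ≤ Nat.card D₀ := by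
    obtain ⟨d, hd, S₁, hS₁⟩ := id hD₁
    have hD₁p : IsPGroup p (up D₁) := by
      rw [hS₁]
      exact IsPGroup.map (IsPGroup.map S₁.isPGroup' _) _
    have hupT : up D₁ ≤ T := up_le.trans hLT
    have hd' : ¬ MemLocalIdeal M (blockCoeff F₀ (⟨(d : G), hLT d.2⟩ : T)) := by
      rw [blockCoeff_eq_Ee hc₀]
      rw [← blockCoeff_eq_Ee hbc d]
      exact hd.2.1
    have hEd : (up D₁).subgroupOf T ≤ Subgroup.centralizer ({(⟨(d : G), hLT d.2⟩ : T)} : Set T) := by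
      intro u hu
      rw [Subgroup.mem_subgroupOf] at hu
      rw [Subgroup.mem_centralizer_singleton_iff]
      apply Subtype.ext
      obtain ⟨v, hv, hvu⟩ := hu
      rw [hS₁] at hv
      obtain ⟨w, hw, rfl⟩ := hv
      have h3 := w.2
      rw [Subgroup.mem_centralizer_singleton_iff] at h3
      have h4 := congrArg Subtype.val h3
      show (u : G) * (d : G) = (d : G) * (u : G)
      rw [← hvu]
      exact h4
    have hEp : IsPGroup p ((up D₁).subgroupOf T) := hD₁p.comap_subtype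
    obtain ⟨x, hx⟩ := le_conj_of_coeff hM hF₀ hdef hd' hEp hEd
    have h1 := Subgroup.card_le_of_le hx
    rw [card_cj, card_subgroupOf_of_le hupT, card_subgroupOf_of_le hD₀T,
      Subgroup.card_map_of_injective (Subgroup.subtype_injective _)] at h1
    exact h1
  have hDdef : D₀.subgroupOf L = D₁ := Subgroup.eq_of_le_of_card_ge hle₁ (by
    rw [card_subgroupOf_of_le hD₀L]
    exact hcard)
  rw [hDdef]
  exact hD₁

theorem stabilizes_subgroupOf {H L : Subgroup G} (hHL : H ≤ L) {f : Set (IrrCharacter H)} {x : L}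
    (hN : (H.subgroupOf L).Normal) (h : StabilizesBlock H f (x : G)) :
    StabilizesBlock (H.subgroupOf L) (mapBlock (Subgroup.subgroupOfEquivOfLe hHL).symm f) x := by
  refine ⟨Subgroup.mem_normalizer_iff.2 fun n => ?_, ?_⟩
  · constructor
    · intro hn
      exact hN.conj_mem _ hn x
    · intro hn
      have := hN.conj_mem _ hn x⁻¹
      simpa [mul_assoc] using this
  · intro χ hχ
    rw [mem_mapBlock, MulEquiv.symm_symm] at hχ
    obtain ⟨χ₀', hχ₀', hc⟩ := h.2 _ hχ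
    refine ⟨mapIrr (Subgroup.subgroupOfEquivOfLe hHL).symm χ₀', ⟨χ₀', hχ₀', rfl⟩, ?_⟩
    intro k k' hk
    rw [mapIrr_apply']
    rw [MulEquiv.symm_symm]
    have h1 := hc ((Subgroup.subgroupOfEquivOfLe hHL) k) ((Subgroup.subgroupOfEquivOfLe hHL) k') (by
      show ((k' : L) : G) = (x : G) * ((k : L) : G) * (x : G)⁻¹
      have := congrArg Subtype.val hk
      exact this)
    rw [h1, mapIrr_apply', MulEquiv.symm_apply_apply]

theorem subgroupBlockCoeff_subgroupOf {H L : Subgroup G} (hHL : H ≤ L) (f : Set (IrrCharacter H)) (g : L) :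
    subgroupBlockCoeff (H.subgroupOf L) (mapBlock (Subgroup.subgroupOfEquivOfLe hHL).symm f) g =
      subgroupBlockCoeff H f (g : G) := by
  classical
  unfold subgroupBlockCoeff
  by_cases hg : (g : G) ∈ H
  · have hg' : g ∈ H.subgroupOf L := Subgroup.mem_subgroupOf.2 hg
    rw [dif_pos hg, dif_pos hg']
    have h1 := blockCoeff_mapBlock (Subgroup.subgroupOfEquivOfLe hHL).symm f ⟨(g : G), hg⟩
    have h2 : (Subgroup.subgroupOfEquivOfLe hHL).symm ⟨(g : G), hg⟩ = ⟨g, hg'⟩ := by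
      apply Subtype.ext
      apply Subtype.ext
      rfl
    rw [h2] at h1
    exact h1
  · have hg' : g ∉ H.subgroupOf L := fun h => hg (Subgroup.mem_subgroupOf.1 h)
    rw [dif_neg hg, dif_neg hg']

/-- The stabilizers of `p`-power index over the centralizer are in `N_P(Q₀) C(Q₀)`. -/
theorem le_sup_of_pIndex (hM : IsPModular p M) (hmax : IsMaximalBrauerPair p M B P e)
    (hle : SubpairLE p M Q₀ f₀ P e) (hf₀ : IsPBlock M f₀) {T : Subgroup G}
    (hT : ∀ y : G, y ∈ T ↔ y ∈ Subgroup.normalizer (Q₀ : Set G) ∧ StabilizesBlock (Cen Q₀) f₀ y)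
    {F₀ : Set (IrrCharacter T)} (hF₀ : IsPBlock M F₀)
    (hc₀ : ∀ t : T, blockCoeff F₀ t = subgroupBlockCoeff (Cen Q₀) f₀ (t : G))
    (hdef : IsDefectGroup p M F₀ ((P ⊓ Subgroup.normalizer (Q₀ : Set G)).subgroupOf T))
    {L : Subgroup G} (hCL : Cen Q₀ ≤ L) (hD₀L : P ⊓ Subgroup.normalizer (Q₀ : Set G) ≤ L) (hLT : L ≤ T)
    (hidx : ∃ k : ℕ, ((Cen Q₀).subgroupOf L).index = p ^ k) :
    L ≤ (P ⊓ Subgroup.normalizer (Q₀ : Set G)) ⊔ Cen Q₀ := by
  classical
  have hPe := (isBrauerPairOf_iff.1 hmax.1).1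
  have hQP := le_of_subpairLE hle
  have hQ : IsPGroup p Q₀ := hPe.1.to_le hQP
  have hQD₀ : Q₀ ≤ P ⊓ Subgroup.normalizer (Q₀ : Set G) := le_inf hQP Subgroup.le_normalizer
  have hLN : L ≤ Subgroup.normalizer (Q₀ : Set G) := fun t ht => ((hT t).1 (hLT ht)).1
  obtain ⟨b, hb, hbc⟩ := exists_blockT hM hQ hf₀ hCL (hQD₀.trans hD₀L) hLN (fun t ht => ((hT t).1 (hLT ht)).2)
  have hdefL := defect_between hM hmax hle hT hF₀ hc₀ hdef hCL hD₀L hLT hb hbc
  haveI hNn : ((Cen Q₀).subgroupOf L).Normal := by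
    refine ⟨fun n hn t => ?_⟩
    rw [Subgroup.mem_subgroupOf] at hn ⊢
    exact (Subgroup.mem_normalizer_iff.1 (normalizer_le_normalizer_cen (hLN t.2)) _).1 hn
  have hc : IsPBlock M (mapBlock (Subgroup.subgroupOfEquivOfLe hCL).symm f₀) := isPBlock_mapBlock _ hf₀
  have hst : ∀ (x : L) (θ : IrrCharacter ((Cen Q₀).subgroupOf L)),
      θ ∈ mapBlock (Subgroup.subgroupOfEquivOfLe hCL).symm f₀ →
      conjIrr ((Cen Q₀).subgroupOf L) x θ ∈ mapBlock (Subgroup.subgroupOfEquivOfLe hCL).symm f₀ :=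
    stable_of_stabilizes _ (fun x => stabilizes_subgroupOf hCL hNn ((hT x).1 (hLT x.2)).2)
  have hcoeff : ∀ g : L, blockCoeff b g =
      subgroupBlockCoeff ((Cen Q₀).subgroupOf L) (mapBlock (Subgroup.subgroupOfEquivOfLe hCL).symm f₀) g := by
    intro g
    rw [subgroupBlockCoeff_subgroupOf, hbc]
  obtain ⟨h1, -⟩ := defect_of_stable _ hM hidx hc hst hb hcoeff hdefL
  intro t ht
  have h2 : (⟨t, ht⟩ : L) ∈ (Cen Q₀).subgroupOf L ⊔ (P ⊓ Subgroup.normalizer (Q₀ : Set G)).subgroupOf L := by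
    rw [h1]
    trivial
  have h3 := Subgroup.mem_map_of_mem L.subtype h2
  rw [Subgroup.map_sup, Subgroup.map_subgroupOf_eq_of_le hCL, Subgroup.map_subgroupOf_eq_of_le hD₀L, sup_comm] at h3
  exact h3

/-- In a nilpotent block the stabilizer is a `p`-group over the centralizer. -/
theorem pIndex_of_nilpotent (hnil : IsNilpotentBlock p M B) (hQf : IsBrauerPairOf p M B Q₀ f₀) {T L : Subgroup G}
    (hT : ∀ y : G, y ∈ T ↔ y ∈ Subgroup.normalizer (Q₀ : Set G) ∧ StabilizesBlock (Cen Q₀) f₀ y) (hLT : L ≤ T) :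
    ∃ k : ℕ, ((Cen Q₀).subgroupOf L).index = p ^ k := by
  classical
  haveI hNn : ((Cen Q₀).subgroupOf L).Normal := by
    refine ⟨fun n hn t => ?_⟩
    rw [Subgroup.mem_subgroupOf] at hn ⊢
    exact (Subgroup.mem_normalizer_iff.1 (normalizer_le_normalizer_cen ((hT t).1 (hLT t.2)).1) _).1 hn
  have hpg : IsPGroup p (L ⧸ (Cen Q₀).subgroupOf L) := by
    intro g
    induction g using QuotientGroup.induction_on with
    | H t =>
      have hn : orderOf t ≠ 0 := (orderOf_pos t).ne'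
      obtain ⟨k, m, hm, hk⟩ := Nat.exists_eq_pow_mul_and_not_dvd hn p (Fact.out : p.Prime).ne_one
      refine ⟨k, ?_⟩
      rw [← QuotientGroup.mk_pow, QuotientGroup.eq_one_iff, Subgroup.mem_subgroupOf]
      have hreg : IsPRegular p (((t ^ p ^ k : L)) : G) := by
        intro hdvd
        apply hm
        refine hdvd.trans (orderOf_dvd_of_pow_eq_one ?_)
        rw [← Subgroup.coe_pow, ← pow_mul, ← hk, pow_orderOf_eq_one]
        rfl
      have hmem : ((t ^ p ^ k : L) : G) ∈ T := hLT (t ^ p ^ k).2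
      exact hnil.2 Q₀ f₀ hQf _ ((hT _).1 hmem).1 ((hT _).1 hmem).2 hreg
  obtain ⟨k, hk⟩ := IsPGroup.iff_card.1 hpg
  exact ⟨k, hk⟩

end Between

section Inner

variable {G : Type*} [Group G] [Fintype G] {M : Ideal AlgInt} [hMp : M.IsPrime] {p : ℕ} [hp : Fact p.Prime]
  {B : Set (IrrCharacter G)} {P : Subgroup G} {e : Set (IrrCharacter (Cen P))}

/-- Conjugation by `z` on `Q` is conjugation by an element of `P`. -/
def InnerOn (P Q : Subgroup G) (z : G) : Prop := ∃ u ∈ P, ∀ v ∈ Q, z * v * z⁻¹ = u * v * u⁻¹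

/-- The pair `a` is fully normalized relative to `P`. -/
def FNorm (p : ℕ) (M : Ideal AlgInt) (P : Subgroup G) (a : BrauerPairIdx G) : Prop :=
  ∀ T : Subgroup G, (∀ y : G, y ∈ T ↔ y ∈ Subgroup.normalizer (a.1 : Set G) ∧ StabilizesBlock (Cen a.1) a.2 y) →
    ∃ F' : Set (IrrCharacter T), IsPBlock M F' ∧
      (∀ t : T, blockCoeff F' t = subgroupBlockCoeff (Cen a.1) a.2 (t : G)) ∧
      IsDefectGroup p M F' ((P ⊓ Subgroup.normalizer (a.1 : Set G)).subgroupOf T)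

theorem exists_conj_fnorm (hM : IsPModular p M) (hmax : IsMaximalBrauerPair p M B P e) {Q : Subgroup G}
    {f : Set (IrrCharacter (Cen Q))} (hle : SubpairLE p M Q f P e) (hf : IsPBlock M f) :
    ∃ x : G, Relation.ReflTransGen (NormalSubpairRel p M) (conjIdx x ⟨Q, f⟩) ⟨P, e⟩ ∧
      FNorm p M P (conjIdx x ⟨Q, f⟩) := by
  obtain ⟨T, hT⟩ := exists_pairT hf
  obtain ⟨x, hx, hfn⟩ := exists_conj_stab_defect hM hmax hle hf hT
  exact ⟨x, hx, hfn⟩

theorem cj_eq_of_mem_normalizer {z : G} {Q : Subgroup G} (hz : z ∈ Subgroup.normalizer (Q : Set G)) : cj z Q = Q := by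
  ext v
  rw [mem_cj]
  have h1 := (Subgroup.mem_normalizer_iff.1 ((Subgroup.normalizer (Q : Set G)).inv_mem hz) v)
  rw [inv_inv] at h1
  exact h1.symm

theorem conjIdx_eq_of_stabilizes {Q : Subgroup G} {f : Set (IrrCharacter (Cen Q))} (hf : IsPBlock M f) {z : G}
    (hz : z ∈ Subgroup.normalizer (Q : Set G)) (hs : StabilizesBlock (Cen Q) f z) :
    conjIdx z ⟨Q, f⟩ = ⟨Q, f⟩ := by
  obtain ⟨hzC, hmap⟩ := (stabilizes_iff hf).1 hs
  show (⟨cj z Q, conjBlock Q z f⟩ : BrauerPairIdx G) = ⟨Q, f⟩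
  apply sigma_eq_of (cj_eq_of_mem_normalizer hz)
  intro ξ''
  constructor
  · rintro ⟨ξ₀, hξ₀, h⟩
    refine ⟨mapIrr (nConj hzC) ξ₀, ?_, fun c'' c hc => ?_⟩
    · rw [← hmap]
      rw [hmap]
      rw [← hmap]
      exact ⟨ξ₀, hξ₀, rfl⟩
    · rw [mapIrr_apply']
      refine h _ c'' ?_
      show (c'' : G) = z * (z⁻¹ * (c : G) * z) * z⁻¹
      rw [hc]
      group
  · rintro ⟨ξ, hξ, h⟩
    have hξ₀ : mapIrr (nConj hzC).symm ξ ∈ f := by
      rw [← hmap] at hξ
      exact mem_mapBlock.1 hξ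
    refine ⟨_, hξ₀, fun c c' hc' => ?_⟩
    rw [mapIrr_apply', MulEquiv.symm_symm]
    exact h c' _ hc'

theorem stabilizes_of_conjIdx_eq {Q : Subgroup G} {f : Set (IrrCharacter (Cen Q))} (hf : IsPBlock M f) {z : G}
    (h : conjIdx z ⟨Q, f⟩ = ⟨Q, f⟩) : z ∈ Subgroup.normalizer (Q : Set G) ∧ StabilizesBlock (Cen Q) f z := by
  have h1 : cj z Q = Q := congrArg Sigma.fst h
  have hz := mem_normalizer_of_cj_eq h1
  refine ⟨hz, normalizer_le_normalizer_cen hz, fun χ hχ => ?_⟩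
  have key : ∀ a : BrauerPairIdx G, a = ⟨Q, f⟩ → ∀ ξ ∈ a.2, ∀ ξ₁ : IrrCharacter (Cen Q),
      (∀ (c : Cen a.1) (c₁ : Cen Q), (c : G) = c₁ → (ξ : Cen a.1 → ℂ) c = (ξ₁ : Cen Q → ℂ) c₁) → ξ₁ ∈ f := by
    rintro _ rfl ξ hξ ξ₁ hh
    have : ξ = ξ₁ := Subtype.ext (funext fun c => hh c c rfl)
    rwa [← this]
  have hzC := normalizer_le_normalizer_cen hz
  refine ⟨mapIrr (nConj hzC) χ, key _ h (mapIrr (cEquiv Q z) χ) ?_ _ ?_, isConjCharOf_mapIrr hzC χ⟩
  · show mapIrr (cEquiv Q z) χ ∈ conjBlock Q z f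
    rw [conjBlock_eq]
    exact ⟨χ, hχ, rfl⟩
  · intro c c₁ hc
    have hh : ∀ (c : Cen (cj z Q)) (c₁ : Cen Q), (c : G) = c₁ →
        (mapIrr (cEquiv Q z) χ : Cen (cj z Q) → ℂ) c = (mapIrr (nConj hzC) χ : Cen Q → ℂ) c₁ := by
      intro c c₁ hc
      rw [mapIrr_apply', mapIrr_apply']
      refine congrArg _ (Subtype.ext ?_)
      show z⁻¹ * (c : G) * z = z⁻¹ * (c₁ : G) * z
      rw [hc]
    exact hh c c₁ hc

theorem eq_of_chain_of_fst_eq (hM : IsPModular p M) (hPe : IsBrauerPair p M P e) {a : BrauerPairIdx G}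
    (h : Relation.ReflTransGen (NormalSubpairRel p M) a ⟨P, e⟩) (ha : a.1 = P) : a = ⟨P, e⟩ := by
  obtain ⟨A, a2⟩ := a
  obtain rfl : A = P := ha
  have hle : SubpairLE p M A a2 A e := h
  have hb := (isBrauerPair_of_subpairLE hPe hle).2
  have := (existsUnique_subpair hM hPe (le_refl A)).unique ⟨hb, hle⟩ ⟨hPe.2, .refl⟩
  rw [this]

/-- The splitting condition on fully normalized pairs. -/
def SplitCond (p : ℕ) (M : Ideal AlgInt) (P : Subgroup G) (e : Set (IrrCharacter (Cen P))) : Prop :=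
  ∀ (Q₀ : Subgroup G) (f₀ : Set (IrrCharacter (Cen Q₀))), SubpairLE p M Q₀ f₀ P e → FNorm p M P ⟨Q₀, f₀⟩ →
    ∀ T : Subgroup G, (∀ y : G, y ∈ T ↔ y ∈ Subgroup.normalizer (Q₀ : Set G) ∧ StabilizesBlock (Cen Q₀) f₀ y) →
      T ≤ (P ⊓ Subgroup.normalizer (Q₀ : Set G)) ⊔ Cen Q₀

theorem mem_sup_cen {D Q : Subgroup G} (hD : D ≤ Subgroup.normalizer (Q : Set G)) {z : G} (hz : z ∈ D ⊔ Cen Q) :
    ∃ u ∈ D, ∃ c ∈ Cen Q, u * c = z := by
  have hmul : ((D ⊔ Cen Q : Subgroup G) : Set G) = (D : Set G) * (Cen Q : Set G) :=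
    Subgroup.coe_mul_of_left_le_normalizer_right _ _ (fun x hx => normalizer_le_normalizer_cen (hD hx))
  have h : z ∈ (D : Set G) * (Cen Q : Set G) := by
    rw [← hmul]
    exact hz
  obtain ⟨u, hu, c, hc, huc⟩ := Set.mem_mul.1 h
  exact ⟨u, hu, c, hc, huc⟩

/-- **The main induction.** -/
theorem innerOn_of_split (hM : IsPModular p M) (hmax : IsMaximalBrauerPair p M B P e) (hS : SplitCond p M P e) :
    ∀ (n : ℕ) (R : Subgroup G) (f : Set (IrrCharacter (Cen R))) (y : G), Nat.card P - Nat.card R = n →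
      SubpairLE p M R f P e → Relation.ReflTransGen (NormalSubpairRel p M) (conjIdx y ⟨R, f⟩) ⟨P, e⟩ →
      InnerOn P R y := by
  classical
  have hPe := (isBrauerPairOf_iff.1 hmax.1).1
  intro n
  induction n using Nat.strong_induction_on with
  | _ n ih =>
  intro R f y hn hle hy
  have hA : ∀ (Q : Subgroup G) (f : Set (IrrCharacter (Cen Q))) (z : G), Nat.card P - Nat.card Q = n →
      SubpairLE p M Q f P e → Relation.ReflTransGen (NormalSubpairRel p M) (conjIdx z ⟨Q, f⟩) ⟨P, e⟩ →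
      FNorm p M P (conjIdx z ⟨Q, f⟩) → InnerOn P Q z := by
    intro Q f z hn hle hz hfn
    have hf : IsPBlock M f := (isBrauerPair_of_subpairLE hPe hle).2
    have hQP := le_of_subpairLE hle
    rcases lt_or_eq_of_le hQP with hlt | heq
    · obtain ⟨T₀, hT₀⟩ := exists_pairT (isPBlock_conjBlock (x := z) hf)
      obtain ⟨F₀, hF₀, hc₀, hdef⟩ := hfn T₀ hT₀
      have hsplit := hS (cj z Q) (conjBlock Q z f) hz hfn T₀ hT₀
      have hQR := lt_inf_normalizer hPe.1 hlt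
      obtain ⟨g₁, ⟨hg₁, hg₁le⟩, -⟩ := existsUnique_subpair hM hPe
        (inf_le_left : P ⊓ Subgroup.normalizer (Q : Set G) ≤ P)
      have hn₁ := isNormalSubpair_of_le hM hPe hle hg₁le hQR.le inf_le_right
      have hn' := isNormalSubpair_conj (x := z) hn₁
      have hSL : cj z (P ⊓ Subgroup.normalizer (Q : Set G)) ≤
          (P ⊓ Subgroup.normalizer ((cj z Q : Subgroup G) : Set G)) ⊔ Cen (cj z Q) := by
        rintro _ ⟨v, hv, rfl⟩
        apply hsplit
        rw [hT₀]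
        exact ⟨conj_mem_normalizer_cj.2 hv.2, (stabilizes_conj_iff hf).2 (stabilizes_of_le hM hPe hle hv.1 hv.2)⟩
      obtain ⟨c, hc, hch⟩ := exists_cen_conj hM hmax hz (isPBlock_conjBlock hf) hT₀ hF₀ hc₀ hdef hSL hn'
      have h1 : conjIdx c (conjIdx z ⟨P ⊓ Subgroup.normalizer (Q : Set G), g₁⟩) =
          conjIdx (c * z) ⟨P ⊓ Subgroup.normalizer (Q : Set G), g₁⟩ := conjIdx_mul c z _
      have hch' : Relation.ReflTransGen (NormalSubpairRel p M)
          (conjIdx c (conjIdx z ⟨P ⊓ Subgroup.normalizer (Q : Set G), g₁⟩)) ⟨P, e⟩ := hch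
      rw [h1] at hch'
      obtain ⟨u, hu, huv⟩ := ih (Nat.card P - Nat.card (P ⊓ Subgroup.normalizer (Q : Set G) : Subgroup G))
        (by rw [← hn]; exact card_sub_lt hQR inf_le_left) _ g₁ (c * z) rfl hg₁le hch'
      refine ⟨u, hu, fun v hv => ?_⟩
      have h2 := huv v (hQR.le hv)
      have h3 : c * (z * v * z⁻¹) = (z * v * z⁻¹) * c :=
        (Subgroup.mem_centralizer_iff.1 hc _ (conj_mem_cj.2 hv)).symm
      rw [← h2]
      have h4 : c * z * v * (c * z)⁻¹ = c * (z * v * z⁻¹) * c⁻¹ := by group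
      rw [h4, h3]
      group
    · subst heq
      have hfe := (existsUnique_subpair hM hPe (le_refl Q)).unique ⟨hf, hle⟩ ⟨hPe.2, .refl⟩
      subst hfe
      have hcj : cj z Q ≤ Q := le_of_subpairLE hz
      have ha := eq_of_chain_of_fst_eq hM hPe hz (eq_of_cj_le hcj)
      rw [ha] at hfn
      obtain ⟨hz1, hz2⟩ := stabilizes_of_conjIdx_eq hf ha
      obtain ⟨T₀, hT₀⟩ := exists_pairT hf
      have hsplit := hS Q f .refl hfn T₀ hT₀
      obtain ⟨u, hu, c, hc, rfl⟩ := mem_sup_cen inf_le_right (hsplit ((hT₀ _).2 ⟨hz1, hz2⟩))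
      refine ⟨u, hu.1, fun v hv => ?_⟩
      have h3 : c * v = v * c := (Subgroup.mem_centralizer_iff.1 hc _ hv).symm
      have h4 : u * c * v * (u * c)⁻¹ = u * (c * v) * c⁻¹ * u⁻¹ := by group
      rw [h4, h3]
      group
  have hf : IsPBlock M f := (isBrauerPair_of_subpairLE hPe hle).2
  obtain ⟨x, hx, hxfn⟩ := exists_conj_fnorm hM hmax (Q := cj y R) (f := conjBlock R y f) hy (isPBlock_conjBlock hf)
  have e1 : conjIdx x (conjIdx y ⟨R, f⟩) = conjIdx (x * y) ⟨R, f⟩ := conjIdx_mul x y _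
  have hx' : Relation.ReflTransGen (NormalSubpairRel p M) (conjIdx x (conjIdx y ⟨R, f⟩)) ⟨P, e⟩ := hx
  have hxfn' : FNorm p M P (conjIdx x (conjIdx y ⟨R, f⟩)) := hxfn
  rw [e1] at hx' hxfn'
  obtain ⟨u₁, hu₁, h1⟩ := hA (cj y R) (conjBlock R y f) x (by rw [card_cj]; exact hn) hy hx hxfn
  obtain ⟨u₂, hu₂, h2⟩ := hA R f (x * y) hn hle hx' hxfn'
  refine ⟨u₁⁻¹ * u₂, P.mul_mem (P.inv_mem hu₁) hu₂, fun v hv => ?_⟩
  have h3 := h1 (y * v * y⁻¹) (conj_mem_cj.2 hv)
  have h4 := h2 v hv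
  have h5 : u₁ * (y * v * y⁻¹) * u₁⁻¹ = u₂ * v * u₂⁻¹ := by
    rw [← h3, ← h4]
    group
  have h6 : y * v * y⁻¹ = u₁⁻¹ * (u₁ * (y * v * y⁻¹) * u₁⁻¹) * u₁ := by group
  rw [h6, h5]
  group

theorem splitCond_of_nilpotent (hM : IsPModular p M) (hmax : IsMaximalBrauerPair p M B P e)
    (hnil : IsNilpotentBlock p M B) : SplitCond p M P e := by
  classical
  have hPe := (isBrauerPairOf_iff.1 hmax.1).1
  intro Q₀ f₀ hle hfn T hT
  have hf₀ : IsPBlock M f₀ := (isBrauerPair_of_subpairLE hPe hle).2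
  obtain ⟨F₀, hF₀, hc₀, hdef⟩ := hfn T hT
  exact le_sup_of_pIndex hM hmax hle hf₀ hT hF₀ hc₀ hdef (fun c hc => (hT c).2 ⟨cen_le_normalizer Q₀ hc, stabilizes_of_mem_cen hc⟩)
    (inf_normalizer_le_T hM hmax hle hT) le_rfl (pIndex_of_nilpotent hnil (isBrauerPairOf_of_le hM hmax hle) hT le_rfl)

theorem innerOn_of_nilpotent (hM : IsPModular p M) (hmax : IsMaximalBrauerPair p M B P e)
    (hnil : IsNilpotentBlock p M B) {R : Subgroup G} {f : Set (IrrCharacter (Cen R))} {y : G}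
    (hle : SubpairLE p M R f P e) (hy : SubpairLE p M (cj y R) (conjBlock R y f) P e) : InnerOn P R y :=
  innerOn_of_split hM hmax (splitCond_of_nilpotent hM hmax hnil) _ R f y rfl hle hy

/-- An element of `p`-regular order acting as an element of a `p`-group acts trivially. -/
theorem mem_cen_of_regular_of_inner {Q : Subgroup G} {z u : G} (hu : ∃ k : ℕ, u ^ p ^ k = 1)
    (hz : IsPRegular p z) (h : ∀ v ∈ Q, z * v * z⁻¹ = u * v * u⁻¹) (hzQ : ∀ v ∈ Q, z * v * z⁻¹ ∈ Q) : z ∈ Cen Q := by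
  obtain ⟨k, hk⟩ := hu
  have hpow : ∀ (n : ℕ) (v : G), v ∈ Q → z ^ n * v * (z ^ n)⁻¹ = u ^ n * v * (u ^ n)⁻¹ := by
    intro n
    induction n with
    | zero => intro v _; simp
    | succ n ih =>
      intro v hv
      have e1 : z ^ (n + 1) * v * (z ^ (n + 1))⁻¹ = z ^ n * (z * v * z⁻¹) * (z ^ n)⁻¹ := by
        rw [pow_succ]
        group
      have e2 : u ^ (n + 1) * v * (u ^ (n + 1))⁻¹ = u ^ n * (u * v * u⁻¹) * (u ^ n)⁻¹ := by
        rw [pow_succ]
        group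
      rw [e1, e2, ih _ (hzQ v hv), h v hv]
  have hcop : Nat.Coprime (p ^ k) (orderOf z) := Nat.Coprime.pow_left _
    ((Nat.Prime.coprime_iff_not_dvd (Fact.out : p.Prime)).2 hz)
  obtain ⟨m, hm⟩ := exists_pow_eq_self_of_coprime hcop
  have h1 : z ^ p ^ k ∈ Cen Q := by
    rw [Subgroup.mem_centralizer_iff]
    intro v hv
    have := hpow (p ^ k) v hv
    rw [hk] at this
    simp only [one_mul, inv_one, mul_one] at this
    rw [mul_inv_eq_iff_eq_mul] at this
    exact this.symm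
  rw [← hm]
  exact Subgroup.pow_mem _ h1 m

/-- **Frobenius theorem for blocks.** -/
theorem frobenius_blocks (hM : IsPModular p M) (hmax : IsMaximalBrauerPair p M B P e) {F : FusionSystem P}
    (hF : IsBlockFusionSystemOn p M B P e F) :
    IsNilpotentBlock p M B ↔ ∀ Q : Subgroup G, F.Hom Q = (innerFusionSystem P).Hom Q := by
  classical
  have hPe := (isBrauerPairOf_iff.1 hmax.1).1
  constructor
  · intro hnil Q
    ext φ
    constructor
    · intro hφ
      obtain ⟨hQP, g, hg, -, f, hle, hgf⟩ := (hF.2 Q φ).1 hφ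
      obtain ⟨u, hu, huv⟩ := innerOn_of_nilpotent hM hmax hnil hle hgf
      exact ⟨hQP, u, hu, fun x => by rw [hg, huv _ x.2]⟩
    · rintro ⟨hQP, u, hu, huv⟩
      have : φ = conjHom Q u := MonoidHom.ext huv
      rw [this]
      exact F.conj_mem hQP hu
  · intro hinner
    refine ⟨(isBrauerPairOf_iff.1 hmax.1).2.1, fun Q f hQf x hxN hxs hxreg => ?_⟩
    obtain ⟨y, hy⟩ := exists_conj_subpair hM hmax hQf
    have hQf' := (isBrauerPairOf_iff.1 hQf).1
    have hfc : IsPBlock M (conjBlock Q y f) := isPBlock_conjBlock hQf'.2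
    have hzN : y * x * y⁻¹ ∈ Subgroup.normalizer ((cj y Q : Subgroup G) : Set G) := conj_mem_normalizer_cj.2 hxN
    have hzs := (stabilizes_conj_iff (x := y) hQf'.2).2 hxs
    have hch : Relation.ReflTransGen (NormalSubpairRel p M) (conjIdx (y * x * y⁻¹) (conjIdx y ⟨Q, f⟩)) ⟨P, e⟩ := by
      have := conjIdx_eq_of_stabilizes hfc hzN hzs
      show Relation.ReflTransGen (NormalSubpairRel p M) (conjIdx (y * x * y⁻¹) ⟨cj y Q, conjBlock Q y f⟩) ⟨P, e⟩
      rw [this]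
      exact hy
    have hφ : conjHom (cj y Q) (y * x * y⁻¹) ∈ F.Hom (cj y Q) :=
      (mem_hom_iff hM hF hy _).2 ⟨_, fun u => rfl, hch⟩
    rw [hinner] at hφ
    obtain ⟨hQP, u, hu, huv⟩ := hφ
    have hreg : IsPRegular p (y * x * y⁻¹) := by
      unfold IsPRegular at hxreg ⊢
      have : orderOf (y * x * y⁻¹) = orderOf x := by
        have := (MulAut.conj y).orderOf_eq x
        simpa [MulAut.conj_apply] using this
      rwa [this]
    have hz : y * x * y⁻¹ ∈ Cen (cj y Q) := by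
      refine mem_cen_of_regular_of_inner (u := u) ?_ hreg (fun v hv => huv ⟨v, hv⟩)
        (fun v hv => (Subgroup.mem_normalizer_iff.1 hzN v).1 hv)
      obtain ⟨k, hk⟩ := hPe.1 ⟨u, hu⟩
      exact ⟨k, by simpa using congrArg Subtype.val hk⟩
    have := mem_cen_cj.1 hz
    have e1 : y⁻¹ * (y * x * y⁻¹) * y = x := by group
    rwa [e1] at this

end Inner

end Cfsg.Agent.Lib.BPair
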