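import Cfsg.Agent.Lib.BPair.Defect
import Cfsg.Prelude.Def_BlockFusion

/-!
# Fully centralized and fully normalized pairs
-/

set_option autoImplicit false
set_option linter.unusedSectionVars false
set_option linter.unusedSimpArgs false
set_option linter.unusedVariables false

open scoped ComplexConjugate
open Cfsg MonoidAlgebra
open Cfsg.Agent.Lib.Block Cfsg.Agent.Lib.Char Cfsg.Agent.Lib.CharExtra

namespace Cfsg.Agent.Lib.BPair

attribute [local instance] subFintype

section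

variable {G : Type*} [Group G] [Fintype G] {M : Ideal AlgInt} [hMp : M.IsPrime] {p : ℕ} [hp : Fact p.Prime]
  {B : Set (IrrCharacter G)} {P Q : Subgroup G} {e : Set (IrrCharacter (Cen P))} {f : Set (IrrCharacter (Cen Q))}

theorem blockCoeff_self (f : Set (IrrCharacter (Cen Q))) (t : Cen Q) :
    blockCoeff f t = subgroupBlockCoeff (Cen Q) f (t : G) := by
  classical
  unfold subgroupBlockCoeff
  rw [dif_pos t.2]

theorem cen_le_normalizer (Q : Subgroup G) : Cen Q ≤ Subgroup.normalizer (Q : Set G) := by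
  intro c hc
  rw [Subgroup.mem_normalizer_iff]
  intro u
  constructor
  · intro hu
    have : c * u * c⁻¹ = u := by
      rw [← Subgroup.mem_centralizer_iff.1 hc u hu]
      group
    rw [this]
    exact hu
  · intro hu
    have h1 : c⁻¹ * (c * u * c⁻¹) * c⁻¹⁻¹ = u := by group
    have h2 : c⁻¹ ∈ Cen Q := (Cen Q).inv_mem hc
    have h3 := Subgroup.mem_centralizer_iff.1 h2 _ hu
    rw [← h1]
    have : c⁻¹ * (c * u * c⁻¹) * c⁻¹⁻¹ = c * u * c⁻¹ := by
      rw [← h3]
      group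
    rw [this]
    exact hu

theorem conj_mem_normalizer_cj {y u : G} : y * u * y⁻¹ ∈ Subgroup.normalizer ((cj y Q : Subgroup G) : Set G) ↔
    u ∈ Subgroup.normalizer (Q : Set G) := by
  rw [Subgroup.mem_normalizer_iff, Subgroup.mem_normalizer_iff]
  constructor
  · intro h v
    have h1 := h (y * v * y⁻¹)
    rw [conj_mem_cj] at h1
    rw [h1]
    have e1 : y * u * y⁻¹ * (y * v * y⁻¹) * (y * u * y⁻¹)⁻¹ = y * (u * v * u⁻¹) * y⁻¹ := by group
    rw [e1, conj_mem_cj]
  · intro h v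
    have h1 := h (y⁻¹ * v * y)
    rw [mem_cj, mem_cj, h1]
    have e1 : y⁻¹ * (y * u * y⁻¹ * v * (y * u * y⁻¹)⁻¹) * y = u * (y⁻¹ * v * y) * u⁻¹ := by group
    rw [e1]

theorem stabilizes_conj_iff {x v : G} (hf : IsPBlock M f) :
    StabilizesBlock (Cen (cj x Q)) (conjBlock Q x f) (x * v * x⁻¹) ↔ StabilizesBlock (Cen Q) f v := by
  constructor
  · intro h
    obtain ⟨hu, h1⟩ := (stabilizes_iff (isPBlock_conjBlock hf)).1 h
    have hv : v ∈ Subgroup.normalizer ((Cen Q : Subgroup G) : Set G) := by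
      rw [Subgroup.mem_normalizer_iff] at hu ⊢
      intro c
      have h2 := hu (x * c * x⁻¹)
      rw [conj_mem_cen_cj] at h2
      rw [h2]
      have e1 : x * v * x⁻¹ * (x * c * x⁻¹) * (x * v * x⁻¹)⁻¹ = x * (v * c * v⁻¹) * x⁻¹ := by group
      rw [e1, conj_mem_cen_cj]
    refine (stabilizes_iff hf).2 ⟨hv, ?_⟩
    rw [conjBlock_eq] at h1
    have e : (cEquiv Q x).trans (nConj hu) = (nConj hv).trans (cEquiv Q x) := by
      ext c
      show (x * v * x⁻¹) * (x * (c : G) * x⁻¹) * (x * v * x⁻¹)⁻¹ = x * (v * c * v⁻¹) * x⁻¹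
      group
    rw [← mapBlock_trans, e, mapBlock_trans] at h1
    have h2 := congrArg (mapBlock (cEquiv Q x).symm) h1
    rwa [mapBlock_symm_mapBlock, mapBlock_symm_mapBlock] at h2
  · exact stabilizes_conj hf

/-- The isomorphism given by conjugation. -/
noncomputable def conjEquivOf {H H' : Subgroup G} (y : G) (h : ∀ u, u ∈ H ↔ y * u * y⁻¹ ∈ H') : H ≃* H' where
  toFun t := ⟨y * t * y⁻¹, (h t).1 t.2⟩
  invFun t := ⟨y⁻¹ * t * y, (h _).2 (by
    have e1 : y * (y⁻¹ * (t : G) * y) * y⁻¹ = t := by group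
    rw [e1]
    exact t.2)⟩
  left_inv t := by
    apply Subtype.ext
    show y⁻¹ * (y * (t : G) * y⁻¹) * y = t
    group
  right_inv t := by
    apply Subtype.ext
    show y * (y⁻¹ * (t : G) * y) * y⁻¹ = t
    group
  map_mul' a b := by
    apply Subtype.ext
    show y * ((a : G) * b) * y⁻¹ = (y * a * y⁻¹) * (y * b * y⁻¹)
    group

theorem conjEquivOf_coe {H H' : Subgroup G} (y : G) (h : ∀ u, u ∈ H ↔ y * u * y⁻¹ ∈ H') (t : H) :
    ((conjEquivOf y h t : H') : G) = y * t * y⁻¹ := rfl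

/-- The stabilizers of conjugate pairs are conjugate. -/
theorem mem_T_iff_conj (hf : IsPBlock M f) {T T' : Subgroup G} {y : G}
    (hT : ∀ u : G, u ∈ T ↔ u ∈ Subgroup.normalizer (Q : Set G) ∧ StabilizesBlock (Cen Q) f u)
    (hT' : ∀ u : G, u ∈ T' ↔ u ∈ Subgroup.normalizer ((cj y Q : Subgroup G) : Set G) ∧
      StabilizesBlock (Cen (cj y Q)) (conjBlock Q y f) u) (u : G) : u ∈ T ↔ y * u * y⁻¹ ∈ T' := by
  rw [hT, hT', conj_mem_normalizer_cj, stabilizes_conj_iff hf]

variable (hM : IsPModular p M) (hmax : IsMaximalBrauerPair p M B P e)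

include hM hmax

theorem cen_defect_ge (hle : SubpairLE p M Q f P e) (hf : IsPBlock M f) :
    ∃ D : Subgroup (Cen Q), IsDefectGroup p M f D ∧ (P ⊓ Cen Q).subgroupOf (Cen Q) ≤ D :=
  exists_defect_ge hM (isBrauerPairOf_iff.1 hmax.1).1 hle le_rfl (cen_le_normalizer Q) hf (blockCoeff_self f)
    inf_le_left inf_le_right

theorem isBrauerPairOf_of_le (hle : SubpairLE p M Q f P e) : IsBrauerPairOf p M B Q f :=
  (isBrauerPairOf_le_iff hM hle B).1 hmax.1

/-- A conjugate with `C_P(Q)` a defect group. -/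
theorem exists_conj_cen_defect (hle : SubpairLE p M Q f P e) (hf : IsPBlock M f) :
    ∃ x : G, SubpairLE p M (cj x Q) (conjBlock Q x f) P e ∧
      IsDefectGroup p M (conjBlock Q x f) ((P ⊓ Cen (cj x Q)).subgroupOf (Cen (cj x Q))) := by
  classical
  obtain ⟨D, hD⟩ := Cfsg.Agent.Lib.CharExtra.exists_isDefectGroup hM hf
  obtain ⟨y, hy, hyD⟩ := exists_conj_defect_le hM hmax (isBrauerPairOf_of_le hM hmax hle) (cen_le_normalizer Q)
    (fun t ht => stabilizes_of_mem_cen ht) (blockCoeff_self f) hD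
  refine ⟨y, hy, ?_⟩
  have := isDefectGroup_of_conj hM hmax le_rfl (cen_le_normalizer Q) hf (blockCoeff_self f) hD hy hyD
    (cEquiv Q y) (fun h => rfl)
  rwa [← conjBlock_eq] at this

/-- The stabilizer block exists. -/
theorem exists_blockT_of_le (hle : SubpairLE p M Q f P e) (hf : IsPBlock M f) {T : Subgroup G}
    (hT : ∀ y : G, y ∈ T ↔ y ∈ Subgroup.normalizer (Q : Set G) ∧ StabilizesBlock (Cen Q) f y) :
    ∃ F : Set (IrrCharacter T), IsPBlock M F ∧ ∀ t : T, blockCoeff F t = subgroupBlockCoeff (Cen Q) f (t : G) := by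
  have hPe := (isBrauerPairOf_iff.1 hmax.1).1
  have hQ : IsPGroup p Q := hPe.1.to_le (le_of_subpairLE hle)
  exact exists_blockT hM hQ hf (fun c hc => (hT c).2 ⟨cen_le_normalizer Q hc, stabilizes_of_mem_cen hc⟩)
    (fun x hx => (hT x).2 ⟨Subgroup.le_normalizer hx, stabilizes_of_mem hx⟩) (fun t ht => ((hT t).1 ht).1)
    (fun t ht => ((hT t).1 ht).2)

theorem inf_normalizer_le_T (hle : SubpairLE p M Q f P e) {T : Subgroup G}
    (hT : ∀ y : G, y ∈ T ↔ y ∈ Subgroup.normalizer (Q : Set G) ∧ StabilizesBlock (Cen Q) f y) :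
    P ⊓ Subgroup.normalizer (Q : Set G) ≤ T := fun u hu =>
  (hT u).2 ⟨hu.2, stabilizes_of_le hM (isBrauerPairOf_iff.1 hmax.1).1 hle hu.1 hu.2⟩

theorem inf_normalizer_eq (hle : SubpairLE p M Q f P e) {T : Subgroup G}
    (hT : ∀ y : G, y ∈ T ↔ y ∈ Subgroup.normalizer (Q : Set G) ∧ StabilizesBlock (Cen Q) f y) :
    P ⊓ Subgroup.normalizer (Q : Set G) = P ⊓ T :=
  le_antisymm (le_inf inf_le_left (inf_normalizer_le_T hM hmax hle hT))
    (le_inf inf_le_left (fun u hu => ((hT u).1 hu.2).1))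

/-- `N_P(Q)` lies in a defect group of the stabilizer block. -/
theorem stab_defect_ge (hle : SubpairLE p M Q f P e) {T : Subgroup G}
    (hT : ∀ y : G, y ∈ T ↔ y ∈ Subgroup.normalizer (Q : Set G) ∧ StabilizesBlock (Cen Q) f y)
    {F : Set (IrrCharacter T)} (hF : IsPBlock M F)
    (hc : ∀ t : T, blockCoeff F t = subgroupBlockCoeff (Cen Q) f (t : G)) :
    ∃ D : Subgroup T, IsDefectGroup p M F D ∧ (P ⊓ Subgroup.normalizer (Q : Set G)).subgroupOf T ≤ D :=
  exists_defect_ge hM (isBrauerPairOf_iff.1 hmax.1).1 hle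
    (fun c hc => (hT c).2 ⟨cen_le_normalizer Q hc, stabilizes_of_mem_cen hc⟩) (fun t ht => ((hT t).1 ht).1)
    hF hc inf_le_left (inf_normalizer_le_T hM hmax hle hT)

/-- A conjugate for which `N_P(Q)` is a defect group. -/
theorem exists_conj_stab_defect (hle : SubpairLE p M Q f P e) (hf : IsPBlock M f) {T : Subgroup G}
    (hT : ∀ y : G, y ∈ T ↔ y ∈ Subgroup.normalizer (Q : Set G) ∧ StabilizesBlock (Cen Q) f y) :
    ∃ x : G, SubpairLE p M (cj x Q) (conjBlock Q x f) P e ∧ ∀ T' : Subgroup G,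
      (∀ y : G, y ∈ T' ↔ y ∈ Subgroup.normalizer ((cj x Q : Subgroup G) : Set G) ∧
        StabilizesBlock (Cen (cj x Q)) (conjBlock Q x f) y) →
      ∃ F' : Set (IrrCharacter T'), IsPBlock M F' ∧
        (∀ t : T', blockCoeff F' t = subgroupBlockCoeff (Cen (cj x Q)) (conjBlock Q x f) (t : G)) ∧
        IsDefectGroup p M F' ((P ⊓ Subgroup.normalizer ((cj x Q : Subgroup G) : Set G)).subgroupOf T') := by
  classical
  have hPe := (isBrauerPairOf_iff.1 hmax.1).1
  obtain ⟨F, hF, hc⟩ := exists_blockT_of_le hM hmax hle hf hT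
  obtain ⟨D, hD⟩ := Cfsg.Agent.Lib.CharExtra.exists_isDefectGroup hM hF
  obtain ⟨y, hy, hyD⟩ := exists_conj_defect_le hM hmax (isBrauerPairOf_of_le hM hmax hle)
    (fun t ht => ((hT t).1 ht).1) (fun t ht => ((hT t).1 ht).2) hc hD
  refine ⟨y, hy, fun T' hT' => ?_⟩
  have hCT : Cen Q ≤ T := fun c hc => (hT c).2 ⟨cen_le_normalizer Q hc, stabilizes_of_mem_cen hc⟩
  let φ : T ≃* T' := conjEquivOf y (mem_T_iff_conj hf hT hT')
  have hdef := isDefectGroup_of_conj hM hmax hCT (fun t ht => ((hT t).1 ht).1) hF hc hD hy hyD φ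
    (fun h => rfl)
  have hF' : IsPBlock M (mapBlock φ F) := isPBlock_mapBlock φ hF
  refine ⟨mapBlock φ F, hF', ?_, ?_⟩
  · intro t'
    have h0 : t' = φ (φ.symm t') := by simp
    have h1 : blockCoeff (mapBlock φ F) t' = blockCoeff F (φ.symm t') := by
      conv_lhs => rw [h0]
      exact blockCoeff_mapBlock φ F _
    rw [h1, blockCoeff_eq_Ee hc, subgroupBlockCoeff_fun]
    show _ = (Ee (cj y Q) (conjBlock Q y f)).coeff (t' : G)
    rw [Ee_conj, coeff_conjElt]
    congr 1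
  · rw [inf_normalizer_eq hM hmax hy hT']
    exact hdef

end

end Cfsg.Agent.Lib.BPair
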