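import Cfsg.Agent.Lib.BPair.Fully

/-!
# The fusion system of a block
-/

set_option autoImplicit false
set_option linter.unusedSectionVars false
set_option linter.unusedSimpArgs false
set_option linter.unusedVariables false

open scoped ComplexConjugate
open Cfsg MonoidAlgebra
open Cfsg.Agent.Lib.Block Cfsg.Agent.Lib.Char Cfsg.Agent.Lib.CharExtra

namespace Cfsg.Agent.Lib.BPair

attribute [local instance] subFintype

section

variable {G : Type*} [Group G] [Fintype G] {M : Ideal AlgInt} [hMp : M.IsPrime] {p : ℕ} [hp : Fact p.Prime]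
  {B : Set (IrrCharacter G)} {P Q : Subgroup G} {e : Set (IrrCharacter (Cen P))} {f : Set (IrrCharacter (Cen Q))}

theorem eq_of_blockCoeff_eq {H : Type*} [Group H] [Fintype H] {F F' : Set (IrrCharacter H)}
    (h : ∀ t, blockCoeff F t = blockCoeff F' t) : F = F' := by
  apply block_eq_of_blockElt_eq
  apply ext_coeff
  intro t
  rw [coeff_blockElt, coeff_blockElt, h]

theorem conjHom_range (Q : Subgroup G) (g : G) : (conjHom Q g).range = cj g Q := by
  ext u
  constructor
  · rintro ⟨v, rfl⟩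
    exact ⟨v, v.2, rfl⟩
  · rintro ⟨v, hv, rfl⟩
    exact ⟨⟨v, hv⟩, rfl⟩

theorem isDefectGroup_conjBlock {g : G} {D₀ : Subgroup (Cen Q)} (h : IsDefectGroup p M f D₀) :
    IsDefectGroup p M (conjBlock Q g f) (D₀.map (cEquiv Q g).toMonoidHom) := by
  rw [conjBlock_eq]
  exact isDefectGroup_mapBlock _ h

variable (hM : IsPModular p M) {F : FusionSystem P} (hF : IsBlockFusionSystemOn p M B P e F)

include hM hF

theorem eq_of_subpairLE_of_le {f₁ : Set (IrrCharacter (Cen Q))} (h₁ : SubpairLE p M Q f₁ P e)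
    (h : SubpairLE p M Q f P e) : f₁ = f := by
  have hPe := (isBrauerPairOf_iff.1 hF.1.1).1
  exact (existsUnique_subpair hM hPe (le_of_subpairLE h)).unique
    ⟨(isBrauerPair_of_subpairLE hPe h₁).2, h₁⟩ ⟨(isBrauerPair_of_subpairLE hPe h).2, h⟩

theorem mem_hom_iff (hle : SubpairLE p M Q f P e) (φ : Q →* G) :
    φ ∈ F.Hom Q ↔ ∃ g : G, (∀ u : Q, φ u = g * (u : G) * g⁻¹) ∧ SubpairLE p M (cj g Q) (conjBlock Q g f) P e := by
  rw [hF.2 Q φ]
  constructor
  · rintro ⟨-, g, hg, -, f₁, h₁, h₂⟩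
    rw [eq_of_subpairLE_of_le hM hF h₁ hle] at h₂
    exact ⟨g, hg, h₂⟩
  · rintro ⟨g, hg, h₂⟩
    exact ⟨le_of_subpairLE hle, g, hg, le_of_subpairLE h₂, f, hle, h₂⟩

theorem isConj_iff_block (hle : SubpairLE p M Q f P e) (Q' : Subgroup G) :
    F.IsConj Q Q' ↔ ∃ g : G, Q' = cj g Q ∧ SubpairLE p M (cj g Q) (conjBlock Q g f) P e := by
  constructor
  · rintro ⟨φ, hφ, hr⟩
    obtain ⟨g, hg, h₂⟩ := (mem_hom_iff hM hF hle φ).1 hφ
    refine ⟨g, ?_, h₂⟩
    rw [← hr]
    ext u
    constructor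
    · rintro ⟨v, rfl⟩
      rw [hg]
      exact ⟨v, v.2, rfl⟩
    · rintro ⟨v, hv, rfl⟩
      exact ⟨⟨v, hv⟩, hg _⟩
  · rintro ⟨g, rfl, h₂⟩
    exact ⟨conjHom Q g, (mem_hom_iff hM hF hle _).2 ⟨g, fun u => rfl, h₂⟩, conjHom_range Q g⟩

theorem isConj_self (hle : SubpairLE p M Q f P e) : F.IsConj Q Q :=
  ⟨conjHom Q 1, F.conj_mem (le_of_subpairLE hle) P.one_mem, by
    rw [conjHom_range]
    ext u
    rw [mem_cj]
    simp⟩

/-- A bound for the centralizer in `P` of a conjugate. -/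
theorem card_cen_le_of_defect (hle' : IsPBlock M f) {g : G} (hg : SubpairLE p M (cj g Q) (conjBlock Q g f) P e)
    {D₀ : Subgroup (Cen Q)} (hD₀ : IsDefectGroup p M f D₀) :
    Nat.card (P ⊓ Cen (cj g Q) : Subgroup G) ≤ Nat.card D₀ := by
  obtain ⟨D₂, hD₂, hle₂⟩ := cen_defect_ge hM hF.1 hg (isPBlock_conjBlock hle')
  have h1 := card_defect_eq hM (isPBlock_conjBlock hle') hD₂ (isDefectGroup_conjBlock (g := g) hD₀)
  rw [Subgroup.card_map_of_injective (cEquiv Q g).injective] at h1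
  rw [← h1, ← card_subgroupOf_of_le (inf_le_right : P ⊓ Cen (cj g Q) ≤ Cen (cj g Q))]
  exact Subgroup.card_le_of_le hle₂

/-- **Fully centralized iff `C_P(Q)` is a defect group.** -/
theorem isFullyCentralized_iff (hle : SubpairLE p M Q f P e) (hf : IsPBlock M f) :
    F.IsFullyCentralized Q ↔ IsDefectGroup p M f ((P ⊓ Cen Q).subgroupOf (Cen Q)) := by
  constructor
  · rintro ⟨-, hfc⟩
    obtain ⟨D, hD, hle₁⟩ := cen_defect_ge hM hF.1 hle hf
    obtain ⟨x, hx, hxD⟩ := exists_conj_cen_defect hM hF.1 hle hf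
    have h1 := hfc (cj x Q) ((isConj_iff_block hM hF hle _).2 ⟨x, rfl, hx⟩)
    unfold FusionSystem.centralizerIn at h1
    have h2 := card_defect_eq hM (isPBlock_conjBlock hf) (isDefectGroup_conjBlock (g := x) hD) hxD
    rw [Subgroup.card_map_of_injective (cEquiv Q x).injective,
      card_subgroupOf_of_le inf_le_right] at h2
    have heq : (P ⊓ Cen Q).subgroupOf (Cen Q) = D := by
      refine Subgroup.eq_of_le_of_card_ge hle₁ ?_
      rw [card_subgroupOf_of_le inf_le_right, h2]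
      exact h1
    rw [heq]
    exact hD
  · intro hdef
    refine ⟨le_of_subpairLE hle, fun Q' hc => ?_⟩
    obtain ⟨g, rfl, hg⟩ := (isConj_iff_block hM hF hle _).1 hc
    have := card_cen_le_of_defect hM hF hf hg hdef
    rwa [card_subgroupOf_of_le inf_le_right] at this

/-- **Centric iff `Z(Q)` is a defect group.** -/
theorem isCentric_iff (hle : SubpairLE p M Q f P e) (hf : IsPBlock M f) :
    F.IsCentric Q ↔ IsDefectGroup p M f ((Q ⊓ Cen Q).subgroupOf (Cen Q)) := by
  have hQP := le_of_subpairLE hle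
  have hZle : ∀ x : G, cj x (Q ⊓ Cen Q) ≤ cj x Q ⊓ Cen (cj x Q) := by
    intro x
    rintro _ ⟨u, hu, rfl⟩
    exact ⟨⟨u, hu.1, rfl⟩, conj_mem_cen_cj.2 hu.2⟩
  constructor
  · rintro ⟨-, hcen⟩
    obtain ⟨D, hD, hle₁⟩ := cen_defect_ge hM hF.1 hle hf
    obtain ⟨x, hx, hxD⟩ := exists_conj_cen_defect hM hF.1 hle hf
    have h1 := hcen (cj x Q) ((isConj_iff_block hM hF hle _).2 ⟨x, rfl, hx⟩)
    have h0 := hcen Q (isConj_self hM hF hle)
    unfold FusionSystem.centralizerIn at h0 h1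
    have h2 := card_defect_eq hM (isPBlock_conjBlock hf) (isDefectGroup_conjBlock (g := x) hD) hxD
    rw [Subgroup.card_map_of_injective (cEquiv Q x).injective,
      card_subgroupOf_of_le inf_le_right] at h2
    have h3 : (P ⊓ Cen Q : Subgroup G) = Q ⊓ Cen Q :=
      le_antisymm (le_inf h0 inf_le_right) (le_inf (inf_le_left.trans hQP) inf_le_right)
    rw [h3] at hle₁
    have h4 : Nat.card (P ⊓ Cen (cj x Q) : Subgroup G) ≤ Nat.card (Q ⊓ Cen Q : Subgroup G) := by
      have h5 : cj x⁻¹ (P ⊓ Cen (cj x Q)) ≤ Q ⊓ Cen Q := by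
        rintro _ ⟨u, hu, rfl⟩
        have hu1 : u ∈ cj x Q := h1 hu
        have hu2 : u ∈ Cen (cj x Q) := hu.2
        refine ⟨?_, ?_⟩
        · have := mem_cj.1 hu1
          simpa using this
        · have := mem_cen_cj.1 hu2
          simpa using this
      have := Subgroup.card_le_of_le h5
      rwa [card_cj] at this
    have heq : (Q ⊓ Cen Q).subgroupOf (Cen Q) = D := by
      refine Subgroup.eq_of_le_of_card_ge hle₁ ?_
      rw [card_subgroupOf_of_le inf_le_right, h2]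
      exact h4
    rw [heq]
    exact hD
  · intro hdef
    refine ⟨hQP, fun Q' hc => ?_⟩
    obtain ⟨g, rfl, hg⟩ := (isConj_iff_block hM hF hle _).1 hc
    have h1 := card_cen_le_of_defect hM hF hf hg hdef
    rw [card_subgroupOf_of_le inf_le_right] at h1
    have h2 : Nat.card (Q ⊓ Cen Q : Subgroup G) ≤ Nat.card (cj g Q ⊓ Cen (cj g Q) : Subgroup G) := by
      have := Subgroup.card_le_of_le (hZle g)
      rwa [card_cj] at this
    have h3 : (cj g Q ⊓ Cen (cj g Q) : Subgroup G) ≤ P ⊓ Cen (cj g Q) :=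
      le_inf (inf_le_left.trans (le_of_subpairLE hg)) inf_le_right
    have h4 : (cj g Q ⊓ Cen (cj g Q) : Subgroup G) = P ⊓ Cen (cj g Q) :=
      Subgroup.eq_of_le_of_card_ge h3 (h1.trans h2)
    unfold FusionSystem.centralizerIn
    rw [← h4]
    exact inf_le_left

/-- A bound for the normalizer in `P` of a conjugate. -/
theorem card_nor_le_of_defect (hle : SubpairLE p M Q f P e) (hf : IsPBlock M f) {T : Subgroup G}
    (hT : ∀ y : G, y ∈ T ↔ y ∈ Subgroup.normalizer (Q : Set G) ∧ StabilizesBlock (Cen Q) f y)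
    {F₁ : Set (IrrCharacter T)} (hF₁ : IsPBlock M F₁)
    (hc : ∀ t : T, blockCoeff F₁ t = subgroupBlockCoeff (Cen Q) f (t : G)) {g : G}
    (hg : SubpairLE p M (cj g Q) (conjBlock Q g f) P e) {D₀ : Subgroup T} (hD₀ : IsDefectGroup p M F₁ D₀) :
    Nat.card (P ⊓ Subgroup.normalizer ((cj g Q : Subgroup G) : Set G) : Subgroup G) ≤ Nat.card D₀ := by
  classical
  obtain ⟨T', hT'⟩ := exists_pairT (P := cj g Q) (isPBlock_conjBlock (x := g) hf)
  let φ : T ≃* T' := conjEquivOf g (mem_T_iff_conj hf hT hT')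
  have hF' : IsPBlock M (mapBlock φ F₁) := isPBlock_mapBlock φ hF₁
  have hc' : ∀ t : T', blockCoeff (mapBlock φ F₁) t = subgroupBlockCoeff (Cen (cj g Q)) (conjBlock Q g f) (t : G) := by
    intro t'
    have h0 : t' = φ (φ.symm t') := by simp
    have h1 : blockCoeff (mapBlock φ F₁) t' = blockCoeff F₁ (φ.symm t') := by
      conv_lhs => rw [h0]
      exact blockCoeff_mapBlock φ F₁ _
    rw [h1, blockCoeff_eq_Ee hc, subgroupBlockCoeff_fun]
    show _ = (Ee (cj g Q) (conjBlock Q g f)).coeff (t' : G)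
    rw [Ee_conj, coeff_conjElt]
    congr 1
  obtain ⟨D₂, hD₂, hle₂⟩ := stab_defect_ge hM hF.1 hg hT' hF' hc'
  have h1 := card_defect_eq hM hF' hD₂ (isDefectGroup_mapBlock (p := p) φ hD₀)
  rw [Subgroup.card_map_of_injective φ.injective] at h1
  rw [← h1, ← card_subgroupOf_of_le (inf_normalizer_le_T hM hF.1 hg hT')]
  exact Subgroup.card_le_of_le hle₂

/-- **Fully normalized iff `N_P(Q)` is a defect group of the stabilizer block.** -/
theorem isFullyNormalized_iff (hle : SubpairLE p M Q f P e) (hf : IsPBlock M f) {T : Subgroup G}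
    (hT : ∀ y : G, y ∈ T ↔ y ∈ Subgroup.normalizer (Q : Set G) ∧ StabilizesBlock (Cen Q) f y) :
    F.IsFullyNormalized Q ↔ ∃ F' : Set (IrrCharacter T), IsPBlock M F' ∧
      (∀ t : T, blockCoeff F' t = subgroupBlockCoeff (Cen Q) f (t : G)) ∧
      IsDefectGroup p M F' ((P ⊓ Subgroup.normalizer (Q : Set G)).subgroupOf T) := by
  classical
  constructor
  · rintro ⟨-, hfc⟩
    obtain ⟨F₁, hF₁, hc⟩ := exists_blockT_of_le hM hF.1 hle hf hT
    refine ⟨F₁, hF₁, hc, ?_⟩
    obtain ⟨D, hD, hle₁⟩ := stab_defect_ge hM hF.1 hle hT hF₁ hc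
    obtain ⟨x, hx, hxD⟩ := exists_conj_stab_defect hM hF.1 hle hf hT
    obtain ⟨T', hT'⟩ := exists_pairT (P := cj x Q) (isPBlock_conjBlock (x := x) hf)
    obtain ⟨F'', hF'', hc'', hdef''⟩ := hxD T' hT'
    let φ : T ≃* T' := conjEquivOf x (mem_T_iff_conj hf hT hT')
    have hcφ : ∀ t : T', blockCoeff (mapBlock φ F₁) t = blockCoeff F'' t := by
      intro t'
      rw [hc'']
      have h0 : t' = φ (φ.symm t') := by simp
      have h1 : blockCoeff (mapBlock φ F₁) t' = blockCoeff F₁ (φ.symm t') := by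
        conv_lhs => rw [h0]
        exact blockCoeff_mapBlock φ F₁ _
      rw [h1, blockCoeff_eq_Ee hc, subgroupBlockCoeff_fun]
      show _ = (Ee (cj x Q) (conjBlock Q x f)).coeff (t' : G)
      rw [Ee_conj, coeff_conjElt]
      congr 1
    have hFeq := eq_of_blockCoeff_eq hcφ
    have h2 := card_defect_eq hM hF'' (hFeq ▸ isDefectGroup_mapBlock (p := p) φ hD) hdef''
    rw [Subgroup.card_map_of_injective φ.injective, card_subgroupOf_of_le (inf_normalizer_le_T hM hF.1 hx hT')] at h2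
    have h1 := hfc (cj x Q) ((isConj_iff_block hM hF hle _).2 ⟨x, rfl, hx⟩)
    unfold FusionSystem.normalizerIn at h1
    have heq : (P ⊓ Subgroup.normalizer (Q : Set G)).subgroupOf T = D := by
      refine Subgroup.eq_of_le_of_card_ge hle₁ ?_
      rw [card_subgroupOf_of_le (inf_normalizer_le_T hM hF.1 hle hT), h2]
      exact h1
    rw [heq]
    exact hD
  · rintro ⟨F₁, hF₁, hc, hdef⟩
    refine ⟨le_of_subpairLE hle, fun Q' hc' => ?_⟩
    obtain ⟨g, rfl, hg⟩ := (isConj_iff_block hM hF hle _).1 hc'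
    have := card_nor_le_of_defect hM hF hle hf hT hF₁ hc hg hdef
    rwa [card_subgroupOf_of_le (inf_normalizer_le_T hM hF.1 hle hT)] at this

end

section Principal

variable {G : Type*} [Group G] [Fintype G] {M : Ideal AlgInt} [hMp : M.IsPrime] {p : ℕ} [hp : Fact p.Prime]

theorem isMaximal_principal (hM : IsPModular p M) (S : Sylow p G) :
    IsMaximalBrauerPair p M (principalBlock M G) (S : Subgroup G) (principalBlock M (Cen (S : Subgroup G))) := by
  refine ⟨(isBrauerPairOf_principal_iff hM S.isPGroup' isPBlock_principalBlock).2 rfl, fun R g hRg hle => ?_⟩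
  have hR := (isBrauerPairOf_iff.1 hRg).1.1
  exact S.is_maximal' hR (le_of_subpairLE hle)

/-- **The fusion system of the principal block.** -/
theorem principal_fusion (hM : IsPModular p M) (S : Sylow p G) {F : FusionSystem (S : Subgroup G)}
    (hF : IsBlockFusionSystemOn p M (principalBlock M G) (S : Subgroup G) (principalBlock M (Cen (S : Subgroup G))) F)
    (Q : Subgroup G) : F.Hom Q = (groupFusionSystem (S : Subgroup G)).Hom Q := by
  classical
  have hmax := isMaximal_principal (M := M) hM S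
  have hPe := (isBrauerPairOf_iff.1 hmax.1).1
  ext φ
  rw [hF.2 Q φ]
  constructor
  · rintro ⟨hQP, g, hg, hle, -⟩
    refine ⟨hQP, fun x => ?_, g, hg⟩
    rw [hg]
    exact hle ⟨x, x.2, rfl⟩
  · rintro ⟨hQP, hφS, g, hg⟩
    have hle : cj g Q ≤ (S : Subgroup G) := by
      rintro _ ⟨u, hu, rfl⟩
      have := hφS ⟨u, hu⟩
      rwa [hg] at this
    refine ⟨hQP, g, hg, hle, ?_⟩
    obtain ⟨f, ⟨hf, hfle⟩, -⟩ := existsUnique_subpair hM hPe hQP
    refine ⟨f, hfle, ?_⟩
    obtain ⟨f', ⟨hf', hfle'⟩, -⟩ := existsUnique_subpair hM hPe hle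
    have hQB : IsBrauerPairOf p M (principalBlock M G) Q f := (isBrauerPairOf_le_iff hM hfle _).1 hmax.1
    have h1 : IsBrauerPairOf p M (principalBlock M G) (cj g Q) (conjBlock Q g f) := isBrauerPairOf_conj hQB
    have h2 : IsBrauerPairOf p M (principalBlock M G) (cj g Q) f' := (isBrauerPairOf_le_iff hM hfle' _).1 hmax.1
    have hp1 := (isBrauerPairOf_principal_iff hM (S.isPGroup'.to_le hle) (isPBlock_conjBlock hf)).1 h1
    have hp2 := (isBrauerPairOf_principal_iff hM (S.isPGroup'.to_le hle) hf').1 h2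
    rw [hp1, ← hp2]
    exact hfle'

end Principal

end Cfsg.Agent.Lib.BPair
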