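import Cfsg.Agent.Lib.BPair.SigmaTwo

/-!
# Galois conjugation of irreducible characters: fixed constituents
-/

set_option autoImplicit false
set_option linter.unusedSectionVars false
set_option linter.unusedSimpArgs false
set_option linter.unusedVariables false

open scoped ComplexConjugate
open Cfsg MonoidAlgebra
open Cfsg.Agent.Lib.Block Cfsg.Agent.Lib.Char Cfsg.Agent.Lib.CharExtra

namespace Cfsg.Agent.Lib.BPair

attribute [local instance] subFintype

universe u

/-- A map of `p`-power order on a set of size prime to `p` has a fixed point. -/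
theorem exists_fixed_of_prime_power (p : ℕ) [hp : Fact p.Prime] {α : Type*} (s : Finset α) (f : α → α)
    (hf : ∀ x ∈ s, f x ∈ s) (e : ℕ) (he : ∀ x ∈ s, f^[p ^ e] x = x) (hnd : ¬ p ∣ s.card) : ∃ x ∈ s, f x = x := by
  classical
  let F₀ : s → s := fun x => ⟨f x, hf x x.2⟩
  have hit : ∀ (j : ℕ) (x : s), ((F₀^[j] x : s) : α) = f^[j] x := by
    intro j
    induction j with
    | zero => intro x; rfl
    | succ j ih =>
      intro x
      rw [Function.iterate_succ_apply, Function.iterate_succ_apply, ih]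
  have hid : F₀^[p ^ e] = id := by
    funext x
    apply Subtype.ext
    rw [hit]
    exact he x x.2
  have hinj : Function.Injective F₀ := by
    have h1 : (p ^ e - 1) + 1 = p ^ e := Nat.sub_add_cancel (Nat.one_le_pow _ _ hp.out.pos)
    have h2 : Function.LeftInverse F₀^[p ^ e - 1] F₀ := by
      intro x
      rw [← Function.iterate_succ_apply, Nat.succ_eq_add_one, h1, hid]
      rfl
    exact h2.injective
  have hbij := Finite.injective_iff_bijective.mp hinj
  let F : Equiv.Perm s := Equiv.ofBijective F₀ hbij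
  have hFpow : F ^ (p ^ e) = 1 := by
    apply Equiv.ext
    intro x
    rw [← Equiv.Perm.iterate_eq_pow]
    have h3 : (⇑F) = F₀ := rfl
    rw [h3, hid]
    rfl
  have hH : IsPGroup p (Subgroup.zpowers F) := by
    intro g
    refine ⟨e, ?_⟩
    obtain ⟨z, hz⟩ := Subgroup.mem_zpowers_iff.mp g.2
    apply Subtype.ext
    show (g : Equiv.Perm s) ^ (p ^ e) = 1
    rw [← hz, ← zpow_natCast, ← zpow_mul, mul_comm, zpow_mul, zpow_natCast, hFpow, one_zpow]
  have hcard : ¬ p ∣ Nat.card s := by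
    rw [Nat.card_eq_fintype_card, Fintype.card_coe]
    exact hnd
  obtain ⟨x, hx⟩ := hH.nonempty_fixed_point_of_prime_not_dvd_card s hcard
  refine ⟨x, x.2, ?_⟩
  have h4 := hx ⟨F, Subgroup.mem_zpowers F⟩
  exact congrArg Subtype.val h4

section Gal

variable {X : Type*} [Group X] [Fintype X]

/-- The Galois conjugate `g ↦ χ (g ^ k)` as an irreducible character. -/
noncomputable def galI {k : ℕ} (hk : k.Coprime (Nat.card X)) (χ : IrrCharacter X) : IrrCharacter X :=
  ⟨fun g => (χ : X → ℂ) (g ^ k), Lib.Degree.galois_isIrr χ.2 hk⟩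

theorem galI_apply {k : ℕ} (hk : k.Coprime (Nat.card X)) (χ : IrrCharacter X) (g : X) :
    (galI hk χ : X → ℂ) g = (χ : X → ℂ) (g ^ k) := rfl

theorem galI_iterate {k : ℕ} (hk : k.Coprime (Nat.card X)) (j : ℕ) (χ : IrrCharacter X) (g : X) :
    ((galI hk)^[j] χ : X → ℂ) g = (χ : X → ℂ) (g ^ (k ^ j)) := by
  induction j generalizing χ g with
  | zero => simp
  | succ j ih =>
    rw [Function.iterate_succ_apply, ih, galI_apply, ← pow_mul, pow_succ]

theorem galI_iterate_eq {k m : ℕ} (hk : k.Coprime (Nat.card X)) (j : ℕ) (hm : Nat.card X ∣ m)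
    (hke : k ^ j ≡ 1 [MOD m]) (χ : IrrCharacter X) : (galI hk)^[j] χ = χ := by
  apply Subtype.ext
  funext t
  rw [galI_iterate]
  congr 1
  have h1 : t ^ (k ^ j) = t ^ 1 := by
    rw [pow_eq_pow_iff_modEq]
    exact hke.of_dvd ((orderOf_dvd_natCard t).trans hm)
  rw [h1, pow_one]

end Gal

section Main

variable {G : Type u} [Group G] [Fintype G]

/-- Under conjugation, fixed points of `g ↦ g ^ k` go to fixed points. -/
theorem conj_fixed (N : Subgroup G) [hN : N.Normal] {k : ℕ} {ζ : N → ℂ} (hζ : ∀ n : N, ζ (n ^ k) = ζ n) (g : G) (n : N) :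
    conjFn hN g ζ (n ^ k) = conjFn hN g ζ n := by
  unfold conjFn
  have e : (⟨g * ((n ^ k : N) : G) * g⁻¹, hN.conj_mem _ (n ^ k).2 g⟩ : N) = (⟨g * n * g⁻¹, hN.conj_mem _ n.2 g⟩ : N) ^ k := by
    apply Subtype.ext
    simp [conj_pow]
  rw [e, hζ]

/-- Constituents of a fixed character under a normal subgroup of index prime to `p`, `p`-power automorphism. -/
theorem exists_fixed_constituent {p : ℕ} [hp : Fact p.Prime] (N : Subgroup G) [hN : N.Normal] (hidx : ¬ p ∣ N.index) (k e : ℕ)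
    (hk : Nat.Coprime k (Nat.card G)) (hke : k ^ (p ^ e) ≡ 1 [MOD Nat.card G]) {χ : IrrCharacter G}
    (hχ : ∀ g : G, (χ : G → ℂ) (g ^ k) = (χ : G → ℂ) g) :
    ∃ ζ : IrrCharacter N, classInner (fun n : N => (χ : G → ℂ) n) (ζ : N → ℂ) ≠ 0 ∧ ∀ n : N, (ζ : N → ℂ) (n ^ k) = (ζ : N → ℂ) n := by
  classical
  have hcT : Nat.card N ∣ Nat.card G := Subgroup.card_subgroup_dvd_card N
  have hkT : k.Coprime (Nat.card N) := Nat.Coprime.coprime_dvd_right hcT hk
  obtain ⟨ζ₁, hζ₁⟩ := exists_constituent N χ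
  set Y := (Finset.univ.filter fun φ : IrrCharacter N => classInner (fun n : N => (χ : G → ℂ) n) (φ : N → ℂ) ≠ 0) with hY
  have hYnd : ¬ p ∣ Y.card := by
    have h1 := card_constituents_dvd N χ ζ₁ hζ₁
    exact fun hd => hidx (hd.trans h1)
  have hYf : ∀ φ ∈ Y, galI hkT φ ∈ Y := by
    intro φ hφ
    rw [hY, Finset.mem_filter] at hφ ⊢
    refine ⟨Finset.mem_univ _, ?_⟩
    have h1 := Lib.Degree.classInner_galois (fun n : N => (χ : G → ℂ) n) (φ : N → ℂ) hkT
    have h2 : (fun t : N => (fun n : N => (χ : G → ℂ) n) (t ^ k)) = fun n : N => (χ : G → ℂ) n := by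
      funext t
      exact hχ t
    rw [h2] at h1
    show classInner (fun n : N => (χ : G → ℂ) n) (fun t => (φ : N → ℂ) (t ^ k)) ≠ 0
    rw [h1]
    exact hφ.2
  obtain ⟨ζ₀, hζ₀Y, hζ₀f⟩ := exists_fixed_of_prime_power p Y (galI hkT) hYf e
    (fun φ _ => galI_iterate_eq hkT _ hcT hke φ) hYnd
  refine ⟨ζ₀, (Finset.mem_filter.mp hζ₀Y).2, fun n => ?_⟩
  exact congrFun (congrArg Subtype.val hζ₀f) n

/-- Every constituent of a fixed character under a normal subgroup of index prime to `p` is fixed. -/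
theorem constituent_fixed {p : ℕ} [hp : Fact p.Prime] (N : Subgroup G) [hN : N.Normal] (hidx : ¬ p ∣ N.index) (k e : ℕ)
    (hk : Nat.Coprime k (Nat.card G)) (hke : k ^ (p ^ e) ≡ 1 [MOD Nat.card G]) {χ : IrrCharacter G}
    (hχ : ∀ g : G, (χ : G → ℂ) (g ^ k) = (χ : G → ℂ) g) {θ : IrrCharacter N}
    (hθ : classInner (fun n : N => (χ : G → ℂ) n) (θ : N → ℂ) ≠ 0) : ∀ n : N, (θ : N → ℂ) (n ^ k) = (θ : N → ℂ) n := by
  obtain ⟨ζ, hζ, hf⟩ := exists_fixed_constituent N hidx k e hk hke hχ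
  obtain ⟨g, hg⟩ := clifford_constituent_conj hN χ.2 ζ.2 θ.2 hζ hθ
  rw [hg]
  exact conj_fixed N hf g

end Main

end Cfsg.Agent.Lib.BPair
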