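import Cfsg.Agent.Lib.BPair.GalFix
import Cfsg.Agent.Lib.Block.Quot
import Cfsg.Agent.Lib.Block.Quick
import Cfsg.Agent.Lib.Block.Jordan

/-!
# Blocks can be tested on regular classes; parity of fixed points
-/

set_option autoImplicit false
set_option linter.unusedSectionVars false
set_option linter.unusedSimpArgs false
set_option linter.unusedVariables false

open scoped ComplexConjugate
open Cfsg MonoidAlgebra
open Cfsg.Agent.Lib.Block Cfsg.Agent.Lib.Char Cfsg.Agent.Lib.CharExtra

namespace Cfsg.Agent.Lib.BPair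

attribute [local instance] subFintype

universe u

/-- Parity: a map of `p`-power order has as many fixed points as points, modulo `p`. -/
theorem card_fixed_modEq (p : ℕ) [hp : Fact p.Prime] {α : Type*} [DecidableEq α] (s : Finset α) (f : α → α)
    (hf : ∀ x ∈ s, f x ∈ s) (e : ℕ) (he : ∀ x ∈ s, f^[p ^ e] x = x) :
    s.card ≡ (s.filter fun x => f x = x).card [MOD p] := by
  classical
  let F₀ : s → s := fun x => ⟨f x, hf x x.2⟩
  have hit : ∀ (j : ℕ) (x : s), ((F₀^[j] x : s) : α) = f^[j] x := by
    intro j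
    induction j with
    | zero => intro x; rfl
    | succ j ih =>
      intro x
      rw [Function.iterate_succ_apply, Function.iterate_succ_apply, ih]
  have hid : F₀^[p ^ e] = id := by
    funext x
    apply Subtype.ext
    rw [hit]
    exact he x x.2
  have hinj : Function.Injective F₀ := by
    have h1 : (p ^ e - 1) + 1 = p ^ e := Nat.sub_add_cancel (Nat.one_le_pow _ _ hp.out.pos)
    have h2 : Function.LeftInverse F₀^[p ^ e - 1] F₀ := by
      intro x
      rw [← Function.iterate_succ_apply, Nat.succ_eq_add_one, h1, hid]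
      rfl
    exact h2.injective
  have hbij := Finite.injective_iff_bijective.mp hinj
  let F : Equiv.Perm s := Equiv.ofBijective F₀ hbij
  have hFpow : F ^ (p ^ e) = 1 := by
    apply Equiv.ext
    intro x
    rw [← Equiv.Perm.iterate_eq_pow]
    have h3 : (⇑F) = F₀ := rfl
    rw [h3, hid]
    rfl
  have hH : IsPGroup p (Subgroup.zpowers F) := by
    intro g
    refine ⟨e, ?_⟩
    obtain ⟨z, hz⟩ := Subgroup.mem_zpowers_iff.mp g.2
    apply Subtype.ext
    show (g : Equiv.Perm s) ^ (p ^ e) = 1
    rw [← hz, ← zpow_natCast, ← zpow_mul, mul_comm, zpow_mul, zpow_natCast, hFpow, one_zpow]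
  have h1 := hH.card_modEq_card_fixedPoints s
  have h2 : Nat.card (MulAction.fixedPoints (Subgroup.zpowers F) s) = (s.filter fun x => f x = x).card := by
    have h3 : (s.filter fun x => f x = x).card = Nat.card {x // x ∈ s.filter fun x => f x = x} := by
      rw [Nat.card_eq_fintype_card, Fintype.card_coe]
    rw [h3]
    refine Nat.card_congr ⟨fun x => ⟨x.1.1, Finset.mem_filter.mpr ⟨x.1.2, ?_⟩⟩,
      fun x => ⟨⟨x.1, (Finset.mem_filter.mp x.2).1⟩, ?_⟩, fun x => rfl, fun x => rfl⟩
    · have h4 := x.2 ⟨F, Subgroup.mem_zpowers F⟩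
      exact congrArg Subtype.val h4
    · rintro ⟨g, hg⟩
      obtain ⟨z, rfl⟩ := Subgroup.mem_zpowers_iff.mp hg
      have h5 : F ⟨x.1, (Finset.mem_filter.mp x.2).1⟩ = ⟨x.1, (Finset.mem_filter.mp x.2).1⟩ :=
        Subtype.ext (Finset.mem_filter.mp x.2).2
      have h6 : (F ^ z) ⟨x.1, (Finset.mem_filter.mp x.2).1⟩ = ⟨x.1, (Finset.mem_filter.mp x.2).1⟩ :=
        Equiv.Perm.zpow_apply_eq_self_of_apply_eq_self h5 z
      exact h6
  rw [h2] at h1
  rw [Nat.card_eq_fintype_card, Fintype.card_coe] at h1
  exact h1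

section Reg

variable {G : Type u} [Group G] [Fintype G] {M : Ideal AlgInt} {p : ℕ} [hp : Fact p.Prime]

/-- Blocks are determined on regular classes. -/
theorem sameBlock_of_regular (hM : IsPModular p M) {χ ψ : IrrCharacter G}
    (h : ∀ x : G, ¬ p ∣ orderOf x → MemLocalIdeal M (centralChar (χ : G → ℂ) x - centralChar (ψ : G → ℂ) x)) :
    SameBlock M (χ : G → ℂ) (ψ : G → ℂ) := by
  classical
  haveI := isPModular_isPrime hM
  haveI : Fintype (ConjClasses G) := Fintype.ofFinite _
  set B := blockOf M (χ : G → ℂ) with hB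
  have hBb : IsPBlock M B := isPBlock_blockOf χ
  have hU : IsBlockUnion M B := isBlockUnion_of_isPBlock hBb
  have hχB : χ ∈ B := mem_blockOf_self χ
  by_contra hcon
  have hψB : ψ ∉ B := hcon
  have h1 : om (χ : G → ℂ) (blockElt B) = 1 := om_blockElt_of_mem hχB
  have h2 : om (ψ : G → ℂ) (blockElt B) = 0 := om_blockElt_of_notMem hψB
  have hz := isCentralElt_blockElt B
  have hl := localCoeff_blockElt hU
  have h3 : MemLocalIdeal M (om (χ : G → ℂ) (blockElt B) - om (ψ : G → ℂ) (blockElt B)) := by
    rw [om_eq_sum_conjClasses hz (IsCharacter.isClassFunction (IsIrrCharacter.isCharacter χ.2)),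
      om_eq_sum_conjClasses hz (IsCharacter.isClassFunction (IsIrrCharacter.isCharacter ψ.2)), ← Finset.sum_sub_distrib]
    refine memLocalIdeal_sum _ _ fun c _ => ?_
    rw [← mul_sub]
    by_cases hc : p ∣ orderOf c.out
    · rw [coeff_blockElt_of_singular hM hU _ hc, zero_mul]
      exact memLocalIdeal_zero
    · exact memLocalIdeal_mul_left (hl _) (h _ hc)
  rw [h1, h2, sub_zero] at h3
  have h6 : ¬ p ∣ 1 := fun h => hp.out.one_lt.ne' (Nat.dvd_one.mp h)
  exact not_memLocalIdeal_natCast hM h6 (by simpa using h3)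

/-- A Galois conjugation acting trivially on `p`-regular elements preserves blocks. -/
theorem sameBlock_galI (hM : IsPModular p M) {k : ℕ} (hk : k.Coprime (Nat.card G))
    (hreg : ∀ x : G, ¬ p ∣ orderOf x → x ^ k = x) (χ : IrrCharacter G) :
    SameBlock M (χ : G → ℂ) (galI hk χ : G → ℂ) := by
  classical
  haveI := isPModular_isPrime hM
  refine sameBlock_of_regular hM fun x hx => ?_
  have h1 : centralChar (galI hk χ : G → ℂ) x = centralChar (χ : G → ℂ) x := by
    unfold centralChar
    rw [galI_apply, galI_apply, hreg x hx, one_pow]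
  rw [h1, sub_self]
  exact memLocalIdeal_zero

theorem mem_principal_galI (hM : IsPModular p M) {k : ℕ} (hk : k.Coprime (Nat.card G))
    (hreg : ∀ x : G, ¬ p ∣ orderOf x → x ^ k = x) {χ : IrrCharacter G} (h : χ ∈ principalBlock M G) :
    galI hk χ ∈ principalBlock M G := by
  haveI := isPModular_isPrime hM
  exact sameBlock_trans h (sameBlock_galI hM hk hreg χ)

open Classical in
/-- Number of odd degree members of the principal `2`-block is even when `G` has even order. -/
theorem even_card_odd_principal (hM : IsPModular 2 M) (hev : Even (Nat.card G)) :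
    Even ((Finset.univ.filter fun χ : IrrCharacter G => χ ∈ principalBlock M G ∧ Odd (charDegree (χ : G → ℂ))).card) := by
  classical
  haveI := isPModular_isPrime hM
  have hU : IsBlockUnion M (principalBlock M G) := isBlockUnion_of_isPBlock isPBlock_principalBlock
  have hl := localCoeff_blockElt hU 1
  rw [coeff_blockElt, blockCoeff_one_eq] at hl
  have hG : (Nat.card G : ℂ) ≠ 0 := by
    have : Nat.card G ≠ 0 := Nat.card_pos.ne'
    exact_mod_cast this
  have h2G : MemLocalIdeal M (Nat.card G : ℂ) := (memLocalIdeal_natCast_iff hM _).mpr hev.two_dvd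
  have h1 := memLocalIdeal_mul_right h2G hl
  rw [← mul_assoc, mul_inv_cancel₀ hG, one_mul, memLocalIdeal_natCast_iff hM] at h1
  unfold lamSum at h1
  rw [← Finset.sum_filter] at h1
  have h2 := even_iff_two_dvd.mpr h1
  rw [Finset.even_sum_iff_even_card_odd, Finset.filter_filter] at h2
  convert h2 using 3
  rw [Nat.odd_pow_iff (by norm_num)]

end Reg

end Cfsg.Agent.Lib.BPair
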