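import Cfsg.Agent.Lib.BPair.Corr

/-!
# The stabilizer of a block of `P C_G(P)`

For a maximal pair `(P, e)` the stabilizer of `e` has `P C_G(P)` as a subgroup of index prime to `p`.
-/

set_option autoImplicit false
set_option linter.unusedSectionVars false
set_option linter.unusedSimpArgs false
set_option linter.unusedVariables false

open scoped ComplexConjugate Pointwise
open Cfsg MonoidAlgebra
open Cfsg.Agent.Lib.Block Cfsg.Agent.Lib.Char Cfsg.Agent.Lib.CharExtra

namespace Cfsg.Agent.Lib.BPair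

attribute [local instance] subFintype

section Inertial

variable {G : Type*} [Group G] [Fintype G] {M : Ideal AlgInt} [hMp : M.IsPrime] {p : ℕ} [hp : Fact p.Prime]
  {B : Set (IrrCharacter G)} {P : Subgroup G} {e : Set (IrrCharacter (Cen P))}

theorem fnorm_self (hM : IsPModular p M) (hmax : IsMaximalBrauerPair p M B P e) : FNorm p M P ⟨P, e⟩ := by
  have hPe := (isBrauerPairOf_iff.1 hmax.1).1
  obtain ⟨x, hx, hfn⟩ := exists_conj_fnorm hM hmax .refl hPe.2
  have h1 : cj x P = P := eq_of_cj_le (chain_le hx)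
  have h2 := eq_of_chain_of_fst_eq hM hPe hx h1
  rwa [h2] at hfn

/-- A `p`-subgroup of the stabilizer of a maximal pair lies in `P C_G(P)`. -/
theorem le_sup_cen_of_pGroup (hM : IsPModular p M) (hmax : IsMaximalBrauerPair p M B P e) {R : Subgroup G}
    (hR : IsPGroup p R) (hRN : R ≤ Subgroup.normalizer (P : Set G))
    (hRs : ∀ r ∈ R, StabilizesBlock (Cen P) e r) : R ≤ P ⊔ Cen P := by
  classical
  have hPe := (isBrauerPairOf_iff.1 hmax.1).1
  obtain ⟨T, hT⟩ := exists_pairT hPe.2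
  obtain ⟨F₀, hF₀, hc₀, hdef⟩ := fnorm_self hM hmax T hT
  have hCT : Cen P ≤ T := fun c hc => (hT c).2 ⟨cen_le_normalizer P hc, stabilizes_of_mem_cen hc⟩
  have hPT : P ≤ T := fun c hc => (hT c).2 ⟨Subgroup.le_normalizer hc, stabilizes_of_mem hc⟩
  have hRT : R ≤ T := fun r hr => (hT r).2 ⟨hRN hr, hRs r hr⟩
  have hW : IsPGroup p (P ⊔ R : Subgroup G) := IsPGroup.to_sup_of_normal_left' hPe.1 hR hRN
  have hWT : P ⊔ R ≤ T := sup_le hPT hRT
  have hLT : Cen P ⊔ (P ⊔ R) ≤ T := sup_le hCT hWT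
  have hNn : ((Cen P).subgroupOf (Cen P ⊔ (P ⊔ R))).Normal := by
    refine ⟨fun n hn t => ?_⟩
    rw [Subgroup.mem_subgroupOf] at hn ⊢
    exact (Subgroup.mem_normalizer_iff.1 (normalizer_le_normalizer_cen ((hT t).1 (hLT t.2)).1) _).1 hn
  have hidx : ∃ j : ℕ, ((Cen P).subgroupOf (Cen P ⊔ (P ⊔ R))).index = p ^ j := by
    have e1 : (Cen P).subgroupOf (Cen P ⊔ (P ⊔ R)) ⊔ (P ⊔ R).subgroupOf (Cen P ⊔ (P ⊔ R)) = ⊤ := by
      rw [← Subgroup.subgroupOf_sup (le_sup_left) (le_sup_right)]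
      exact Subgroup.subgroupOf_self _
    have e2 := Subgroup.relIndex_sup_left ((P ⊔ R).subgroupOf (Cen P ⊔ (P ⊔ R))) ((Cen P).subgroupOf (Cen P ⊔ (P ⊔ R)))
    rw [e1, Subgroup.relIndex_top_right] at e2
    rw [e2]
    have h4 : Subgroup.relIndex ((Cen P).subgroupOf (Cen P ⊔ (P ⊔ R))) ((P ⊔ R).subgroupOf (Cen P ⊔ (P ⊔ R))) ∣
        Nat.card ((P ⊔ R).subgroupOf (Cen P ⊔ (P ⊔ R))) := Subgroup.relIndex_dvd_card _ _
    have h5 : Nat.card ((P ⊔ R).subgroupOf (Cen P ⊔ (P ⊔ R))) = Nat.card (P ⊔ R : Subgroup G) := by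
      rw [card_subgroupOf_of_le le_sup_right]
    rw [h5] at h4
    obtain ⟨k, hk⟩ := IsPGroup.iff_card.1 hW
    rw [hk] at h4
    obtain ⟨j, -, hj⟩ := (Nat.dvd_prime_pow hp.out).1 h4
    exact ⟨j, hj⟩
  have hD₀L : P ⊓ Subgroup.normalizer (P : Set G) ≤ Cen P ⊔ (P ⊔ R) :=
    (inf_le_left.trans le_sup_left).trans le_sup_right
  have h1 := le_sup_of_pIndex hM hmax .refl hPe.2 hT hF₀ hc₀ hdef (L := Cen P ⊔ (P ⊔ R)) le_sup_left hD₀L hLT hidx
  rw [inf_eq_left.2 (Subgroup.le_normalizer : P ≤ Subgroup.normalizer (P : Set G))] at h1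
  exact (le_sup_right.trans le_sup_right).trans h1

theorem normalizer_sup_cen {g : G} (hg : g ∈ Subgroup.normalizer (P : Set G)) :
    g ∈ Subgroup.normalizer ((P ⊔ Cen P : Subgroup G) : Set G) := by
  have hcomap : P ⊔ Cen P ≤ (P ⊔ Cen P).comap (MulAut.conj g).toMonoidHom := by
    refine sup_le ?_ ?_
    · intro v hv
      exact Subgroup.mem_sup_left ((Subgroup.mem_normalizer_iff.1 hg v).1 hv)
    · intro v hv
      exact Subgroup.mem_sup_right ((Subgroup.mem_normalizer_iff.1 (normalizer_le_normalizer_cen hg) v).1 hv)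
  have h1 : cj g (P ⊔ Cen P) ≤ P ⊔ Cen P := by
    rintro _ ⟨u, hu, rfl⟩
    exact hcomap hu
  exact mem_normalizer_of_cj_eq (eq_of_cj_le h1)

theorem stabilizes_of_mem_sup_cen {t : G} (ht : t ∈ P ⊔ Cen P) (he : IsPBlock M e) : StabilizesBlock (Cen P) e t := by
  obtain ⟨T, hT⟩ := exists_pairT he
  have hL : P ⊔ Cen P ≤ T := sup_le (fun c hc => (hT c).2 ⟨Subgroup.le_normalizer hc, stabilizes_of_mem hc⟩)
    (fun c hc => (hT c).2 ⟨cen_le_normalizer P hc, stabilizes_of_mem_cen hc⟩)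
  exact ((hT t).1 (hL ht)).2

/-- Each block of `P C_G(P)` is a block of `C_G(P)`. -/
theorem exists_block_cen (hM : IsPModular p M) (hP : IsPGroup p P) {L : Subgroup G} (hL : L = P ⊔ Cen P)
    {b : Set (IrrCharacter L)} (hb : IsPBlock M b) :
    ∃ f : Set (IrrCharacter (Cen P)), IsPBlock M f ∧ ∀ t : L, blockCoeff b t = subgroupBlockCoeff (Cen P) f (t : G) := by
  classical
  subst hL
  have hF : ∀ f : Blocks M (Cen P), ∃ F : Set (IrrCharacter (P ⊔ Cen P : Subgroup G)), IsPBlock M F ∧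
      ∀ t : (P ⊔ Cen P : Subgroup G), blockCoeff F t = subgroupBlockCoeff (Cen P) f.1 (t : G) := fun f =>
    exists_blockT hM hP f.2 le_sup_right le_sup_left
      (sup_le Subgroup.le_normalizer (cen_le_normalizer P)) (fun t ht => stabilizes_of_mem_sup_cen ht f.2)
  choose F hFb hFc using hF
  have hsum : ∑ f : Blocks M (Cen P), blockElt (F f) = (1 : MonoidAlgebra ℂ (P ⊔ Cen P : Subgroup G)) := by
    have h1 := congrArg (fun w => resAlg (P ⊔ Cen P) (incl (Cen P) w)) (sum_blockElt_eq_one (M := M) (H := Cen P))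
    simp only [map_sum, map_one] at h1
    rw [resAlg_sum, resAlg_one] at h1
    rw [← h1]
    refine Finset.sum_congr rfl fun f _ => ?_
    apply ext_coeff
    intro t
    rw [coeff_blockElt, hFc, coeff_resAlg, subgroupBlockCoeff_fun]
  obtain ⟨θ, hθ⟩ := IsPBlock_nonempty hb
  have h2 := congrArg (om (θ : (P ⊔ Cen P : Subgroup G) → ℂ)) hsum
  rw [om_sum, om_one θ.2] at h2
  obtain ⟨f, -, hf⟩ : ∃ f ∈ (Finset.univ : Finset (Blocks M (Cen P))),
      om (θ : (P ⊔ Cen P : Subgroup G) → ℂ) (blockElt (F f)) ≠ 0 := by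
    by_contra hcon
    push Not at hcon
    rw [Finset.sum_eq_zero hcon] at h2
    exact zero_ne_one h2
  have hθf : θ ∈ F f := by
    by_contra hcon
    exact hf (om_blockElt_of_notMem hcon)
  have heq := blocks_eq_or_disjoint hb (hFb f) hθ hθf
  exact ⟨f.1, f.2, fun t => by rw [heq, hFc]⟩

end Inertial

section Up

variable {G : Type*} [Group G] [Fintype G] {M : Ideal AlgInt} [hMp : M.IsPrime] {p : ℕ} [hp : Fact p.Prime]
  {L : Subgroup G} {S : Subgroup L} {B : Set (IrrCharacter G)} {b : Set (IrrCharacter L)}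

theorem om_res_res (h : Cen (up S) ≤ L) (ξ : IrrCharacter (Cen (up S))) (z : MonoidAlgebra ℂ G) :
    om (ξ : Cen (up S) → ℂ) (resAlg (Cen (up S)) z) =
      om (mapIrr (cenIso S h).symm ξ : Cen S → ℂ) (resAlg (Cen S) (resAlg L z)) := by
  rw [← om_up S h]
  congr 1
  apply ext_coeff
  intro c
  rw [coeff_resAlg, coeff_resAlg]
  have e1 := coeff_incl_coe L (resAlg L z) ⟨c, h c.2⟩
  simp only at e1
  rw [e1, coeff_resAlg]

/-- A pair of a block `b` of `L` is a pair of the induced block when its centralizer lies in `L`. -/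
theorem isBrauerPairOf_up (hM : IsPModular p M) (hind : IsInducedBlock M L b B) (h : Cen (up S) ≤ L)
    {s : Set (IrrCharacter (Cen S))} (hs : IsBrauerPairOf p M b S s) (hpg : IsPGroup p (up S)) :
    IsBrauerPairOf p M B (up S) (mapBlock (cenIso S h) s) := by
  obtain ⟨hb, hB, hc⟩ := hind
  obtain ⟨hSs, -, -⟩ := isBrauerPairOf_iff.1 hs
  refine isBrauerPairOf_iff.2 ⟨⟨hpg, isPBlock_mapBlock _ hSs.2⟩, hB, fun ξ hξ => ?_⟩
  rw [mem_mapBlock] at hξ
  obtain ⟨θ, hθ⟩ := IsPBlock_nonempty hb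
  obtain ⟨χ, hχ⟩ := IsPBlock_nonempty hB
  rw [om_res_res h]
  have hBc := isCentralElt_blockElt B
  have hBl : LocalCoeff M (blockElt B) := localCoeff_blockElt (isBlockUnion_of_isPBlock hB)
  have h1 := om_resAlg_congr hM hs hξ hθ (isCentralElt_resAlg L hBc) (localCoeff_resAlg _ hBl)
  have h2 := memLocalIdeal_om_resAlg_sub L (ξ := (θ : L → ℂ)) (χ := (χ : G → ℂ))
    (IsCharacter.isClassFunction (IsIrrCharacter.isCharacter χ.2)) (hc θ hθ χ hχ) hBc hBl
  rw [om_blockElt_of_mem hχ] at h2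
  have h3 := memLocalIdeal_add h1 h2
  convert h3 using 1
  ring

/-- A variant of `isMaximal_up_of_normalizer`. -/
theorem isMaximal_up_of_le (hM : IsPModular p M) (h : Cen (up S) ≤ L)
    {s : Set (IrrCharacter (Cen S))} (hmax : IsMaximalBrauerPair p M b S s)
    (hpair : IsBrauerPairOf p M B (up S) (mapBlock (cenIso S h) s))
    (hle : ∀ R : Subgroup G, IsPGroup p R → R ≤ Subgroup.normalizer ((up S : Subgroup G) : Set G) →
      (∀ r ∈ R, StabilizesBlock (Cen (up S)) (mapBlock (cenIso S h) s) r) → R ≤ L) :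
    IsMaximalBrauerPair p M B (up S) (mapBlock (cenIso S h) s) := by
  have main : ∀ (R₀ : Subgroup G) (g₀ : Set (IrrCharacter (Cen R₀))), up S < R₀ → R₀ ≤ L →
      IsNormalSubpair p M (up S) (mapBlock (cenIso S h) s) R₀ g₀ → False := by
    intro R₀ g₀ hlt hR₀L hn
    obtain ⟨R₁, rfl⟩ : ∃ R₁ : Subgroup L, up R₁ = R₀ := ⟨R₀.subgroupOf L, Subgroup.map_subgroupOf_eq_of_le hR₀L⟩
    have hC : Cen (up R₁) ≤ L := (cen_le_cen hlt.le).trans h
    have hn' := isNormalSubpair_down h hC hn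
    have hpairR := isBrauerPairOf_of_normal_up hM hn' hmax.1
    have heq := hmax.2 _ _ hpairR (Relation.ReflTransGen.single hn')
    rw [heq] at hlt
    exact lt_irrefl _ hlt
  refine ⟨hpair, fun R g hRg hle' => ?_⟩
  by_contra hne
  have hSR : up S ≤ R := le_of_subpairLE hle'
  have hlt : up S < R := lt_of_le_of_ne hSR (Ne.symm hne)
  have hRg' := (isBrauerPairOf_iff.1 hRg).1
  have hQR := lt_inf_normalizer hRg'.1 hlt
  obtain ⟨g₀, ⟨hg₀, hg₀le⟩, -⟩ := existsUnique_subpair hM hRg'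
    (inf_le_left : R ⊓ Subgroup.normalizer ((up S : Subgroup G) : Set G) ≤ R)
  have hn := isNormalSubpair_of_le hM hRg' hle' hg₀le hQR.le inf_le_right
  obtain ⟨-, -, -, -, hst, -⟩ := isNormalSubpair_iff.1 hn
  exact main _ g₀ hQR (hle _ (hRg'.1.to_le inf_le_left) inf_le_right hst) hn

end Up

section Stab

variable {G : Type*} [Group G] [Fintype G] {M : Ideal AlgInt} [hMp : M.IsPrime] {p : ℕ} [hp : Fact p.Prime]
  {L : Subgroup G} {P : Subgroup G} {b : Set (IrrCharacter L)} {e : Set (IrrCharacter (Cen P))}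

/-- `g` stabilizes `b` in the sense of the statement iff it stabilizes `e`. -/
theorem stab_iff_of_coeff (hb : IsPBlock M b) (he : IsPBlock M e)
    (hcoeff : ∀ t : L, blockCoeff b t = subgroupBlockCoeff (Cen P) e (t : G)) (hCL : Cen P ≤ L) {g : G}
    (hgN : g ∈ Subgroup.normalizer ((Cen P : Subgroup G) : Set G)) (hgL : g ∈ Subgroup.normalizer (L : Set G)) :
    (∀ θ ∈ b, ∀ θ' : IrrCharacter L, (∀ h h' : L, (h' : G) = g * h * g⁻¹ → (θ' : L → ℂ) h' = (θ : L → ℂ) h) → θ' ∈ b) ↔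
      StabilizesBlock (Cen P) e g := by
  classical
  have hsupp : ∀ x : G, x ∉ L → subgroupBlockCoeff (Cen P) e x = 0 := by
    intro x hx
    unfold subgroupBlockCoeff
    simp [show x ∉ Cen P from fun h => hx (hCL h)]
  constructor
  · intro h
    have hmap : mapBlock (nConj hgL) b = b := by
      obtain ⟨θ, hθ⟩ := IsPBlock_nonempty hb
      have h1 : mapIrr (nConj hgL) θ ∈ b := h θ hθ _ (fun k k' hk => isConjCharOf_mapIrr hgL θ k k' hk)
      exact blocks_eq_or_disjoint (isPBlock_mapBlock _ hb) hb ⟨θ, hθ, rfl⟩ h1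
    have hinvE : ∀ c : Cen P, blockCoeff e (nConj hgN c) = blockCoeff e c := by
      intro c
      have hcL : (c : G) ∈ L := hCL c.2
      have h2 := blockCoeff_mapBlock (nConj hgL) b ⟨c, hcL⟩
      rw [hmap] at h2
      have e1 : ((nConj hgL ⟨c, hcL⟩ : L) : G) = ((nConj hgN c : Cen P) : G) := rfl
      rw [hcoeff, hcoeff, e1] at h2
      have e2 : ∀ c₁ : Cen P, subgroupBlockCoeff (Cen P) e (c₁ : G) = blockCoeff e c₁ := by
        intro c₁
        unfold subgroupBlockCoeff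
        simp
      rw [e2, show ((⟨c, hcL⟩ : L) : G) = ((c : Cen P) : G) from rfl, e2] at h2
      exact h2
    refine (stabilizes_iff he).2 ⟨hgN, eq_of_blockCoeff_eq fun t => ?_⟩
    have h3 := blockCoeff_mapBlock (nConj hgN) e ((nConj hgN).symm t)
    rw [MulEquiv.apply_symm_apply] at h3
    rw [h3]
    have h4 := hinvE ((nConj hgN).symm t)
    rw [MulEquiv.apply_symm_apply] at h4
    exact h4.symm
  · intro hs θ hθ θ' hθ'
    obtain ⟨hx', hmap⟩ := (stabilizes_iff he).1 hs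
    have hθ'' : θ' = mapIrr (nConj hgL) θ := eq_mapIrr_of_isConjCharOf hgL hθ'
    rw [hθ'']
    have hmapb : mapBlock (nConj hgL) b = b := by
      apply eq_of_blockCoeff_eq
      intro t
      have h3 := blockCoeff_mapBlock (nConj hgL) b ((nConj hgL).symm t)
      rw [MulEquiv.apply_symm_apply] at h3
      rw [h3, hcoeff, hcoeff, subgroupBlockCoeff_fun]
      have h5 := isInvBy_incl_of_stable hx' hmap (((nConj hgL).symm t : L) : G)
      have e3 : g * (((nConj hgL).symm t : L) : G) * g⁻¹ = (t : G) := by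
        show g * (g⁻¹ * (t : G) * g) * g⁻¹ = t
        group
      rw [e3] at h5
      exact h5.symm
    rw [← hmapb]
    exact ⟨θ, hθ, rfl⟩

end Stab

/-- **The stabilizer criterion for a defect group.** -/
theorem defect_iff_stabilizer {G : Type*} [Group G] [Fintype G] (p : ℕ) [Fact p.Prime] (M : Ideal Cfsg.AlgInt) (hM : Cfsg.IsPModular p M) (P : Subgroup G) (hP : IsPGroup p P) (H : Subgroup G) (hH : H = P ⊔ Subgroup.centralizer (P : Set G)) (b : Set (Cfsg.IrrCharacter H)) (hb : Cfsg.IsPBlock M b) (hbP : Cfsg.IsDefectGroup p M b (P.subgroupOf H)) (B : Set (Cfsg.IrrCharacter G)) (hind : Cfsg.IsInducedBlock M H b B) (T : Subgroup G) (hT : ∀ g : G, g ∈ T ↔ (g ∈ Subgroup.normalizer (P : Set G) ∧ ∀ θ ∈ b, ∀ θ' : Cfsg.IrrCharacter H, (∀ h h' : H, (h' : G) = g * h * g⁻¹ → (θ' : H → ℂ) h' = (θ : H → ℂ) h) → θ' ∈ b)) : Cfsg.IsDefectGroup p M B P ↔ ¬ p ∣ H.relIndex T := by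
  classical
  haveI : M.IsPrime := hM.2.1.isPrime
  have hPH : P ≤ H := hH ▸ le_sup_left
  have hCH : Subgroup.centralizer (P : Set G) ≤ H := hH ▸ le_sup_right
  obtain ⟨f, hf, hcoeff⟩ := exists_block_cen hM hP hH hb
  have hbE : incl H (blockElt b) = Ee P f := by
    apply ext_coeff
    intro t
    unfold Ee
    by_cases ht : t ∈ H
    · have e1 := coeff_incl_coe H (blockElt b) ⟨t, ht⟩
      simp only at e1
      rw [e1, coeff_blockElt, hcoeff, subgroupBlockCoeff_fun]
    · rw [coeff_incl_of_notMem _ _ ht, coeff_incl_of_notMem _ _ (fun h => ht (hCH h))]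
  have hstab : ∀ g : G, g ∈ Subgroup.normalizer (P : Set G) →
      ((∀ θ ∈ b, ∀ θ' : Cfsg.IrrCharacter H, (∀ h h' : H, (h' : G) = g * h * g⁻¹ → (θ' : H → ℂ) h' = (θ : H → ℂ) h) → θ' ∈ b) ↔
        Cfsg.StabilizesBlock (Subgroup.centralizer (P : Set G)) f g) := by
    intro g hg
    refine stab_iff_of_coeff hb hf hcoeff hCH (normalizer_le_normalizer_cen hg) ?_
    rw [hH]
    exact normalizer_sup_cen hg
  obtain ⟨S, rfl⟩ : ∃ S : Subgroup H, up S = P := ⟨P.subgroupOf H, Subgroup.map_subgroupOf_eq_of_le hPH⟩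
  have hsub : (up S).subgroupOf H = S := Subgroup.comap_map_eq_self_of_injective (Subgroup.subtype_injective H) S
  rw [hsub] at hbP
  have hn := isNormalSubpair_self (⟨hP, hf⟩ : IsBrauerPair p M (up S) f)
  have hpairL := isBrauerPairOf_down hb hbE hCH hn
  have hmaxL := isMaximal_of_defect hM hbP hpairL
  have hpairG0 := isBrauerPairOf_up hM hind hCH hpairL hP
  rw [mapBlock_mapBlock_symm] at hpairG0
  constructor
  · intro hD
    have hmax := isMaximal_of_defect hM hD hpairG0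
    obtain ⟨W⟩ : Nonempty (Sylow p T) := inferInstance
    have hle : (W : Subgroup T).map T.subtype ≤ up S ⊔ Cen (up S) := by
      refine le_sup_cen_of_pGroup hM hmax (W.isPGroup'.map _) ?_ ?_
      · rintro _ ⟨t, -, rfl⟩
        exact ((hT t).1 t.2).1
      · rintro _ ⟨t, -, rfl⟩
        exact (hstab _ ((hT t).1 t.2).1).1 ((hT t).1 t.2).2
    have hW : (W : Subgroup T) ≤ H.subgroupOf T := by
      intro t ht
      rw [Subgroup.mem_subgroupOf, hH]
      exact hle ⟨t, ht, rfl⟩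
    have h1 : (H.subgroupOf T).index ∣ (W : Subgroup T).index := Subgroup.index_dvd_of_le hW
    intro hdvd
    exact W.not_dvd_index (hdvd.trans h1)
  · intro hidx
    haveI hnorm : (H.subgroupOf T).Normal := by
      refine ⟨fun n hn t => ?_⟩
      rw [Subgroup.mem_subgroupOf] at hn ⊢
      have h1 : ((t : T) : G) ∈ Subgroup.normalizer ((H : Subgroup G) : Set G) := by
        rw [hH]
        exact normalizer_sup_cen ((hT t).1 t.2).1
      exact (Subgroup.mem_normalizer_iff.1 h1 _).1 hn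
    have hmax : IsMaximalBrauerPair p M B (up S) f := by
      have h2 : IsMaximalBrauerPair p M B (up S) (mapBlock (cenIso S hCH) (mapBlock (cenIso S hCH).symm f)) := by
        refine isMaximal_up_of_le hM hCH hmaxL (by rwa [mapBlock_mapBlock_symm]) ?_
        rw [mapBlock_mapBlock_symm]
        intro R hR hRN hRs r hr
        have hrT : r ∈ T := (hT r).2 ⟨hRN hr, (hstab r (hRN hr)).2 (hRs r hr)⟩
        have h3 : (⟨r, hrT⟩ : T) ^ (H.subgroupOf T).index ∈ H.subgroupOf T := Subgroup.pow_index_mem _ _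
        rw [Subgroup.mem_subgroupOf] at h3
        have h4 : r ^ (H.subgroupOf T).index ∈ H := h3
        obtain ⟨k, hk⟩ := hR ⟨r, hr⟩
        have hk' : r ^ p ^ k = 1 := congrArg Subtype.val hk
        have hcop : Nat.Coprime (H.subgroupOf T).index (p ^ k) :=
          Nat.Coprime.pow_right _ ((Nat.Prime.coprime_iff_not_dvd (Fact.out)).2 hidx).symm
        have h5 : r ∈ Subgroup.zpowers (r ^ (H.subgroupOf T).index) := by
          obtain ⟨a, b', hab⟩ := Nat.isCoprime_iff_coprime.2 hcop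
          refine Subgroup.mem_zpowers_iff.2 ⟨a, ?_⟩
          have e1 : r = r ^ (a * ((H.subgroupOf T).index : ℤ) + b' * ((p ^ k : ℕ) : ℤ)) := by
            rw [hab, zpow_one]
          have e2 : r ^ (b' * ((p ^ k : ℕ) : ℤ)) = 1 := by
            rw [mul_comm, zpow_mul, zpow_natCast, hk', one_zpow]
          rw [zpow_add, e2, mul_one, mul_comm, zpow_mul, zpow_natCast] at e1
          exact e1.symm
        have h6 : Subgroup.zpowers (r ^ (H.subgroupOf T).index) ≤ H := by
          rw [Subgroup.zpowers_le]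
          exact h4
        exact h6 h5
      rwa [mapBlock_mapBlock_symm] at h2
    exact isDefectGroup_of_max hM hmax

end Cfsg.Agent.Lib.BPair
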