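import Cfsg.Agent.Lib.BPair.MajorW

/-!
# The averaged diagonal of the matrix of a major `2`-subsection
-/

set_option autoImplicit false
set_option linter.unusedSectionVars false
set_option linter.style.haveILetI false
set_option linter.unusedSimpArgs false
set_option linter.unnecessarySimpa false
set_option linter.unusedVariables false

open scoped ComplexConjugate
open Module

namespace Cfsg.Agent.Lib.BPair

open Cfsg Cfsg.Agent.Lib.Char Cfsg.Agent.Lib.Block Cfsg.Agent.Lib.Core Cfsg.Agent.Lib.CharExtra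

attribute [local instance] subFintype

section Abstract

variable {K : Type} [Field K] [NumberField K] {I : Type*} [Fintype I] {n : ℕ} {c : Gal(K/ℚ)} {a : I → I → K} {P l : ℕ}

theorem ProjMat.tt_pos (h : ProjMat n c a P l) {χ ψ : I} (hne : a χ ψ ≠ 0) (τ : K →ₐ[ℚ] ℂ) : 0 < tt a τ χ := by
  have h1 := h.row_real τ χ
  have h2 : Complex.normSq (τ (a χ ψ)) ≤ ∑ ψ', Complex.normSq (τ (a χ ψ')) :=
    Finset.single_le_sum (f := fun ψ' => Complex.normSq (τ (a χ ψ'))) (fun _ _ => Complex.normSq_nonneg _) (Finset.mem_univ ψ)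
  have h3 : 0 < Complex.normSq (τ (a χ ψ)) := Complex.normSq_pos.2 ((map_ne_zero τ).2 hne)
  rw [h1] at h2
  have hP : (0 : ℝ) < P := by exact_mod_cast h.pos
  have h4 : 0 < (P : ℝ) * tt a τ χ := lt_of_lt_of_le h3 h2
  exact (mul_pos_iff_of_pos_left hP).1 h4

theorem ProjMat.av_pos (h : ProjMat n c a P l) {χ ψ : I} (hne : a χ ψ ≠ 0) : 0 < av a χ := by
  have : Nonempty (K →ₐ[ℚ] ℂ) := ⟨IsAlgClosed.lift⟩
  unfold av
  refine div_pos (Finset.sum_pos (fun τ _ => h.tt_pos hne τ) Finset.univ_nonempty) card_emb_pos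

end Abstract

section Facts

variable {G : Type*} [Group G] [Fintype G] {p : ℕ} [hp : Fact p.Prime] {M : Ideal AlgInt}
  {u : G} {e : Set (IrrCharacter (Subgroup.centralizer ({u} : Set G)))} {B : Set (IrrCharacter G)}

theorem isIntegral_secF (χ : IrrCharacter G) (s : Subgroup.centralizer ({u} : Set G)) :
    IsIntegral ℤ (secF p u e (χ : G → ℂ) s) := by
  classical
  rw [secF_eq_sum, Finset.sum_apply]
  refine IsIntegral.sum _ fun ξ _ => ?_
  split_ifs
  · rw [Pi.smul_apply, smul_eq_mul]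
    refine (isIntegral_aa χ ξ).mul ?_
    by_cases hs : p ∣ orderOf s
    · rw [pRegularPart_of_sing hs]
      exact isIntegral_zero
    · rw [pRegularPart_of_reg hs]
      exact IsCharacter.isIntegral' (IsIrrCharacter.isCharacter ξ.2) s
  · exact isIntegral_zero

variable [Fintype (G ⧸ Subgroup.centralizer ({u} : Set G))]

theorem yyy_secF (hq : blockDefect p e = blockDefect p B) (χ ψ : IrrCharacter G) :
    yyy p u e B (secF p u e (χ : G → ℂ)) ψ = alpha p u e ψ χ / (p : ℂ) ^ blockHeight p B (ψ : G → ℂ) := by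
  unfold yyy alpha
  rw [map_mul, map_pow, Complex.conj_natCast, conj_classInner, hq]

end Facts

section Facts2

variable {G : Type*} [Group G] [Fintype G] {p : ℕ} [hp : Fact p.Prime] {M : Ideal AlgInt}
  {u : G} {e : Set (IrrCharacter (Subgroup.centralizer ({u} : Set G)))} {B : Set (IrrCharacter G)}

/-- `α ψ χ` is divisible by `p ^ h ψ`. -/
theorem isIntegral_alpha_div (hM : IsPModular p M) (he : IsPBlock M e) (hq : blockDefect p e = blockDefect p B)
    (χ : IrrCharacter G) {ψ : IrrCharacter G} (hψ : ψ ∈ B) :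
    IsIntegral ℤ (alpha p u e ψ χ / (p : ℂ) ^ blockHeight p B (ψ : G → ℂ)) := by
  classical
  have := isPModular_isPrime hM
  haveI : Fintype (G ⧸ Subgroup.centralizer ({u} : Set G)) := Fintype.ofFinite _
  rw [← yyy_secF hq]
  refine isIntegral_yyy hM he (secF_mem hM he _) (fun s => isIntegral_secF χ s) hψ ?_
  have := isIntegral_alpha (p := p) e (IsPBlock_nonempty he) χ ψ
  unfold alpha at this
  rwa [hq] at this

/-- The entries of a row of height zero have exact valuation. -/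
theorem not_mem_alpha_div (hM : IsPModular p M) (hu : ∃ k, orderOf u = p ^ k)
    (hind : IsInducedBlock M (Subgroup.centralizer ({u} : Set G)) e B) (hq : blockDefect p e = blockDefect p B)
    {χ₀ ψ : IrrCharacter G} (hχ₀ : χ₀ ∈ B) (h0 : blockHeight p B (χ₀ : G → ℂ) = 0) (hψ : ψ ∈ B) :
    ¬ MemLocalIdeal M (alpha p u e ψ χ₀ / (p : ℂ) ^ blockHeight p B (ψ : G → ℂ)) := by
  classical
  have := isPModular_isPrime hM
  haveI : Fintype (G ⧸ Subgroup.centralizer ({u} : Set G)) := Fintype.ofFinite _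
  have he := hind.1
  intro hmem
  have hw := secF_mem hM he (p := p) (u := u) (χ₀ : G → ℂ)
  have hwi : ∀ s, IsIntegral ℤ (secF p u e (χ₀ : G → ℂ) s) := fun s => isIntegral_secF χ₀ s
  have hl : ∀ φ ∈ B, MemLocalRing M (yyy p u e B (secF p u e (χ₀ : G → ℂ)) φ) := fun φ hφ => by
    rw [yyy_secF hq]
    exact memLocalRing_of_isIntegral (isIntegral_alpha_div hM he hq χ₀ hφ)
  rw [← yyy_secF hq] at hmem
  have h2 := memLocalIdeal_yyy_congr hM he hind.2.1 hw hwi hψ hχ₀ (hl ψ hψ) (hl χ₀ hχ₀) hmem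
  rw [yyy_secF hq, h0, pow_zero, div_one] at h2
  exact not_memLocalIdeal_alpha hM hu hind hχ₀ h0 hχ₀ h0 h2

/-- The diagonal entries of positive height are divisible by more than `p ^ h`. -/
theorem mem_alpha_div_self (hM : IsPModular p M) (hu : ∃ k, orderOf u = p ^ k)
    (hind : IsInducedBlock M (Subgroup.centralizer ({u} : Set G)) e B) (hq : blockDefect p e = blockDefect p B)
    {χ χ₀ : IrrCharacter G} (hχ : χ ∈ B) (hh : blockHeight p B (χ : G → ℂ) ≠ 0) (hχ₀ : χ₀ ∈ B)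
    (h0 : blockHeight p B (χ₀ : G → ℂ) = 0) :
    MemLocalIdeal M (alpha p u e χ χ / (p : ℂ) ^ blockHeight p B (χ : G → ℂ)) := by
  classical
  have := isPModular_isPrime hM
  haveI : Fintype (G ⧸ Subgroup.centralizer ({u} : Set G)) := Fintype.ofFinite _
  have he := hind.1
  have hw := secF_mem hM he (p := p) (u := u) (χ : G → ℂ)
  have hwi : ∀ s, IsIntegral ℤ (secF p u e (χ : G → ℂ) s) := fun s => isIntegral_secF χ s
  have hl : ∀ φ ∈ B, MemLocalRing M (yyy p u e B (secF p u e (χ : G → ℂ)) φ) := fun φ hφ => by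
    rw [yyy_secF hq]
    exact memLocalRing_of_isIntegral (isIntegral_alpha_div hM he hq χ hφ)
  have hstart : MemLocalIdeal M (yyy p u e B (secF p u e (χ : G → ℂ)) χ₀) := by
    rw [yyy_secF hq, h0, pow_zero, div_one]
    -- `α χ₀ χ` is the conjugate of `α χ χ₀`, which is divisible by `p`
    have h1 := isIntegral_alpha_div hM he hq χ₀ hχ
    have hp0 : (p : ℂ) ^ blockHeight p B (χ : G → ℂ) ≠ 0 := pow_ne_zero _ (by exact_mod_cast hp.out.ne_zero)
    have h2 : alpha p u e χ₀ χ = (p : ℂ) ^ blockHeight p B (χ : G → ℂ) *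
        conj (alpha p u e χ χ₀ / (p : ℂ) ^ blockHeight p B (χ : G → ℂ)) := by
      rw [map_div₀, map_pow, Complex.conj_natCast, conj_alpha, mul_div_cancel₀ _ hp0]
    rw [h2]
    refine memLocalIdeal_mul_right ?_ (memLocalRing_of_isIntegral (isIntegral_conj' h1))
    obtain ⟨t, ht⟩ : ∃ t, blockHeight p B (χ : G → ℂ) = t + 1 := ⟨_, (Nat.succ_pred_eq_of_ne_zero hh).symm⟩
    rw [ht, pow_succ]
    exact memLocalIdeal_mul_left (memLocalRing_pow (memLocalRing_natCast _) _) (memLocalIdeal_p hM)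
  have h3 := memLocalIdeal_yyy_congr hM he hind.2.1 hw hwi hχ₀ hχ (hl χ₀ hχ₀) (hl χ hχ) hstart
  rwa [yyy_secF hq] at h3

end Facts2

section Major

variable {G : Type*} [Group G] [Fintype G] {M : Ideal AlgInt}
  {u : G} {e : Set (IrrCharacter (Subgroup.centralizer ({u} : Set G)))} {B : Set (IrrCharacter G)}

open Classical in
/-- **The main properties of the averaged diagonal.** -/
theorem major_facts (hM : IsPModular 2 M) (hu : ∃ k, orderOf u = 2 ^ k)
    (hind : IsInducedBlock M (Subgroup.centralizer ({u} : Set G)) e B) (hq : blockDefect 2 e = blockDefect 2 B) :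
    ∃ A : IrrCharacter G → ℝ,
      (∀ χ₀ ∈ B, blockHeight 2 B (χ₀ : G → ℂ) = 0 →
        ∑ ψ ∈ Finset.univ.filter (· ∈ B), (4 : ℝ) ^ blockHeight 2 B (ψ : G → ℂ) ≤ (2 : ℝ) ^ blockDefect 2 B * A χ₀) ∧
      (∀ χ ∈ B, blockHeight 2 B (χ : G → ℂ) = 0 → ∃ m : ℕ, Odd m ∧ A χ = m) ∧
      (∀ χ ∈ B, blockHeight 2 B (χ : G → ℂ) ≠ 0 → ∃ m : ℕ, Even m ∧ 0 < m ∧ A χ = (2 : ℝ) ^ blockHeight 2 B (χ : G → ℂ) * m) ∧
      ∑ χ ∈ Finset.univ.filter (· ∈ B), A χ = (2 : ℝ) ^ blockDefect 2 B * (blockRank 2 e : ℝ) ∧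
      (∀ χ₀ ∈ B, blockHeight 2 B (χ₀ : G → ℂ) = 0 →
        ∑ ψ ∈ (Finset.univ.filter (· ∈ B)).erase χ₀, (4 : ℝ) ^ blockHeight 2 B (ψ : G → ℂ) ≤ A χ₀ * ((2 : ℝ) ^ blockDefect 2 B - A χ₀)) ∧
      (∀ χ ∈ B, blockHeight 2 B (χ : G → ℂ) ≠ 0 → 1 ≤ A χ * ((2 : ℝ) ^ blockDefect 2 B - A χ)) := by
  have := isPModular_isPrime hM
  obtain ⟨k, hk⟩ := hu
  have he := hind.1
  have hne := IsPBlock_nonempty he
  have hBb := hind.2.1
  haveI : NeZero (2 ^ (k + 2)) := ⟨by positivity⟩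
  have hN : u ^ 2 ^ (k + 2) = 1 := by
    rw [pow_add, pow_mul, ← hk, pow_orderOf_eq_one, one_pow]
  obtain ⟨c, a, hcc, hP, hα⟩ := exists_projMat (p := 2) hN hM ⟨k, hk⟩ he
  haveI : NumberField (CyclotomicField (2 ^ (k + 2)) ℚ) := IsCyclotomicExtension.numberField {2 ^ (k + 2)} ℚ _
  have hinj : Function.Injective (cycEmb (2 ^ (k + 2))) := (cycEmb (2 ^ (k + 2))).toRingHom.injective
  have hint' : ∀ x : CyclotomicField (2 ^ (k + 2)) ℚ, IsIntegral ℤ (cycEmb (2 ^ (k + 2)) x) → IsIntegral ℤ x := fun x h1 =>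
    (isIntegral_algHom_iff ((cycEmb (2 ^ (k + 2))).restrictScalars ℤ) hinj).1 h1
  have hint : ∀ χ ψ, IsIntegral ℤ (a χ ψ) := fun χ ψ => hint' _ (by
    rw [hα]
    exact isIntegral_alpha (p := 2) e hne χ ψ)
  have hc2 : ((2 : ℕ) : ℂ) = 2 := by norm_num
  -- the division
  have hemb2 : ∀ (x : CyclotomicField (2 ^ (k + 2)) ℚ) (w : ℕ), cycEmb (2 ^ (k + 2)) (x / 2 ^ w) =
      cycEmb (2 ^ (k + 2)) x / (2 : ℂ) ^ w := fun x w => by
    rw [map_div₀, map_pow, map_ofNat]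
  have hdiv : ∀ (x : CyclotomicField (2 ^ (k + 2)) ℚ) (w : ℕ), x = (2 : CyclotomicField (2 ^ (k + 2)) ℚ) ^ w * (x / 2 ^ w) := fun x w => by
    have : (2 : CyclotomicField (2 ^ (k + 2)) ℚ) ^ w ≠ 0 := pow_ne_zero _ two_ne_zero
    field_simp
  obtain ⟨χ₀, hχ₀, hχ₀h⟩ : ∃ χ₀ ∈ B, blockHeight 2 B (χ₀ : G → ℂ) = 0 := by
    obtain ⟨χ₀, hχ₀, he₀⟩ := exists_height_zero (p := 2) (IsPBlock_nonempty hBb)
    refine ⟨χ₀, hχ₀, ?_⟩
    unfold blockHeight
    rw [he₀]
    exact Nat.sub_self _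
  -- off-diagonal entries in a row of height zero
  have hrow : ∀ χ ∈ B, blockHeight 2 B (χ : G → ℂ) = 0 → ∀ ψ ∈ B,
      a χ ψ = (2 : CyclotomicField (2 ^ (k + 2)) ℚ) ^ blockHeight 2 B (ψ : G → ℂ) * (a χ ψ / 2 ^ blockHeight 2 B (ψ : G → ℂ)) ∧
      a χ ψ / 2 ^ blockHeight 2 B (ψ : G → ℂ) ≠ 0 ∧ IsIntegral ℤ (a χ ψ / 2 ^ blockHeight 2 B (ψ : G → ℂ)) := by
    intro χ hχ h0 ψ hψ
    have h1 := not_mem_alpha_div hM ⟨k, hk⟩ hind hq hχ h0 hψ
    have h2 := isIntegral_alpha_div hM he hq χ hψ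
    rw [hc2] at h1 h2
    have h3 : cycEmb (2 ^ (k + 2)) (a χ ψ / 2 ^ blockHeight 2 B (ψ : G → ℂ)) =
        conj (alpha 2 u e ψ χ / (2 : ℂ) ^ blockHeight 2 B (ψ : G → ℂ)) := by
      rw [hemb2, hα, map_div₀, map_pow, map_ofNat, conj_alpha]
    refine ⟨hdiv _ _, ?_, hint' _ ?_⟩
    · intro h0'
      rw [h0', map_zero] at h3
      have h4 : alpha 2 u e ψ χ / (2 : ℂ) ^ blockHeight 2 B (ψ : G → ℂ) = 0 := by
        have := congrArg conj h3
        simpa using this.symm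
      apply h1
      rw [h4]
      exact memLocalIdeal_zero
    · rw [h3]
      exact isIntegral_conj' h2
  have hne0 : ∀ χ ∈ B, a χ₀ χ ≠ 0 := fun χ hχ h0 => by
    have h1 := (hrow χ₀ hχ₀ hχ₀h χ hχ).2.1
    apply h1
    rw [h0, zero_div]
  have hne1 : ∀ χ ∈ B, a χ χ₀ ≠ 0 := fun χ hχ h0 => by
    apply hne0 χ hχ
    rw [← hP.herm χ χ₀, h0, map_zero]
  have hq2 : (((2 ^ blockDefect 2 e : ℕ) : ℝ)) = (2 : ℝ) ^ blockDefect 2 B := by
    rw [hq]
    push_cast
    rfl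
  refine ⟨av a, ?_, ?_, ?_, ?_, ?_, ?_⟩
  · intro χ hχ h0
    have h1 := hP.sum_pow_le χ (Finset.univ.filter (· ∈ B)) (fun ψ => a χ ψ / 2 ^ blockHeight 2 B (ψ : G → ℂ))
      (fun ψ => blockHeight 2 B (ψ : G → ℂ)) (fun ψ hψ => hrow χ hχ h0 ψ (by simpa using hψ))
    rwa [hq2] at h1
  · intro χ hχ h0
    obtain ⟨z, hz1, hz2⟩ := hP.av_eq_int k hcc (χ := χ) (w := 0) (x := a χ χ) (by simp) (hint χ χ) hM (cycEmb _)
    rw [pow_zero, one_mul] at hz1
    rw [hα] at hz2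
    have hznn : 0 ≤ z := by
      have h1 := hP.av_nonneg χ
      rw [hz1] at h1
      exact_mod_cast h1
    obtain ⟨m, rfl⟩ := Int.eq_ofNat_of_zero_le hznn
    refine ⟨m, ?_, by simpa using hz1⟩
    by_contra hodd
    rw [Nat.not_odd_iff_even] at hodd
    have h2 : MemLocalIdeal M ((m : ℤ) : ℂ) := by
      rw [memLocalIdeal_intCast_iff hM]
      exact_mod_cast hodd.two_dvd
    have h3 := memLocalIdeal_add hz2 h2
    rw [sub_add_cancel] at h3
    exact not_memLocalIdeal_alpha hM ⟨k, hk⟩ hind hχ h0 hχ h0 h3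
  · intro χ hχ hh
    have hxi : IsIntegral ℤ (a χ χ / 2 ^ blockHeight 2 B (χ : G → ℂ)) := hint' _ (by
      rw [hemb2, hα]
      have := isIntegral_alpha_div hM he hq χ hχ
      rwa [hc2] at this)
    obtain ⟨z, hz1, hz2⟩ := hP.av_eq_int k hcc (χ := χ) (w := blockHeight 2 B (χ : G → ℂ)) (x := a χ χ / 2 ^ blockHeight 2 B (χ : G → ℂ))
      (hdiv _ _) hxi hM (cycEmb _)
    have hpos := hP.av_pos (hne1 χ hχ)
    have hzpos : 0 < z := by
      rw [hz1] at hpos
      have h2 : (0 : ℝ) < (2 : ℝ) ^ blockHeight 2 B (χ : G → ℂ) := by positivity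
      have h3 : (0 : ℝ) < (z : ℝ) := (mul_pos_iff_of_pos_left h2).1 hpos
      exact_mod_cast h3
    obtain ⟨m, rfl⟩ := Int.eq_ofNat_of_zero_le hzpos.le
    refine ⟨m, ?_, by exact_mod_cast hzpos, by simpa using hz1⟩
    have h2 := mem_alpha_div_self hM ⟨k, hk⟩ hind hq hχ hh hχ₀ hχ₀h
    rw [hc2] at h2
    rw [hemb2, hα] at hz2
    have h3 := memLocalIdeal_sub h2 hz2
    rw [sub_sub_cancel] at h3
    have h4 := (memLocalIdeal_intCast_iff hM _).1 h3
    have h5 : (2 : ℕ) ∣ m := by exact_mod_cast h4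
    exact (even_iff_two_dvd).2 h5
  · have h1 := hP.sum_av
    rw [hq2] at h1
    rw [← h1]
    refine Finset.sum_subset (Finset.subset_univ _) fun χ _ hχ => ?_
    have hχ' : χ ∉ B := by simpa using hχ
    have h2 : a χ χ = 0 := by
      apply hinj
      rw [hα, map_zero]
      unfold alpha
      rw [secF_eq_zero_of_notMem hM ⟨k, hk⟩ hind hχ', classInner_def]
      simp
    unfold av tt
    simp [h2]
  · intro χ hχ h0
    have h1 := hP.sum_pow_le_mul χ ((Finset.univ.filter (· ∈ B)).erase χ) (Finset.notMem_erase _ _)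
      (fun ψ => a χ ψ / 2 ^ blockHeight 2 B (ψ : G → ℂ))
      (fun ψ => blockHeight 2 B (ψ : G → ℂ)) (fun ψ hψ => hrow χ hχ h0 ψ (by
        have := Finset.mem_of_mem_erase hψ
        simpa using this))
    rwa [hq2] at h1
  · intro χ hχ hh
    have hχne : χ₀ ≠ χ := by
      rintro rfl
      exact hh hχ₀h
    have h1 := hP.sum_pow_le_mul χ {χ₀} (by simpa using hχne.symm) (fun ψ => a χ ψ) (fun _ => 0)
      (fun ψ hψ => by
        rw [Finset.mem_singleton] at hψ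
        subst hψ
        exact ⟨by simp, hne1 χ hχ, hint χ _⟩)
    rw [hq2] at h1
    simpa using h1

end Major

end Cfsg.Agent.Lib.BPair
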