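import Cfsg.Agent.Lib.BPair.Proj
import Cfsg.Agent.Lib.BPair.Basic

/-!
# Norms of subsections (S4683)
-/

set_option autoImplicit false
set_option linter.unusedSectionVars false
set_option linter.style.haveILetI false
set_option linter.unusedSimpArgs false
set_option linter.unnecessarySimpa false

open scoped ComplexConjugate
open Module

namespace Cfsg.Agent.Lib.BPair

open Cfsg Cfsg.Agent.Lib.Char Cfsg.Agent.Lib.Block Cfsg.Agent.Lib.Core Cfsg.Agent.Lib.CharExtra

attribute [local instance] subFintype

section Norms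

variable {G : Type*} [Group G] [Fintype G] {p : ℕ} [hp : Fact p.Prime] {M : Ideal AlgInt}

/-- A Brauer pair on an abelian subgroup consists of a block inducing the given block. -/
theorem isInducedBlock_of_pair_sec (hM : IsPModular p M) {B : Set (IrrCharacter G)} {Q : Subgroup G}
    (hQ : Q ≤ Cen Q) {e : Set (IrrCharacter (Cen Q))} (h : IsBrauerPairOf p M B Q e) :
    IsInducedBlock M (Cen Q) e B := by
  classical
  have := isPModular_isPrime hM
  obtain ⟨⟨hQp, he⟩, hB, hom⟩ := isBrauerPairOf_iff.1 h
  obtain ⟨B', hind⟩ := inducedBlockDefined_of_normalizer hM hQp hQ le_rfl (centralizer_le_normalizer_self Q) he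
  obtain ⟨ξ, hξ⟩ := IsPBlock_nonempty he
  obtain ⟨χ', hχ'⟩ := IsPBlock_nonempty hind.2.1
  have h1 := memLocalIdeal_om_resAlg_sub (Cen Q) (IsCharacter.isClassFunction (IsIrrCharacter.isCharacter χ'.2))
    (hind.2.2 ξ hξ χ' hχ') (isCentralElt_blockElt B) (localCoeff_blockElt (isBlockUnion_of_isPBlock hB))
  have h2 := hom ξ hξ
  have hmem : χ' ∈ B := by
    by_contra hn
    rw [om_blockElt_of_notMem hn, sub_zero] at h1
    have h3 := memLocalIdeal_sub h1 h2
    have h4 : MemLocalIdeal M (1 : ℂ) := by
      convert h3 using 1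
      ring
    exact not_memLocalIdeal_one h4
  have h5 : B' = B := by
    rw [blockOf_eq_of_mem hind.2.1 hχ', blockOf_eq_of_mem hB hmem]
  rw [← h5]
  exact hind

theorem conj_blockPart_section {u : G} [Fintype (Subgroup.centralizer ({u} : Set G))]
    (e : Set (IrrCharacter (Subgroup.centralizer ({u} : Set G)))) (χ : IrrCharacter G)
    (s : Subgroup.centralizer ({u} : Set G)) :
    conj (blockPart e (fun c : Subgroup.centralizer ({u} : Set G) => (χ : G → ℂ) (u * c)) s) =
      blockPart e (fun c : Subgroup.centralizer ({u} : Set G) => (χ : G → ℂ) (u⁻¹ * c)) s⁻¹ := by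
  classical
  rw [blockPart_eq_sum, blockPart_eq_sum, map_sum]
  refine Finset.sum_congr rfl fun ξ _ => ?_
  split_ifs with hξ
  · rw [map_mul, IsCharacter.map_inv' (IsIrrCharacter.isCharacter ξ.2)]
    congr 1
    simp only [classInner_def]
    rw [map_mul, map_inv₀, Complex.conj_natCast, map_sum]
    congr 1
    refine Fintype.sum_equiv (Equiv.inv _) _ _ fun c => ?_
    rw [map_mul, Complex.conj_conj, Equiv.inv_apply, IsCharacter.map_inv' (IsIrrCharacter.isCharacter ξ.2),
      Complex.conj_conj]
    congr 1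
    rw [← IsCharacter.map_inv' (IsIrrCharacter.isCharacter χ.2)]
    have hc := commute_of_mem_centralizer c
    have h1 : (u * (c : G))⁻¹ = u⁻¹ * ((c⁻¹ : Subgroup.centralizer ({u} : Set G)) : G) := by
      push_cast
      rw [mul_inv_rev]
      have h2 : (c : G)⁻¹ * u⁻¹ = (u * c)⁻¹ := by rw [mul_inv_rev]
      have h3 : u⁻¹ * (c : G)⁻¹ = (c * u)⁻¹ := by rw [mul_inv_rev]
      rw [h2, h3, hc]
    rw [h1]
  · simp

/-- **The norm identity for a subsection.** -/
theorem sum_norm_section (hM : IsPModular p M) {u : G} (hu : ∃ k, orderOf u = p ^ k)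
    [Fintype (Subgroup.centralizer ({u} : Set G))]
    {e : Set (IrrCharacter (Subgroup.centralizer ({u} : Set G)))} {B : Set (IrrCharacter G)}
    (hind : IsInducedBlock M (Subgroup.centralizer ({u} : Set G)) e B) :
    ∑ᶠ χ ∈ B, ∑ᶠ s : Subgroup.centralizer ({u} : Set G),
      pRegularPart p (blockPart e (fun c : Subgroup.centralizer ({u} : Set G) => (χ : G → ℂ) (u * c))) s *
        blockPart e (fun c : Subgroup.centralizer ({u} : Set G) => (χ : G → ℂ) (u⁻¹ * c)) s⁻¹ =
      (Nat.card (Subgroup.centralizer ({u} : Set G)) : ℂ) * (blockRank p e : ℂ) := by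
  classical
  have he := hind.1
  rw [← sum_classInner_secF hM hu he, finsum_mem_irr, Finset.mul_sum]
  refine Finset.sum_congr rfl fun χ _ => ?_
  have h1 : pRegularPart p (blockPart e (fun c : Subgroup.centralizer ({u} : Set G) => (χ : G → ℂ) (u * c))) =
      secF p u e (χ : G → ℂ) := (blockProj_eq _ _).symm
  have hC : (Nat.card (Subgroup.centralizer ({u} : Set G)) : ℂ) ≠ 0 := by exact_mod_cast Nat.card_pos.ne'
  split_ifs with hχ
  · rw [finsum_eq_sum_of_fintype]
    simp only [h1]
    rw [classInner_def, ← mul_assoc, mul_inv_cancel₀ hC, one_mul]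
    refine Finset.sum_congr rfl fun s _ => ?_
    by_cases hs : p ∣ orderOf s
    · have h2 : secF p u e (χ : G → ℂ) s = 0 := by
        rw [← h1, pRegularPart_eq_zero_of_dvd _ hs]
      rw [h2, zero_mul, zero_mul]
    · have h2 : secF p u e (χ : G → ℂ) s = blockPart e (fun c : Subgroup.centralizer ({u} : Set G) => (χ : G → ℂ) (u * c)) s := by
        rw [← h1, pRegularPart_eq_of_regular _ hs]
      rw [h2, conj_blockPart_section]
  · rw [secF_eq_zero_of_notMem hM hu hind hχ]
    simp [classInner_def]

theorem sum_norm_section' (hM : IsPModular p M) {u : G} (hu : ∃ k, orderOf u = p ^ k)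
    (H : Subgroup G) (hH : H = Subgroup.centralizer ({u} : Set G))
    {e : Set (IrrCharacter H)} {B : Set (IrrCharacter G)} (hind : IsInducedBlock M H e B) :
    ∑ᶠ χ ∈ B, ∑ᶠ s : H,
      pRegularPart p (blockPart e (fun c : H => (χ : G → ℂ) (u * c))) s *
        blockPart e (fun c : H => (χ : G → ℂ) (u⁻¹ * c)) s⁻¹ =
      (Nat.card H : ℂ) * (blockRank p e : ℂ) := by
  subst hH
  exact sum_norm_section hM hu hind

theorem zpowers_le_cen (u : G) : Subgroup.zpowers u ≤ Cen (Subgroup.zpowers u) := by
  have h := centralizer_zpowers_eq u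
  unfold Cen
  rw [h]
  exact zpowers_le_centralizer u

end Norms

end Cfsg.Agent.Lib.BPair
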