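import Cfsg.Agent.Lib.BPair.Blau3
import Cfsg.Agent.Lib.BPair.Proj2
import Cfsg.Agent.Lib.Block.CycSum

/-!
# The matrix of a subsection

For a `p`-element `u`, and a block `e` of `C_G(u)` of defect `q` inducing `B`, the numbers `p^q [F χ, F ψ]` are
cyclotomic integers, which are units at `M` for characters `χ, ψ ∈ B` of height zero.
-/

set_option autoImplicit false
set_option linter.unusedSectionVars false
set_option linter.style.haveILetI false
set_option linter.unusedSimpArgs false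
set_option linter.unnecessarySimpa false
set_option linter.unusedVariables false

open scoped ComplexConjugate
open Module

namespace Cfsg.Agent.Lib.BPair

open Cfsg Cfsg.Agent.Lib.Char Cfsg.Agent.Lib.Block Cfsg.Agent.Lib.Core Cfsg.Agent.Lib.CharExtra

attribute [local instance] subFintype

section SumMult

variable {H : Type*} [Group H] [Fintype H] {p : ℕ} [hp : Fact p.Prime] {M : Ideal AlgInt} [hMp : M.IsPrime]
  {b : Set (IrrCharacter H)} {Q : Subgroup H} {f : Set (IrrCharacter (Cen Q))}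

open Classical in
/-- The refinement of Blau's computation: the whole weighted sum of multiplicities is a unit. -/
theorem not_memLocalIdeal_sum_mult (hM : IsPModular p M) (hmax : IsMaximalBrauerPair p M b Q f) {φ : H → ℂ}
    (hφ : IsCharacter H φ) {y : Cen Q} (hy : ¬ MemLocalIdeal M (blockCoeff f y))
    (ht : ¬ MemLocalIdeal M (tr (fun c : Cen Q => φ c) (blockElt f * MonoidAlgebra.single y⁻¹ 1))) :
    ¬ MemLocalIdeal M (∑ ξ : IrrCharacter H, if ξ ∈ b then
      classInner φ (ξ : H → ℂ) * ((charDegree (ξ : H → ℂ) / p ^ minExp p b : ℕ) : ℂ) else 0) := by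
  obtain ⟨hPe, hb, hom⟩ := isBrauerPairOf_iff.1 hmax.1
  have hf := hPe.2
  have hQ := hPe.1
  have hcf := IsCharacter.isClassFunction hφ
  have hφl : ∀ g, MemLocalRing M (φ g) := fun g => memLocalRing_of_isIntegral (IsCharacter.isIntegral' hφ g)
  obtain ⟨x₀, hx₀⟩ : ∃ x₀, x₀ = blockElt f * MonoidAlgebra.single y⁻¹ (1 : ℂ) := ⟨_, rfl⟩
  have hx₀l : LocalCoeff M x₀ := by
    rw [hx₀]
    exact localCoeff_mul (localCoeff_blockElt (isBlockUnion_of_isPBlock hf)) (localCoeff_single _ memLocalRing_one)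
  obtain ⟨z, hz⟩ : ∃ z, z = incl (Cen Q) x₀ := ⟨_, rfl⟩
  have hzEq : z = Ee Q f * MonoidAlgebra.single ((y : H)⁻¹) 1 := by
    rw [hz, hx₀, map_mul, incl_single]
    rfl
  have hzl : LocalCoeff M z := hz ▸ localCoeff_incl _ hx₀l
  have hbc := isCentralElt_blockElt b
  have hbl : LocalCoeff M (blockElt b) := localCoeff_blockElt (isBlockUnion_of_isPBlock hb)
  have ht' : ¬ MemLocalIdeal M (tr φ (blockElt b * z)) := by
    rw [hz, hx₀]
    exact not_memLocalIdeal_tr_blockElt_mul hM hmax hφ ht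
  have htl : MemLocalRing M (tr φ (blockElt b * z)) :=
    memLocalRing_tr_of_localCoeff (localCoeff_mul hbl hzl) hφl
  obtain ⟨T, hT⟩ := exists_pairT hf
  obtain ⟨S, hS⟩ : ∃ S, S = T ⊓ Subgroup.centralizer ({(y : H)} : Set H) := ⟨_, rfl⟩
  haveI : Fintype (H ⧸ S) := Fintype.ofFinite _
  have hST : S ≤ T := hS ▸ inf_le_left
  have hzi : IsInvBy S z := by
    rw [hzEq]
    refine IsInvBy.mul (isInvBy_Ee_of_stable hf (fun x hx => ((hT x).1 (hST hx)).2)) ?_
    rw [isInvBy_iff_commute]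
    intro u hu
    have hu' : u ∈ Subgroup.centralizer ({(y : H)} : Set H) := by
      rw [hS] at hu
      exact hu.2
    rw [Subgroup.mem_centralizer_singleton_iff] at hu'
    rw [MonoidAlgebra.single_mul_single, MonoidAlgebra.single_mul_single]
    congr 1
    calc u * (y : H)⁻¹ = (y : H)⁻¹ * ((y : H) * u) * (y : H)⁻¹ := by group
      _ = (y : H)⁻¹ * (u * (y : H)) * (y : H)⁻¹ := by rw [hu']
      _ = (y : H)⁻¹ * u := by group
  obtain ⟨W, hW⟩ : ∃ W, W = relTr S z := ⟨_, rfl⟩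
  have hWc : IsCentralElt W := hW ▸ isCentralElt_relTr hzi
  have hWl : LocalCoeff M W := hW ▸ localCoeff_relTr hzl
  have h5 : tr φ (blockElt b * W) = (S.index : ℂ) * tr φ (blockElt b * z) := by
    rw [hW]
    exact tr_central_mul_relTr hcf hbc S z
  have h6 := tr_blockElt_mul φ hcf b W
  have hne : b.Nonempty := IsPBlock_nonempty hb
  have hmle := minExp_le_factorization_card (p := p) hne
  have hS1 : (Nat.card S).factorization p = (Nat.card H).factorization p - minExp p b := by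
    have hyE : ¬ MemLocalIdeal M ((Ee Q f).coeff (y : H)) := by
      have := coeff_incl_coe (Cen Q) (blockElt f) y
      unfold Ee
      rw [this, coeff_blockElt]
      exact hy
    have h7 := card_stab_eq hM hmax hT y.2 hyE
    rw [← hS] at h7
    have e : (Nat.card Q).factorization p = blockDefect p b := by
      rw [card_defect_group hM hb (isDefectGroup_of_max hM hmax)]
      simp [Nat.Prime.factorization_self hp.out]
    rw [h7, e]
    rfl
  have hidx : S.index.factorization p = minExp p b := by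
    have h8 := S.card_mul_index
    have h9 : Nat.card S ≠ 0 := Nat.card_pos.ne'
    have h10 : S.index ≠ 0 := Subgroup.index_ne_zero_of_finite
    have h11 := congrArg (fun n => n.factorization p) h8
    simp only [Nat.factorization_mul h9 h10, Finsupp.add_apply] at h11
    omega
  obtain ⟨m, hm⟩ : ∃ m, m = minExp p b := ⟨_, rfl⟩
  rw [← hm] at hidx ⊢
  have h10 : S.index ≠ 0 := Subgroup.index_ne_zero_of_finite
  obtain ⟨u, hu⟩ : ∃ u, u = S.index / p ^ (S.index.factorization p) := ⟨_, rfl⟩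
  have hu1 : S.index = p ^ m * u := by
    rw [hu, ← hidx]
    exact (Nat.ordProj_mul_ordCompl_eq_self _ _).symm
  have hu2 : ¬ p ∣ u := hu ▸ Nat.not_dvd_ordCompl hp.out h10
  choose n hn using fun ξ : IrrCharacter H => classInner_isCharacter_nat hφ (IsIrrCharacter.isCharacter ξ.2)
  obtain ⟨q, hqdef⟩ : ∃ q : IrrCharacter H → ℕ, q = fun ξ : IrrCharacter H => charDegree (ξ : H → ℂ) / p ^ m := ⟨_, rfl⟩
  have hq : ∀ ξ ∈ b, charDegree (ξ : H → ℂ) = p ^ m * q ξ := by
    intro ξ hξ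
    rw [hqdef]
    have h12 : p ^ m ∣ charDegree (ξ : H → ℂ) := by
      rw [hp.out.pow_dvd_iff_le_factorization charDegree_ne_zero, hm]
      exact minExp_le hξ
    exact (Nat.mul_div_cancel' h12).symm
  have hp0 : ((p : ℂ) ^ m) ≠ 0 := pow_ne_zero _ (by exact_mod_cast hp.out.ne_zero)
  have h13 : (u : ℂ) * tr φ (blockElt b * z) =
      ∑ ξ : IrrCharacter H, if ξ ∈ b then (n ξ : ℂ) * (q ξ : ℂ) * om (ξ : H → ℂ) W else 0 := by
    apply mul_left_cancel₀ hp0
    have h14 : ((p : ℂ) ^ m) * ((u : ℂ) * tr φ (blockElt b * z)) = tr φ (blockElt b * W) := by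
      rw [h5, hu1]
      push_cast
      ring
    rw [h14, h6, Finset.mul_sum]
    refine Finset.sum_congr rfl fun ξ _ => ?_
    by_cases hξ : ξ ∈ b
    · rw [if_pos hξ, if_pos hξ, hn ξ]
      have h15 : tr (ξ : H → ℂ) W = (ξ : H → ℂ) 1 * om (ξ : H → ℂ) W := by
        unfold om
        rw [mul_div_cancel₀ _ (isIrr_one_ne_zero ξ.2)]
      rw [h15, map_one_eq_charDegree (IsIrrCharacter.isCharacter ξ.2), hq ξ hξ]
      push_cast
      ring
    · rw [if_neg hξ, if_neg hξ, mul_zero]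
  have hunit : ¬ MemLocalIdeal M ((u : ℂ) * tr φ (blockElt b * z)) :=
    not_memLocalIdeal_mul (memLocalRing_natCast u) htl (not_memLocalIdeal_natCast hM hu2) ht'
  -- the final comparison
  intro hS0
  apply hunit
  rw [h13]
  obtain ⟨ξ₀, hξ₀⟩ := hne
  have hω₀ : MemLocalRing M (om (ξ₀ : H → ℂ) W) := memLocalRing_om ξ₀.2 hWc hWl
  have h20 : (∑ ξ : IrrCharacter H, if ξ ∈ b then (n ξ : ℂ) * (q ξ : ℂ) * om (ξ : H → ℂ) W else 0) =
      (∑ ξ : IrrCharacter H, if ξ ∈ b then (n ξ : ℂ) * (q ξ : ℂ) * (om (ξ : H → ℂ) W - om (ξ₀ : H → ℂ) W) else 0) +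
      (∑ ξ : IrrCharacter H, if ξ ∈ b then classInner φ (ξ : H → ℂ) * ((charDegree (ξ : H → ℂ) / p ^ m : ℕ) : ℂ) else 0) *
        om (ξ₀ : H → ℂ) W := by
    rw [Finset.sum_mul, ← Finset.sum_add_distrib]
    refine Finset.sum_congr rfl fun ξ _ => ?_
    by_cases hξ : ξ ∈ b
    · rw [if_pos hξ, if_pos hξ, if_pos hξ, hn ξ, hqdef]
      ring
    · rw [if_neg hξ, if_neg hξ, if_neg hξ]
      ring
  rw [h20]
  refine memLocalIdeal_add (memLocalIdeal_sum _ _ fun ξ _ => ?_) (memLocalIdeal_mul_right hS0 hω₀)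
  by_cases hξ : ξ ∈ b
  · rw [if_pos hξ]
    exact memLocalIdeal_mul_left (memLocalRing_mul (memLocalRing_natCast _) (memLocalRing_natCast _))
      (memLocalIdeal_om_sub ξ.2 ξ₀.2 (sameBlock_of_mem hb hξ hξ₀) hWc hWl)
  · rw [if_neg hξ]
    exact memLocalIdeal_zero

end SumMult

section RankOne

variable {C : Type*} [Group C] [Fintype C] {p : ℕ} [hp : Fact p.Prime] {M : Ideal AlgInt}

/-- The integer `regCoeff / p^b`. -/
noncomputable def rr (p : ℕ) [Fact p.Prime] (e : Set (IrrCharacter C)) (ξ ξ' : IrrCharacter C) : ℤ :=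
  regCoeff p ξ ξ' / (p : ℤ) ^ minExp p e

/-- The integer `ξ(1) / p^b`. -/
noncomputable def qq (p : ℕ) (e : Set (IrrCharacter C)) (ξ : IrrCharacter C) : ℕ :=
  charDegree (ξ : C → ℂ) / p ^ minExp p e

theorem regCoeff_eq_rr {e : Set (IrrCharacter C)} {ξ : IrrCharacter C} (hξ : ξ ∈ e) (ξ' : IrrCharacter C) :
    regCoeff p ξ ξ' = (p : ℤ) ^ minExp p e * rr p e ξ ξ' := by
  unfold rr
  refine (Int.mul_ediv_cancel' (dvd_trans (pow_dvd_pow _ (minExp_le hξ)) (pow_dvd_regCoeff ξ ξ'))).symm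

theorem degree_eq_qq {e : Set (IrrCharacter C)} {ξ : IrrCharacter C} (hξ : ξ ∈ e) :
    charDegree (ξ : C → ℂ) = p ^ minExp p e * qq p e ξ := by
  unfold qq
  have h12 : p ^ minExp p e ∣ charDegree (ξ : C → ℂ) := by
    rw [hp.out.pow_dvd_iff_le_factorization charDegree_ne_zero]
    exact minExp_le hξ
  exact (Nat.mul_div_cancel' h12).symm

theorem qq_pos {e : Set (IrrCharacter C)} {ξ : IrrCharacter C} (hξ : ξ ∈ e) : qq p e ξ ≠ 0 := by
  intro h
  have h1 := degree_eq_qq (p := p) hξ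
  rw [h, mul_zero] at h1
  exact charDegree_ne_zero h1

theorem rr_eq_mul {e : Set (IrrCharacter C)} {ξ : IrrCharacter C} (hξ : ξ ∈ e) (ξ' : IrrCharacter C) :
    (rr p e ξ ξ' : ℂ) = (regCoeff p ξ ξ' : ℂ) / (ξ : C → ℂ) 1 * (qq p e ξ : ℂ) := by
  have h1 : (ξ : C → ℂ) 1 = (p : ℂ) ^ minExp p e * (qq p e ξ : ℂ) := by
    rw [map_one_eq_charDegree (IsIrrCharacter.isCharacter ξ.2), degree_eq_qq (p := p) hξ]
    push_cast
    ring
  have h2 : ((p : ℂ) ^ minExp p e) ≠ 0 := pow_ne_zero _ (by exact_mod_cast hp.out.ne_zero)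
  have h3 : (qq p e ξ : ℂ) ≠ 0 := by exact_mod_cast qq_pos hξ
  rw [regCoeff_eq_rr hξ ξ', h1]
  push_cast
  field_simp

theorem rank_one_rr (hM : IsPModular p M) {e : Set (IrrCharacter C)} (he : IsPBlock M e) :
    ∃ K : ℂ, MemLocalRing M K ∧ ¬ MemLocalIdeal M K ∧ ∀ ξ ∈ e, ∀ ξ' ∈ e,
      MemLocalIdeal M ((rr p e ξ ξ' : ℂ) - K * (qq p e ξ : ℂ) * (qq p e ξ' : ℂ)) := by
  have := isPModular_isPrime hM
  obtain ⟨χ₀, h₀, h₁, hmin⟩ := exists_min_height he hM
  have h₁' : (charDegree (χ₀ : C → ℂ)).factorization p = minExp p e := h₁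
  have hq₀ : ¬ p ∣ qq p e χ₀ := by
    unfold qq
    rw [← h₁']
    exact Nat.not_dvd_ordCompl hp.out charDegree_ne_zero
  have hq₀l : MemLocalRing M (((qq p e χ₀ : ℕ) : ℂ)⁻¹) := memLocalRing_natCast_inv hM hq₀
  have hq₀ne : ((qq p e χ₀ : ℕ) : ℂ) ≠ 0 := by exact_mod_cast qq_pos h₀
  have hR₀l := memLocalRing_regCoeff_div (p := p) hM χ₀ χ₀
  have hR₀n : ¬ MemLocalIdeal M ((regCoeff p χ₀ χ₀ : ℂ) / (χ₀ : C → ℂ) 1) := by
    rw [memLocalIdeal_regCoeff_div_iff hM he h₀ hmin h₀]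
    exact lt_irrefl _
  refine ⟨(regCoeff p χ₀ χ₀ : ℂ) / (χ₀ : C → ℂ) 1 * ((qq p e χ₀ : ℕ) : ℂ)⁻¹, memLocalRing_mul hR₀l hq₀l, ?_, ?_⟩
  · refine not_memLocalIdeal_mul hR₀l hq₀l hR₀n ?_
    intro h
    have h2 := memLocalIdeal_mul_right h (memLocalRing_natCast (M := M) (qq p e χ₀))
    rw [inv_mul_cancel₀ hq₀ne] at h2
    exact not_memLocalIdeal_one h2
  · intro ξ hξ ξ' hξ'
    have h1 := memLocalIdeal_regCoeff_div_sub hM (sameBlock_of_mem he hξ h₀) ξ'
    have h2 := memLocalIdeal_regCoeff_div_sub hM (sameBlock_of_mem he hξ' h₀) χ₀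
    have h3 : (regCoeff p χ₀ ξ' : ℂ) / (χ₀ : C → ℂ) 1 =
        (regCoeff p ξ' χ₀ : ℂ) / (ξ' : C → ℂ) 1 * (qq p e ξ' : ℂ) * ((qq p e χ₀ : ℕ) : ℂ)⁻¹ := by
      rw [regCoeff_comm (p := p) χ₀ ξ']
      have h4 : (χ₀ : C → ℂ) 1 = (p : ℂ) ^ minExp p e * (qq p e χ₀ : ℂ) := by
        rw [map_one_eq_charDegree (IsIrrCharacter.isCharacter χ₀.2), degree_eq_qq (p := p) h₀]
        push_cast
        ring
      have h5 : (ξ' : C → ℂ) 1 = (p : ℂ) ^ minExp p e * (qq p e ξ' : ℂ) := by
        rw [map_one_eq_charDegree (IsIrrCharacter.isCharacter ξ'.2), degree_eq_qq (p := p) hξ']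
        push_cast
        ring
      have h6 : ((p : ℂ) ^ minExp p e) ≠ 0 := pow_ne_zero _ (by exact_mod_cast hp.out.ne_zero)
      have h7 : (qq p e ξ' : ℂ) ≠ 0 := by exact_mod_cast qq_pos hξ'
      rw [h4, h5]
      field_simp
    have e1 : (rr p e ξ ξ' : ℂ) - (regCoeff p χ₀ χ₀ : ℂ) / (χ₀ : C → ℂ) 1 * ((qq p e χ₀ : ℕ) : ℂ)⁻¹ * (qq p e ξ : ℂ) * (qq p e ξ' : ℂ) =
        (qq p e ξ : ℂ) * (((regCoeff p ξ ξ' : ℂ) / (ξ : C → ℂ) 1 - (regCoeff p χ₀ ξ' : ℂ) / (χ₀ : C → ℂ) 1) +
          ((regCoeff p ξ' χ₀ : ℂ) / (ξ' : C → ℂ) 1 - (regCoeff p χ₀ χ₀ : ℂ) / (χ₀ : C → ℂ) 1) *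
            ((qq p e ξ' : ℂ) * ((qq p e χ₀ : ℕ) : ℂ)⁻¹)) := by
      rw [rr_eq_mul hξ ξ', h3]
      ring
    rw [e1]
    refine memLocalIdeal_mul_left (memLocalRing_natCast _) (memLocalIdeal_add h1 ?_)
    exact memLocalIdeal_mul_right h2 (memLocalRing_mul (memLocalRing_natCast _) hq₀l)

end RankOne

section Gram

variable {G : Type*} [Group G] [Fintype G] {p : ℕ} [hp : Fact p.Prime] {M : Ideal AlgInt}
  {u : G} [Fintype (Subgroup.centralizer ({u} : Set G))]

/-- The inner product of a section function with an irreducible character of the centralizer. -/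
noncomputable def aa (u : G) [Fintype (Subgroup.centralizer ({u} : Set G))] (χ : IrrCharacter G)
    (ξ : IrrCharacter (Subgroup.centralizer ({u} : Set G))) : ℂ :=
  classInner (fun c : Subgroup.centralizer ({u} : Set G) => (χ : G → ℂ) (u * c)) (ξ : _ → ℂ)

open Classical in
theorem secF_eq_sum (e : Set (IrrCharacter (Subgroup.centralizer ({u} : Set G)))) (χ : IrrCharacter G) :
    secF p u e (χ : G → ℂ) = ∑ ξ : IrrCharacter (Subgroup.centralizer ({u} : Set G)),
      if ξ ∈ e then aa u χ ξ • pRegularPart p (ξ : _ → ℂ) else 0 := by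
  unfold secF
  rw [blockProj_apply]
  rfl

open Classical in
/-- The Gram matrix in terms of the integers `rr`. -/
theorem gram_formula {e : Set (IrrCharacter (Subgroup.centralizer ({u} : Set G)))} (he : e.Nonempty) (χ ψ : IrrCharacter G) :
    (p : ℂ) ^ blockDefect p e * classInner (secF p u e (χ : G → ℂ)) (secF p u e (ψ : G → ℂ)) =
      ∑ ξ : IrrCharacter (Subgroup.centralizer ({u} : Set G)), ∑ ξ' : IrrCharacter (Subgroup.centralizer ({u} : Set G)),
        if ξ ∈ e ∧ ξ' ∈ e then aa u χ ξ * conj (aa u ψ ξ') * (rr p e ξ ξ' : ℂ) else 0 := by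
  rw [secF_eq_sum e χ, secF_eq_sum e ψ, classInner_sum_left, Finset.mul_sum]
  refine Finset.sum_congr rfl fun ξ _ => ?_
  rw [classInner_sum_right, Finset.mul_sum]
  refine Finset.sum_congr rfl fun ξ' _ => ?_
  by_cases hξ : ξ ∈ e
  · by_cases hξ' : ξ' ∈ e
    · rw [if_pos hξ, if_pos hξ', if_pos ⟨hξ, hξ'⟩, classInner_smul_left, classInner_smul_right,
        classInner_reg_left (fun y hy => pRegularPart_eq_zero_of_dvd _ hy), classInner_pRegularPart_irr,
        regCoeff_eq_rr hξ ξ']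
      have h1 : blockDefect p e + minExp p e = (Nat.card (Subgroup.centralizer ({u} : Set G))).factorization p := by
        have h2 := minExp_le_factorization_card (p := p) he
        have h3 : blockDefect p e = (Nat.card (Subgroup.centralizer ({u} : Set G))).factorization p - minExp p e := rfl
        omega
      have h4 : ((p ^ (Nat.card (Subgroup.centralizer ({u} : Set G))).factorization p : ℕ) : ℂ) =
          (p : ℂ) ^ blockDefect p e * (p : ℂ) ^ minExp p e := by
        rw [← h1, pow_add]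
        push_cast
        ring
      have h5 : ((p : ℂ) ^ blockDefect p e) ≠ 0 := pow_ne_zero _ (by exact_mod_cast hp.out.ne_zero)
      have h6 : ((p : ℂ) ^ minExp p e) ≠ 0 := pow_ne_zero _ (by exact_mod_cast hp.out.ne_zero)
      rw [h4]
      push_cast
      field_simp
    · rw [if_neg hξ', if_neg (fun h : ξ ∈ e ∧ ξ' ∈ e => hξ' h.2)]
      simp [classInner_def]
  · rw [if_neg hξ, if_neg (fun h : ξ ∈ e ∧ ξ' ∈ e => hξ h.1)]
    simp [classInner_def]

theorem center_self_mem (u : G) : (⟨u, mem_centralizer_self u⟩ : Subgroup.centralizer ({u} : Set G)) ∈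
      Subgroup.center (Subgroup.centralizer ({u} : Set G)) := by
  rw [Subgroup.mem_center_iff]
  intro g
  apply Subtype.ext
  exact (mem_centralizer_singleton.1 g.2)

omit [Fintype G] [Fintype (Subgroup.centralizer ({u} : Set G))] hp in
theorem eps_pow {X : Type*} [Group X] [Fintype X] (ξ : IrrCharacter X) {c : X} (hc : c ∈ Subgroup.center X) {N : ℕ}
    (hN : c ^ N = 1) : ((ξ : X → ℂ) c / (ξ : X → ℂ) 1) ^ N = 1 := by
  obtain ⟨lam, hlam⟩ := exists_hom_of_central ξ (Subgroup.center X) le_rfl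
  have h1 := hlam ⟨c, hc⟩
  simp only at h1
  rw [← h1]
  have h2 : (⟨c, hc⟩ : Subgroup.center X) ^ N = 1 := by
    apply Subtype.ext
    simpa using hN
  have h3 := congrArg (fun x : ℂˣ => (x : ℂ)) (map_pow lam ⟨c, hc⟩ N)
  simp only [h2, map_one, Units.val_one, Units.val_pow_eq_pow_val] at h3
  exact h3.symm

theorem aa_eq (χ : IrrCharacter G) (ξ : IrrCharacter (Subgroup.centralizer ({u} : Set G))) :
    aa u χ ξ = ((ξ : Subgroup.centralizer ({u} : Set G) → ℂ) ⟨u, mem_centralizer_self u⟩ / (ξ : Subgroup.centralizer ({u} : Set G) → ℂ) 1) *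
      classInner (fun c : Subgroup.centralizer ({u} : Set G) => (χ : G → ℂ) c) (ξ : _ → ℂ) := by
  rw [← classInner_mul_central (fun c : Subgroup.centralizer ({u} : Set G) => (χ : G → ℂ) c) ξ (center_self_mem u)]
  rfl

/-- The entries of the matrix. -/
noncomputable def alpha (p : ℕ) [Fact p.Prime] (u : G) [Fintype (Subgroup.centralizer ({u} : Set G))]
    (e : Set (IrrCharacter (Subgroup.centralizer ({u} : Set G)))) (χ ψ : IrrCharacter G) : ℂ :=
  (p : ℂ) ^ blockDefect p e * classInner (secF p u e (χ : G → ℂ)) (secF p u e (ψ : G → ℂ))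

theorem exists_eps_facts {N : ℕ} (hN : u ^ N = 1) (hN0 : 0 < N) (χ : IrrCharacter G) (ξ : IrrCharacter (Subgroup.centralizer ({u} : Set G))) :
    ∃ (ε : ℂ) (n : ℕ), aa u χ ξ = ε * n ∧ ε ^ N = 1 ∧
      classInner (fun c : Subgroup.centralizer ({u} : Set G) => (χ : G → ℂ) c) (ξ : _ → ℂ) = n ∧
      ε = (ξ : Subgroup.centralizer ({u} : Set G) → ℂ) ⟨u, mem_centralizer_self u⟩ / (ξ : Subgroup.centralizer ({u} : Set G) → ℂ) 1 := by
  obtain ⟨n, hn⟩ := classInner_isCharacter_nat (IsCharacter.restrict (Subgroup.centralizer ({u} : Set G))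
    (IsIrrCharacter.isCharacter χ.2)) (IsIrrCharacter.isCharacter ξ.2)
  refine ⟨_, n, ?_, ?_, hn, rfl⟩
  · rw [aa_eq, ← hn]
  · refine eps_pow ξ (center_self_mem u) ?_
    apply Subtype.ext
    simpa using hN

theorem isIntegral_aa (χ : IrrCharacter G) (ξ : IrrCharacter (Subgroup.centralizer ({u} : Set G))) :
    IsIntegral ℤ (aa u χ ξ) := by
  obtain ⟨ε, n, h1, h2, -, -⟩ := exists_eps_facts (N := Nat.card G) (pow_card_eq_one') Nat.card_pos χ ξ
  rw [h1]
  refine IsIntegral.mul (IsIntegral.of_pow (Nat.card_pos (α := G)) ?_) (isIntegral_natCast _)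
  rw [h2]
  exact isIntegral_one

theorem isIntegral_conj_aa (χ : IrrCharacter G) (ξ : IrrCharacter (Subgroup.centralizer ({u} : Set G))) :
    IsIntegral ℤ (conj (aa u χ ξ)) := by
  obtain ⟨ε, n, h1, h2, -, -⟩ := exists_eps_facts (N := Nat.card G) (pow_card_eq_one') Nat.card_pos χ ξ
  rw [h1, map_mul, Complex.conj_natCast]
  refine IsIntegral.mul (IsIntegral.of_pow (Nat.card_pos (α := G)) ?_) (isIntegral_natCast _)
  rw [← map_pow, h2, map_one]
  exact isIntegral_one

theorem isCyc_aa (χ : IrrCharacter G) (ξ : IrrCharacter (Subgroup.centralizer ({u} : Set G))) :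
    IsCyc (Nat.card G) (aa u χ ξ) := by
  haveI : NeZero (Nat.card G) := ⟨Nat.card_pos.ne'⟩
  obtain ⟨ε, n, h1, -, -, h4⟩ := exists_eps_facts (N := Nat.card G) (pow_card_eq_one') Nat.card_pos χ ξ
  rw [h1, h4]
  have hξ := IsIrrCharacter.isCharacter ξ.2
  have hp1 : ∀ c : Subgroup.centralizer ({u} : Set G), c ^ Nat.card G = 1 := fun c => by
    apply Subtype.ext
    simpa using (pow_card_eq_one' (x := (c : G)))
  exact ((isCyc_of_isCharacter hξ (hp1 _)).div (isCyc_of_isCharacter hξ (hp1 _))).mul (isCyc_natCast n)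

theorem isCyc_alpha (e : Set (IrrCharacter (Subgroup.centralizer ({u} : Set G)))) (he : e.Nonempty) (χ ψ : IrrCharacter G) :
    IsCyc (Nat.card G) (alpha p u e χ ψ) := by
  classical
  haveI : NeZero (Nat.card G) := ⟨Nat.card_pos.ne'⟩
  unfold alpha
  rw [gram_formula he]
  refine isCyc_sum _ _ fun ξ _ => isCyc_sum _ _ fun ξ' _ => ?_
  split_ifs
  · exact ((isCyc_aa χ ξ).mul (isCyc_aa ψ ξ').conj).mul (isCyc_intCast _)
  · exact isCyc_zero

theorem isIntegral_alpha (e : Set (IrrCharacter (Subgroup.centralizer ({u} : Set G)))) (he : e.Nonempty) (χ ψ : IrrCharacter G) :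
    IsIntegral ℤ (alpha p u e χ ψ) := by
  classical
  unfold alpha
  rw [gram_formula he]
  refine IsIntegral.sum _ fun ξ _ => IsIntegral.sum _ fun ξ' _ => ?_
  split_ifs
  · exact ((isIntegral_aa χ ξ).mul (isIntegral_conj_aa ψ ξ')).mul (isIntegral_intCast _)
  · exact isIntegral_zero

theorem aa_sub_mem (hM : IsPModular p M) (hu : ∃ k, orderOf u = p ^ k) (χ : IrrCharacter G)
    (ξ : IrrCharacter (Subgroup.centralizer ({u} : Set G))) :
    MemLocalIdeal M (aa u χ ξ - classInner (fun c : Subgroup.centralizer ({u} : Set G) => (χ : G → ℂ) c) (ξ : Subgroup.centralizer ({u} : Set G) → ℂ)) := by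
  have := isPModular_isPrime hM
  obtain ⟨k, hk⟩ := hu
  have h1 := memLocalIdeal_irr_central_sub_one (p := p) hM ξ (center_self_mem u) (k := k) (by rw [Subgroup.orderOf_mk, hk])
  obtain ⟨n, hn⟩ := classInner_isCharacter_nat (IsCharacter.restrict (Subgroup.centralizer ({u} : Set G))
    (IsIrrCharacter.isCharacter χ.2)) (IsIrrCharacter.isCharacter ξ.2)
  rw [aa_eq, ← sub_one_mul]
  exact memLocalIdeal_mul_right h1 (by rw [hn]; exact memLocalRing_natCast _)

theorem conj_aa_sub_mem (hM : IsPModular p M) (hu : ∃ k, orderOf u = p ^ k) (χ : IrrCharacter G)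
    (ξ : IrrCharacter (Subgroup.centralizer ({u} : Set G))) :
    MemLocalIdeal M (conj (aa u χ ξ) - classInner (fun c : Subgroup.centralizer ({u} : Set G) => (χ : G → ℂ) c) (ξ : Subgroup.centralizer ({u} : Set G) → ℂ)) := by
  have := isPModular_isPrime hM
  obtain ⟨k, hk⟩ := hu
  have hinv : (⟨u, mem_centralizer_self u⟩ : Subgroup.centralizer ({u} : Set G))⁻¹ ∈ Subgroup.center (Subgroup.centralizer ({u} : Set G)) :=
    Subgroup.inv_mem _ (center_self_mem u)
  have h1 := memLocalIdeal_irr_central_sub_one (p := p) hM ξ hinv (k := k) (by rw [orderOf_inv, Subgroup.orderOf_mk, hk])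
  obtain ⟨n, hn⟩ := classInner_isCharacter_nat (IsCharacter.restrict (Subgroup.centralizer ({u} : Set G))
    (IsIrrCharacter.isCharacter χ.2)) (IsIrrCharacter.isCharacter ξ.2)
  have hξ := IsIrrCharacter.isCharacter ξ.2
  rw [aa_eq, hn, map_mul, Complex.conj_natCast, map_div₀, ← IsCharacter.map_inv' hξ, ← IsCharacter.map_inv' hξ, inv_one, ← sub_one_mul]
  exact memLocalIdeal_mul_right h1 (memLocalRing_natCast _)

open Classical in
/-- The congruence for the entries of the matrix. -/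
theorem alpha_congr (hM : IsPModular p M) (hu : ∃ k, orderOf u = p ^ k)
    {e : Set (IrrCharacter (Subgroup.centralizer ({u} : Set G)))} (he : IsPBlock M e) :
    ∃ K : ℂ, MemLocalRing M K ∧ ¬ MemLocalIdeal M K ∧ ∀ χ ψ : IrrCharacter G,
      MemLocalIdeal M (alpha p u e χ ψ - K *
        (∑ ξ : IrrCharacter (Subgroup.centralizer ({u} : Set G)), if ξ ∈ e then
          classInner (fun c : Subgroup.centralizer ({u} : Set G) => (χ : G → ℂ) c) (ξ : Subgroup.centralizer ({u} : Set G) → ℂ) * (qq p e ξ : ℂ) else 0) *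
        (∑ ξ : IrrCharacter (Subgroup.centralizer ({u} : Set G)), if ξ ∈ e then
          classInner (fun c : Subgroup.centralizer ({u} : Set G) => (ψ : G → ℂ) c) (ξ : Subgroup.centralizer ({u} : Set G) → ℂ) * (qq p e ξ : ℂ) else 0)) := by
  have := isPModular_isPrime hM
  obtain ⟨K, hK, hK', hr⟩ := rank_one_rr hM he
  refine ⟨K, hK, hK', fun χ ψ => ?_⟩
  obtain ⟨mχ, hmχ⟩ : ∃ m : IrrCharacter (Subgroup.centralizer ({u} : Set G)) → ℂ, m = fun ξ : IrrCharacter (Subgroup.centralizer ({u} : Set G)) =>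
    classInner (fun c : Subgroup.centralizer ({u} : Set G) => (χ : G → ℂ) c) (ξ : Subgroup.centralizer ({u} : Set G) → ℂ) := ⟨_, rfl⟩
  obtain ⟨mψ, hmψ⟩ : ∃ m : IrrCharacter (Subgroup.centralizer ({u} : Set G)) → ℂ, m = fun ξ : IrrCharacter (Subgroup.centralizer ({u} : Set G)) =>
    classInner (fun c : Subgroup.centralizer ({u} : Set G) => (ψ : G → ℂ) c) (ξ : Subgroup.centralizer ({u} : Set G) → ℂ) := ⟨_, rfl⟩
  have hmχl : ∀ ξ, MemLocalRing M (mχ ξ) := fun ξ => by
    obtain ⟨n, hn⟩ := classInner_isCharacter_nat (IsCharacter.restrict (Subgroup.centralizer ({u} : Set G))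
      (IsIrrCharacter.isCharacter χ.2)) (IsIrrCharacter.isCharacter ξ.2)
    rw [hmχ]
    simp only
    rw [hn]
    exact memLocalRing_natCast _
  have hmψl : ∀ ξ, MemLocalRing M (mψ ξ) := fun ξ => by
    obtain ⟨n, hn⟩ := classInner_isCharacter_nat (IsCharacter.restrict (Subgroup.centralizer ({u} : Set G))
      (IsIrrCharacter.isCharacter ψ.2)) (IsIrrCharacter.isCharacter ξ.2)
    rw [hmψ]
    simp only
    rw [hn]
    exact memLocalRing_natCast _
  have h1 : ∀ ξ, MemLocalIdeal M (aa u χ ξ - mχ ξ) := fun ξ => by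
    rw [hmχ]
    exact aa_sub_mem hM hu χ ξ
  have h2 : ∀ ξ, MemLocalIdeal M (conj (aa u ψ ξ) - mψ ξ) := fun ξ => by
    rw [hmψ]
    exact conj_aa_sub_mem hM hu ψ ξ
  have h3 : (∑ ξ : IrrCharacter (Subgroup.centralizer ({u} : Set G)), if ξ ∈ e then
          classInner (fun c : Subgroup.centralizer ({u} : Set G) => (χ : G → ℂ) c) (ξ : Subgroup.centralizer ({u} : Set G) → ℂ) * (qq p e ξ : ℂ) else 0) =
      ∑ ξ, if ξ ∈ e then mχ ξ * (qq p e ξ : ℂ) else 0 := by
    rw [hmχ]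
  have h4 : (∑ ξ : IrrCharacter (Subgroup.centralizer ({u} : Set G)), if ξ ∈ e then
          classInner (fun c : Subgroup.centralizer ({u} : Set G) => (ψ : G → ℂ) c) (ξ : Subgroup.centralizer ({u} : Set G) → ℂ) * (qq p e ξ : ℂ) else 0) =
      ∑ ξ, if ξ ∈ e then mψ ξ * (qq p e ξ : ℂ) else 0 := by
    rw [hmψ]
  rw [h3, h4]
  unfold alpha
  rw [gram_formula (IsPBlock_nonempty he), mul_assoc, Finset.sum_mul_sum, Finset.mul_sum, ← Finset.sum_sub_distrib]
  refine memLocalIdeal_sum _ _ fun ξ _ => ?_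
  rw [Finset.mul_sum, ← Finset.sum_sub_distrib]
  refine memLocalIdeal_sum _ _ fun ξ' _ => ?_
  by_cases hξ : ξ ∈ e
  · by_cases hξ' : ξ' ∈ e
    · rw [if_pos ⟨hξ, hξ'⟩, if_pos hξ, if_pos hξ']
      have e1 : aa u χ ξ * conj (aa u ψ ξ') * (rr p e ξ ξ' : ℂ) - K * (mχ ξ * (qq p e ξ : ℂ) * (mψ ξ' * (qq p e ξ' : ℂ))) =
          (aa u χ ξ - mχ ξ) * (conj (aa u ψ ξ') * (rr p e ξ ξ' : ℂ)) + mχ ξ * ((conj (aa u ψ ξ') - mψ ξ') * (rr p e ξ ξ' : ℂ)) +
            mχ ξ * mψ ξ' * ((rr p e ξ ξ' : ℂ) - K * (qq p e ξ : ℂ) * (qq p e ξ' : ℂ)) := by ring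
      rw [e1]
      have hrl : MemLocalRing M (rr p e ξ ξ' : ℂ) := memLocalRing_intCast _
      have hcl : MemLocalRing M (conj (aa u ψ ξ')) := memLocalRing_of_isIntegral (isIntegral_conj_aa ψ ξ')
      refine memLocalIdeal_add (memLocalIdeal_add ?_ ?_) ?_
      · exact memLocalIdeal_mul_right (h1 ξ) (memLocalRing_mul hcl hrl)
      · exact memLocalIdeal_mul_left (hmχl ξ) (memLocalIdeal_mul_right (h2 ξ') hrl)
      · exact memLocalIdeal_mul_left (memLocalRing_mul (hmχl ξ) (hmψl ξ')) (hr ξ hξ ξ' hξ')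
    · rw [if_neg (fun h : ξ ∈ e ∧ ξ' ∈ e => hξ' h.2), if_neg hξ']
      simpa using memLocalIdeal_zero
  · rw [if_neg (fun h : ξ ∈ e ∧ ξ' ∈ e => hξ h.1), if_neg hξ]
    simpa using memLocalIdeal_zero

open Classical in
/-- The multiplicity sum is a unit for a character of height zero. -/
theorem not_memLocalIdeal_S (hM : IsPModular p M) {e : Set (IrrCharacter (Subgroup.centralizer ({u} : Set G)))}
    {B : Set (IrrCharacter G)} (hind : IsInducedBlock M (Subgroup.centralizer ({u} : Set G)) e B)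
    {χ : IrrCharacter G} (hχ : χ ∈ B) (h0 : blockHeight p B (χ : G → ℂ) = 0) :
    ¬ MemLocalIdeal M (∑ ξ : IrrCharacter (Subgroup.centralizer ({u} : Set G)), if ξ ∈ e then
      classInner (fun c : Subgroup.centralizer ({u} : Set G) => (χ : G → ℂ) c) (ξ : Subgroup.centralizer ({u} : Set G) → ℂ) * (qq p e ξ : ℂ) else 0) := by
  have := isPModular_isPrime hM
  obtain ⟨Q, f, hmax⟩ := exists_max_pair hM hind.1
  obtain ⟨y, hy⟩ := exists_blockCoeff_not_mem (isBrauerPairOf_iff.1 hmax.1).1.2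
  exact not_memLocalIdeal_sum_mult hM hmax (IsCharacter.restrict _ (IsIrrCharacter.isCharacter χ.2)) hy
    (core_unit hM _ hind hχ h0 hmax hy)

/-- The entries at height zero are units. -/
theorem not_memLocalIdeal_alpha (hM : IsPModular p M) (hu : ∃ k, orderOf u = p ^ k)
    {e : Set (IrrCharacter (Subgroup.centralizer ({u} : Set G)))}
    {B : Set (IrrCharacter G)} (hind : IsInducedBlock M (Subgroup.centralizer ({u} : Set G)) e B)
    {χ ψ : IrrCharacter G} (hχ : χ ∈ B) (h0 : blockHeight p B (χ : G → ℂ) = 0) (hψ : ψ ∈ B)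
    (h0' : blockHeight p B (ψ : G → ℂ) = 0) : ¬ MemLocalIdeal M (alpha p u e χ ψ) := by
  classical
  have := isPModular_isPrime hM
  obtain ⟨K, hK, hK', hc⟩ := alpha_congr hM hu hind.1
  have h1 := not_memLocalIdeal_S hM hind hχ h0
  have h2 := not_memLocalIdeal_S hM hind hψ h0'
  have hl : ∀ φ : IrrCharacter G, MemLocalRing M (∑ ξ : IrrCharacter (Subgroup.centralizer ({u} : Set G)), if ξ ∈ e then
      classInner (fun c : Subgroup.centralizer ({u} : Set G) => (φ : G → ℂ) c) (ξ : Subgroup.centralizer ({u} : Set G) → ℂ) * (qq p e ξ : ℂ) else 0) := by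
    intro φ
    refine memLocalRing_sum _ _ fun ξ _ => ?_
    split_ifs
    · obtain ⟨n, hn⟩ := classInner_isCharacter_nat (IsCharacter.restrict (Subgroup.centralizer ({u} : Set G))
        (IsIrrCharacter.isCharacter φ.2)) (IsIrrCharacter.isCharacter ξ.2)
      rw [hn]
      exact memLocalRing_mul (memLocalRing_natCast _) (memLocalRing_natCast _)
    · exact memLocalRing_zero
  intro hmem
  have h3 := memLocalIdeal_sub hmem (hc χ ψ)
  rw [sub_sub_cancel] at h3
  exact not_memLocalIdeal_mul (memLocalRing_mul hK (hl χ)) (hl ψ)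
    (not_memLocalIdeal_mul hK (hl χ) hK' h1) h2 h3

theorem sum_alpha_normSq (hM : IsPModular p M) (hu : ∃ k, orderOf u = p ^ k)
    {e : Set (IrrCharacter (Subgroup.centralizer ({u} : Set G)))} (he : IsPBlock M e) :
    ∑ φ : IrrCharacter G, ∑ χ : IrrCharacter G, alpha p u e φ χ * conj (alpha p u e φ χ) =
      (p : ℂ) ^ (2 * blockDefect p e) * (blockRank p e : ℂ) := by
  rw [← sum_normSq_classInner_secF hM hu he, Finset.mul_sum]
  refine Finset.sum_congr rfl fun φ _ => ?_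
  rw [Finset.mul_sum]
  refine Finset.sum_congr rfl fun χ _ => ?_
  unfold alpha
  rw [map_mul, map_pow, Complex.conj_natCast]
  ring

open Classical in
/-- **The bound for the number of characters of height zero**: `k₀(B)² ≤ p^(2q) l(e)` for a subsection `(u, e)` of the
block `B`, `q` the defect of `e`. -/
theorem sq_card_height_zero_le (hM : IsPModular p M) (hu : ∃ k, orderOf u = p ^ k)
    {e : Set (IrrCharacter (Subgroup.centralizer ({u} : Set G)))}
    {B : Set (IrrCharacter G)} (hind : IsInducedBlock M (Subgroup.centralizer ({u} : Set G)) e B) :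
    (Finset.univ.filter (fun χ : IrrCharacter G => χ ∈ B ∧ blockHeight p B (χ : G → ℂ) = 0)).card ^ 2 ≤
      p ^ (2 * blockDefect p e) * blockRank p e := by
  have := isPModular_isPrime hM
  haveI : NeZero (Nat.card G) := ⟨Nat.card_pos.ne'⟩
  have he := hind.1
  have hne := IsPBlock_nonempty he
  obtain ⟨s, hs⟩ : ∃ s, s = Finset.univ.filter (fun χ : IrrCharacter G => χ ∈ B ∧ blockHeight p B (χ : G → ℂ) = 0) := ⟨_, rfl⟩
  rw [← hs]
  obtain ⟨S, hS⟩ : ∃ S, S = (Finset.univ : Finset (IrrCharacter G × IrrCharacter G)).filter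
    (fun x => alpha p u e x.1 x.2 ≠ 0) := ⟨_, rfl⟩
  have hQ : ∑ x ∈ S, alpha p u e x.1 x.2 * conj (alpha p u e x.1 x.2) =
      (((p ^ (2 * blockDefect p e) * blockRank p e : ℕ) : ℚ) : ℂ) := by
    have h1 := sum_alpha_normSq hM hu he
    push_cast
    rw [← h1, hS, Finset.sum_filter, ← Finset.sum_product', Finset.univ_product_univ]
    refine Finset.sum_congr rfl fun x _ => ?_
    split_ifs with h
    · rfl
    · rw [not_not.1 h]
      simp
  have h2 := card_le_of_sum_eq (n := Nat.card G) S (fun x => alpha p u e x.1 x.2)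
    (fun x _ => isCyc_alpha e hne x.1 x.2)
    (fun x hx => by
      rw [hS] at hx
      exact (Finset.mem_filter.1 hx).2)
    (fun x _ => isIntegral_alpha e hne x.1 x.2) _ hQ
  have h3 : s.card ^ 2 ≤ S.card := by
    rw [sq, ← Finset.card_product]
    refine Finset.card_le_card fun x hx => ?_
    rw [Finset.mem_product, hs, Finset.mem_filter, Finset.mem_filter] at hx
    rw [hS, Finset.mem_filter]
    refine ⟨Finset.mem_univ _, ne_zero_of_not_memLocalIdeal (M := M) ?_⟩
    exact not_memLocalIdeal_alpha hM hu hind hx.1.2.1 hx.1.2.2 hx.2.2.1 hx.2.2.2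
  have h4 : S.card ≤ p ^ (2 * blockDefect p e) * blockRank p e := by
    have h5 : (S.card : ℝ) ≤ ((p ^ (2 * blockDefect p e) * blockRank p e : ℕ) : ℝ) := by
      simpa using h2
    exact_mod_cast h5
  exact h3.trans h4

end Gram

end Cfsg.Agent.Lib.BPair
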