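import Cfsg.Agent.Lib.BPair.SecAvg

/-!
# The central elements attached to a major subsection

For a class function `w` of `C = C_G(u)` in the span of a block `e` of `C`, the relative trace of
`∑ conj (w s) [u s]` is a central element of `ℂ G` on which `ψ` takes the value `|G| conj (w, F ψ) / ψ(1)`.
-/

set_option autoImplicit false
set_option linter.unusedSectionVars false
set_option linter.style.haveILetI false
set_option linter.unusedSimpArgs false
set_option linter.unnecessarySimpa false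
set_option linter.unusedVariables false

open scoped ComplexConjugate
open Module

namespace Cfsg.Agent.Lib.BPair

open Cfsg Cfsg.Agent.Lib.Char Cfsg.Agent.Lib.Block Cfsg.Agent.Lib.Core Cfsg.Agent.Lib.CharExtra

attribute [local instance] subFintype

theorem isIntegral_conj' {x : ℂ} (h : IsIntegral ℤ x) : IsIntegral ℤ (conj x) :=
  h.map (starRingEnd ℂ).toIntAlgHom

theorem isIntegral_of_coprime_mul {x : ℂ} {a b : ℕ} (hc : Nat.Coprime a b) (h1 : IsIntegral ℤ ((a : ℂ) * x))
    (h2 : IsIntegral ℤ ((b : ℂ) * x)) : IsIntegral ℤ x := by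
  have h4 := Nat.gcd_eq_gcd_ab a b
  rw [hc.gcd_eq_one] at h4
  have h6 : (1 : ℂ) = (a : ℂ) * ((Nat.gcdA a b : ℤ) : ℂ) + (b : ℂ) * ((Nat.gcdB a b : ℤ) : ℂ) := by
    exact_mod_cast h4
  have h5 : x = (a : ℂ) * x * ((Nat.gcdA a b : ℤ) : ℂ) + (b : ℂ) * x * ((Nat.gcdB a b : ℤ) : ℂ) := by
    calc x = x * 1 := (mul_one x).symm
      _ = x * ((a : ℂ) * ((Nat.gcdA a b : ℤ) : ℂ) + (b : ℂ) * ((Nat.gcdB a b : ℤ) : ℂ)) := by rw [← h6]
      _ = _ := by ring
  rw [h5]
  exact (h1.mul (isIntegral_intCast _)).add (h2.mul (isIntegral_intCast _))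

section W

variable {G : Type*} [Group G] [Fintype G] {p : ℕ} [hp : Fact p.Prime] {M : Ideal AlgInt}
  {u : G}

/-- The element of the group algebra attached to `w`. -/
noncomputable def wElt (u : G) (w : Subgroup.centralizer ({u} : Set G) → ℂ) : MonoidAlgebra ℂ G :=
  ∑ s : Subgroup.centralizer ({u} : Set G), MonoidAlgebra.single (u * s) (conj (w s))

theorem tr_wElt (φ : G → ℂ) (w : Subgroup.centralizer ({u} : Set G) → ℂ) :
    tr φ (wElt u w) = ∑ s : Subgroup.centralizer ({u} : Set G), conj (w s) * φ (u * s) := by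
  unfold wElt
  rw [tr_sum]
  exact Finset.sum_congr rfl fun s _ => tr_single _ _ _

theorem isInvBy_wElt {w : Subgroup.centralizer ({u} : Set G) → ℂ} (hw : IsClassFunction _ w) :
    IsInvBy (Subgroup.centralizer ({u} : Set G)) (wElt u w) := by
  rw [isInvBy_iff_commute]
  intro t ht
  unfold wElt
  rw [Finset.mul_sum, Finset.sum_mul]
  rw [← Equiv.sum_comp (MulAut.conj (⟨t, ht⟩ : Subgroup.centralizer ({u} : Set G))).toEquiv
    (fun s : Subgroup.centralizer ({u} : Set G) => MonoidAlgebra.single (u * (s : G)) (conj (w s)) * MonoidAlgebra.single t 1)]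
  refine Finset.sum_congr rfl fun s _ => ?_
  rw [MonoidAlgebra.single_mul_single, MonoidAlgebra.single_mul_single]
  have h1 : (MulAut.conj (⟨t, ht⟩ : Subgroup.centralizer ({u} : Set G))).toEquiv s =
      (⟨t, ht⟩ : Subgroup.centralizer ({u} : Set G)) * s * (⟨t, ht⟩ : Subgroup.centralizer ({u} : Set G))⁻¹ := rfl
  rw [h1, hw s ⟨t, ht⟩, one_mul, mul_one]
  congr 1
  have h2 : t * u = u * t := mem_centralizer_singleton.1 ht
  show t * (u * s) = u * (t * s * t⁻¹) * t
  calc t * (u * s) = (t * u) * s := by group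
    _ = (u * t) * s := by rw [h2]
    _ = u * (t * s * t⁻¹) * t := by group

theorem localCoeff_wElt [M.IsPrime] {w : Subgroup.centralizer ({u} : Set G) → ℂ} (hw : ∀ s, IsIntegral ℤ (w s)) :
    LocalCoeff M (wElt u w) := by
  unfold wElt
  refine localCoeff_sum _ _ fun s _ => localCoeff_single _ (memLocalRing_of_isIntegral ?_)
  exact isIntegral_conj' (hw s)

theorem isIntegral_coeff_wElt {w : Subgroup.centralizer ({u} : Set G) → ℂ} (hw : ∀ s, IsIntegral ℤ (w s)) (g : G) :
    IsIntegral ℤ ((wElt u w).coeff g) := by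
  classical
  unfold wElt
  rw [MonoidAlgebra.coeff_sum, Finset.sum_apply']
  refine IsIntegral.sum _ fun s _ => ?_
  rw [MonoidAlgebra.coeff_single, Finsupp.single_apply]
  split_ifs
  · exact isIntegral_conj' (hw s)
  · exact isIntegral_zero

variable [Fintype (G ⧸ Subgroup.centralizer ({u} : Set G))]

/-- The central element attached to `w`. -/
noncomputable def wCen (u : G) [Fintype (G ⧸ Subgroup.centralizer ({u} : Set G))]
    (w : Subgroup.centralizer ({u} : Set G) → ℂ) : MonoidAlgebra ℂ G :=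
  relTr (Subgroup.centralizer ({u} : Set G)) (wElt u w)

theorem isCentralElt_wCen {w : Subgroup.centralizer ({u} : Set G) → ℂ} (hw : IsClassFunction _ w) :
    IsCentralElt (wCen u w) :=
  isCentralElt_relTr (isInvBy_wElt hw)

theorem localCoeff_wCen [M.IsPrime] {w : Subgroup.centralizer ({u} : Set G) → ℂ} (hw : ∀ s, IsIntegral ℤ (w s)) :
    LocalCoeff M (wCen u w) :=
  localCoeff_relTr (localCoeff_wElt hw)

theorem isIntegral_coeff_wCen {w : Subgroup.centralizer ({u} : Set G) → ℂ} (hw : ∀ s, IsIntegral ℤ (w s)) (g : G) :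
    IsIntegral ℤ ((wCen u w).coeff g) := by
  unfold wCen
  rw [coeff_relTr]
  exact IsIntegral.sum _ fun q _ => isIntegral_coeff_wElt hw _

/-- Central characters of integral elements are integral. -/
theorem isIntegral_om_of_coeff {X : Type*} [Group X] [Fintype X] {z : MonoidAlgebra ℂ X} (hz : IsCentralElt z)
    (hi : ∀ g, IsIntegral ℤ (z.coeff g)) (ψ : IrrCharacter X) : IsIntegral ℤ (om (ψ : X → ℂ) z) := by
  classical
  haveI : Fintype (ConjClasses X) := Fintype.ofFinite _
  rw [om_eq_sum_conjClasses hz (IsCharacter.isClassFunction (IsIrrCharacter.isCharacter ψ.2))]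
  exact IsIntegral.sum _ fun c _ => (hi _).mul (isIntegral_centralChar ψ.2 _)

theorem om_wCen {w : Subgroup.centralizer ({u} : Set G) → ℂ} (ψ : IrrCharacter G) :
    om (ψ : G → ℂ) (wCen u w) = (Nat.card G : ℂ) *
      conj (classInner w (fun c : Subgroup.centralizer ({u} : Set G) => (ψ : G → ℂ) (u * c))) / (ψ : G → ℂ) 1 := by
  have hcf := IsCharacter.isClassFunction (IsIrrCharacter.isCharacter ψ.2)
  have h1 := tr_central_mul_relTr hcf (isCentralElt_one (G := G)) (Subgroup.centralizer ({u} : Set G)) (wElt u w)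
  rw [one_mul, one_mul] at h1
  unfold om wCen
  rw [h1, tr_wElt, classInner_def, map_mul, map_sum, map_inv₀, Complex.conj_natCast]
  have h2 : ((Subgroup.centralizer ({u} : Set G)).index : ℂ) * (Nat.card (Subgroup.centralizer ({u} : Set G)) : ℂ) =
      (Nat.card G : ℂ) := by
    have := (Subgroup.centralizer ({u} : Set G)).index_mul_card
    exact_mod_cast this
  have h3 : (Nat.card (Subgroup.centralizer ({u} : Set G)) : ℂ) ≠ 0 := by
    exact_mod_cast (Nat.card_pos (α := Subgroup.centralizer ({u} : Set G))).ne'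
  rw [← h2]
  congr 1
  have h4 : ∀ s : Subgroup.centralizer ({u} : Set G), conj (w s * conj ((ψ : G → ℂ) (u * s))) =
      conj (w s) * (ψ : G → ℂ) (u * s) := fun s => by
    rw [map_mul, Complex.conj_conj]
  simp_rw [h4]
  field_simp

end W

section Y

variable {G : Type*} [Group G] [Fintype G] {p : ℕ} [hp : Fact p.Prime] {M : Ideal AlgInt}
  {u : G} [Fintype (G ⧸ Subgroup.centralizer ({u} : Set G))]

theorem om_wCen_eq_secF (hM : IsPModular p M) {e : Set (IrrCharacter (Subgroup.centralizer ({u} : Set G)))} (he : IsPBlock M e)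
    {w : Subgroup.centralizer ({u} : Set G) → ℂ} (hw : w ∈ regSpan p e) (ψ : IrrCharacter G) :
    om (ψ : G → ℂ) (wCen u w) = (Nat.card G : ℂ) * conj (classInner w (secF p u e (ψ : G → ℂ))) / (ψ : G → ℂ) 1 := by
  have hcf := IsCharacter.isClassFunction (IsIrrCharacter.isCharacter ψ.2)
  unfold secF
  rw [classInner_blockProj hM he hw (isClassFunction_section _ hcf), om_wCen]

/-- The basic identity. -/
theorem mul_om_wCen (hM : IsPModular p M) {e : Set (IrrCharacter (Subgroup.centralizer ({u} : Set G)))} (he : IsPBlock M e)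
    {w : Subgroup.centralizer ({u} : Set G) → ℂ} (hw : w ∈ regSpan p e) {B : Set (IrrCharacter G)}
    {ψ : IrrCharacter G} (hψ : ψ ∈ B) :
    ((charDegree (ψ : G → ℂ) / p ^ (charDegree (ψ : G → ℂ)).factorization p : ℕ) : ℂ) * (p : ℂ) ^ blockHeight p B (ψ : G → ℂ) *
      om (ψ : G → ℂ) (wCen u w) =
    ((Nat.card G / p ^ (Nat.card G).factorization p : ℕ) : ℂ) *
      conj ((p : ℂ) ^ blockDefect p B * classInner w (secF p u e (ψ : G → ℂ))) := by
  rw [om_wCen_eq_secF hM he hw]
  obtain ⟨X, hX⟩ : ∃ X, X = conj (classInner w (secF p u e (ψ : G → ℂ))) := ⟨_, rfl⟩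
  rw [map_mul, ← hX, map_pow, Complex.conj_natCast]
  have hm1 : minExp p B ≤ (charDegree (ψ : G → ℂ)).factorization p := minExp_le hψ
  have hm2 : minExp p B ≤ (Nat.card G).factorization p := minExp_le_factorization_card ⟨ψ, hψ⟩
  have hh : blockHeight p B (ψ : G → ℂ) = (charDegree (ψ : G → ℂ)).factorization p - minExp p B := rfl
  have hd : blockDefect p B = (Nat.card G).factorization p - minExp p B := rfl
  obtain ⟨m, hm⟩ : ∃ m, m = minExp p B := ⟨_, rfl⟩
  rw [← hm] at hm1 hm2 hh hd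
  obtain ⟨v, hv⟩ : ∃ v, v = (charDegree (ψ : G → ℂ)).factorization p := ⟨_, rfl⟩
  obtain ⟨a, ha⟩ : ∃ a, a = (Nat.card G).factorization p := ⟨_, rfl⟩
  rw [hh, hd, ← hv, ← ha]
  rw [← hv] at hm1
  rw [← ha] at hm2
  obtain ⟨f, hf⟩ : ∃ f, f = charDegree (ψ : G → ℂ) / p ^ v := ⟨_, rfl⟩
  obtain ⟨g, hg⟩ : ∃ g, g = Nat.card G / p ^ a := ⟨_, rfl⟩
  rw [← hf, ← hg]
  have h1 : charDegree (ψ : G → ℂ) = p ^ v * f := by
    rw [hf, hv]
    exact (Nat.ordProj_mul_ordCompl_eq_self _ _).symm
  have h2 : Nat.card G = p ^ a * g := by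
    rw [hg, ha]
    exact (Nat.ordProj_mul_ordCompl_eq_self _ _).symm
  have hf0 : (f : ℂ) ≠ 0 := by
    intro h0
    have : f = 0 := by exact_mod_cast h0
    rw [this, mul_zero] at h1
    exact charDegree_ne_zero h1
  have hp0 : (p : ℂ) ≠ 0 := by exact_mod_cast hp.out.ne_zero
  rw [map_one_eq_charDegree (IsIrrCharacter.isCharacter ψ.2), h1, h2]
  obtain ⟨v', rfl⟩ : ∃ v', v = m + v' := ⟨v - m, by omega⟩
  obtain ⟨a', rfl⟩ : ∃ a', a = m + a' := ⟨a - m, by omega⟩
  have e1 : m + v' - m = v' := by omega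
  have e2 : m + a' - m = a' := by omega
  rw [e1, e2]
  push_cast
  simp only [pow_add]
  field_simp

variable {e : Set (IrrCharacter (Subgroup.centralizer ({u} : Set G)))} {B : Set (IrrCharacter G)}

/-- The number `Y`. -/
noncomputable def yyy (p : ℕ) [Fact p.Prime] (u : G) (e : Set (IrrCharacter (Subgroup.centralizer ({u} : Set G))))
    (B : Set (IrrCharacter G)) (w : Subgroup.centralizer ({u} : Set G) → ℂ) (ψ : IrrCharacter G) : ℂ :=
  conj ((p : ℂ) ^ blockDefect p B * classInner w (secF p u e (ψ : G → ℂ))) / (p : ℂ) ^ blockHeight p B (ψ : G → ℂ)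

theorem card_mul_yyy (hM : IsPModular p M) (he : IsPBlock M e)
    {w : Subgroup.centralizer ({u} : Set G) → ℂ} (hw : w ∈ regSpan p e)
    {ψ : IrrCharacter G} (hψ : ψ ∈ B) :
    ((Nat.card G / p ^ (Nat.card G).factorization p : ℕ) : ℂ) * yyy p u e B w ψ =
    ((charDegree (ψ : G → ℂ) / p ^ (charDegree (ψ : G → ℂ)).factorization p : ℕ) : ℂ) * om (ψ : G → ℂ) (wCen u w) := by
  have h := mul_om_wCen hM he hw hψ
  have hp0 : (p : ℂ) ^ blockHeight p B (ψ : G → ℂ) ≠ 0 := pow_ne_zero _ (by exact_mod_cast hp.out.ne_zero)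
  unfold yyy
  apply mul_right_cancel₀ hp0
  rw [mul_assoc, div_mul_cancel₀ _ hp0, ← h]
  ring

theorem isIntegral_yyy (hM : IsPModular p M) (he : IsPBlock M e)
    {w : Subgroup.centralizer ({u} : Set G) → ℂ} (hw : w ∈ regSpan p e) (hwi : ∀ s, IsIntegral ℤ (w s))
    {ψ : IrrCharacter G} (hψ : ψ ∈ B)
    (hy : IsIntegral ℤ ((p : ℂ) ^ blockDefect p B * classInner w (secF p u e (ψ : G → ℂ)))) :
    IsIntegral ℤ (yyy p u e B w ψ) := by
  have hp0 : (p : ℂ) ^ blockHeight p B (ψ : G → ℂ) ≠ 0 := pow_ne_zero _ (by exact_mod_cast hp.out.ne_zero)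
  have h1 := card_mul_yyy hM he hw hψ
  have h2 : IsIntegral ℤ (((Nat.card G / p ^ (Nat.card G).factorization p : ℕ) : ℂ) * yyy p u e B w ψ) := by
    rw [h1]
    refine (isIntegral_natCast _).mul (isIntegral_om_of_coeff (isCentralElt_wCen (regSpan_isClassFunction hw))
      (isIntegral_coeff_wCen hwi) ψ)
  have h3 : IsIntegral ℤ ((p : ℂ) ^ blockHeight p B (ψ : G → ℂ) * yyy p u e B w ψ) := by
    unfold yyy
    rw [mul_div_cancel₀ _ hp0]
    exact isIntegral_conj' hy
  have hcop : Nat.Coprime (Nat.card G / p ^ (Nat.card G).factorization p) (p ^ blockHeight p B (ψ : G → ℂ)) := by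
    apply Nat.Coprime.pow_right
    rw [Nat.coprime_comm]
    exact (Nat.Prime.coprime_iff_not_dvd hp.out).2 (Nat.not_dvd_ordCompl hp.out Nat.card_pos.ne')
  refine isIntegral_of_coprime_mul hcop h2 ?_
  push_cast
  exact h3

theorem memLocalIdeal_yyy_iff [M.IsPrime] (hM : IsPModular p M) (he : IsPBlock M e)
    {w : Subgroup.centralizer ({u} : Set G) → ℂ} (hw : w ∈ regSpan p e) (hwi : ∀ s, IsIntegral ℤ (w s))
    {ψ : IrrCharacter G} (hψ : ψ ∈ B) (hl : MemLocalRing M (yyy p u e B w ψ)) :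
    MemLocalIdeal M (yyy p u e B w ψ) ↔ MemLocalIdeal M (om (ψ : G → ℂ) (wCen u w)) := by
  have h1 := card_mul_yyy hM he hw hψ
  have hg : ¬ p ∣ Nat.card G / p ^ (Nat.card G).factorization p := Nat.not_dvd_ordCompl hp.out Nat.card_pos.ne'
  have hf : ¬ p ∣ charDegree (ψ : G → ℂ) / p ^ (charDegree (ψ : G → ℂ)).factorization p :=
    Nat.not_dvd_ordCompl hp.out charDegree_ne_zero
  have hol : MemLocalRing M (om (ψ : G → ℂ) (wCen u w)) :=
    memLocalRing_om ψ.2 (isCentralElt_wCen (regSpan_isClassFunction hw)) (localCoeff_wCen hwi)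
  constructor
  · intro h
    have h2 := memLocalIdeal_mul_left (memLocalRing_natCast (M := M) (Nat.card G / p ^ (Nat.card G).factorization p)) h
    rw [h1, mul_comm] at h2
    exact memLocalIdeal_of_mul_unit (memLocalRing_natCast _) (not_memLocalIdeal_natCast hM hf) h2
  · intro h
    have h2 := memLocalIdeal_mul_left (memLocalRing_natCast (M := M) (charDegree (ψ : G → ℂ) / p ^ (charDegree (ψ : G → ℂ)).factorization p)) h
    rw [← h1, mul_comm] at h2
    exact memLocalIdeal_of_mul_unit (memLocalRing_natCast _) (not_memLocalIdeal_natCast hM hg) h2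

/-- Congruence over the block. -/
theorem memLocalIdeal_yyy_congr [M.IsPrime] (hM : IsPModular p M) (he : IsPBlock M e) (hB : IsPBlock M B)
    {w : Subgroup.centralizer ({u} : Set G) → ℂ} (hw : w ∈ regSpan p e) (hwi : ∀ s, IsIntegral ℤ (w s))
    {ψ ψ' : IrrCharacter G} (hψ : ψ ∈ B) (hψ' : ψ' ∈ B) (hl : MemLocalRing M (yyy p u e B w ψ))
    (hl' : MemLocalRing M (yyy p u e B w ψ')) (h : MemLocalIdeal M (yyy p u e B w ψ)) :
    MemLocalIdeal M (yyy p u e B w ψ') := by
  rw [memLocalIdeal_yyy_iff hM he hw hwi hψ hl] at h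
  rw [memLocalIdeal_yyy_iff hM he hw hwi hψ' hl']
  have h1 := memLocalIdeal_om_sub ψ.2 ψ'.2 (sameBlock_of_mem hB hψ hψ')
    (isCentralElt_wCen (regSpan_isClassFunction hw)) (localCoeff_wCen (M := M) hwi)
  have h2 := memLocalIdeal_sub h h1
  rwa [sub_sub_cancel] at h2

end Y

end Cfsg.Agent.Lib.BPair
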