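import Cfsg.Agent.Lib.BPair.Conj

/-!
# Maximal Brauer pairs

Maximal Brauer pairs of a block are conjugate and their subgroups are the defect groups.
-/

set_option autoImplicit false
set_option linter.unusedSectionVars false
set_option linter.unusedSimpArgs false
set_option linter.unusedVariables false

open scoped ComplexConjugate
open Cfsg MonoidAlgebra
open Cfsg.Agent.Lib.Block Cfsg.Agent.Lib.Char Cfsg.Agent.Lib.CharExtra

namespace Cfsg.Agent.Lib.BPair

attribute [local instance] subFintype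

section RelTr

variable {G : Type*} [Group G] [Fintype G] {M : Ideal AlgInt} [hMp : M.IsPrime] {p : ℕ} [hp : Fact p.Prime]
variable {T : Subgroup G} {z : MonoidAlgebra ℂ G}

theorem conjElt_one' (z : MonoidAlgebra ℂ G) : conjElt (1 : G) z = z := by
  apply ext_coeff
  intro h
  rw [coeff_conjElt]
  simp

theorem conjElt_mul' (x y : G) (z : MonoidAlgebra ℂ G) : conjElt (x * y) z = conjElt x (conjElt y z) := by
  apply ext_coeff
  intro h
  simp only [coeff_conjElt]
  congr 1
  group

theorem conjElt_mul_of_inv (hz : IsInvBy T z) (x : G) {t : G} (ht : t ∈ T) : conjElt (x * t) z = conjElt x z := by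
  apply ext_coeff
  intro h
  rw [coeff_conjElt, coeff_conjElt]
  have e : (x * t)⁻¹ * h * (x * t) = t⁻¹ * (x⁻¹ * h * x) * t⁻¹⁻¹ := by group
  rw [e]
  exact hz _ (T.inv_mem ht) _

theorem conjElt_out_smul (hz : IsInvBy T z) (g : G) (q : G ⧸ T) :
    conjElt (g • q).out z = conjElt (g * q.out) z := by
  have h1 : ((g • q).out : G ⧸ T) = ((g * q.out : G) : G ⧸ T) := by
    rw [QuotientGroup.out_eq']
    conv_lhs => rw [← QuotientGroup.out_eq' q]
    rfl
  have h2 : (g * q.out)⁻¹ * (g • q).out ∈ T := QuotientGroup.eq.1 h1.symm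
  have h3 : (g • q).out = (g * q.out) * ((g * q.out)⁻¹ * (g • q).out) := by group
  rw [h3, conjElt_mul_of_inv hz _ h2]

/-- The relative trace. -/
noncomputable def relTr (T : Subgroup G) [Fintype (G ⧸ T)] (z : MonoidAlgebra ℂ G) : MonoidAlgebra ℂ G :=
  ∑ q : G ⧸ T, conjElt q.out z

variable [Fintype (G ⧸ T)]

theorem coeff_relTr (z : MonoidAlgebra ℂ G) (h : G) :
    (relTr T z).coeff h = ∑ q : G ⧸ T, z.coeff (q.out⁻¹ * h * q.out) := by
  unfold relTr
  rw [MonoidAlgebra.coeff_sum, Finset.sum_apply']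
  exact Finset.sum_congr rfl fun q _ => coeff_conjElt _ _ _

theorem isCentralElt_relTr (hz : IsInvBy T z) : IsCentralElt (relTr T z) := by
  classical
  intro g h
  rw [coeff_relTr, coeff_relTr]
  rw [← Equiv.sum_comp (MulAction.toPerm g : Equiv.Perm (G ⧸ T))]
  refine Finset.sum_congr rfl fun q _ => ?_
  have h1 := congrArg (fun w => MonoidAlgebra.coeff w (g * h * g⁻¹)) (conjElt_out_smul hz g q)
  simp only [coeff_conjElt] at h1
  show z.coeff ((g • q).out⁻¹ * (g * h * g⁻¹) * (g • q).out) = _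
  rw [h1]
  congr 1
  group

theorem localCoeff_relTr (hz : LocalCoeff M z) : LocalCoeff M (relTr T z) := by
  unfold relTr
  exact localCoeff_sum _ _ fun q _ => localCoeff_conjElt _ hz

theorem relTr_mul_central {y : MonoidAlgebra ℂ G} (hy : IsCentralElt y) : relTr T z * y = relTr T (z * y) := by
  unfold relTr
  rw [Finset.sum_mul]
  refine Finset.sum_congr rfl fun q _ => ?_
  rw [conjElt_mul_distrib, conjElt_of_central hy]

omit [Fintype (G ⧸ T)] in
theorem resAlg_conjElt_smul (hz : IsInvBy T z) {Q : Subgroup G} (u : Q) (q : G ⧸ T) :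
    resAlg (Cen Q) (conjElt (u • q).out z) = resAlg (Cen Q) (conjElt q.out z) := by
  have h0 : (u • q) = (u : G) • q := rfl
  rw [h0, conjElt_out_smul hz]
  apply ext_coeff
  intro c
  rw [coeff_resAlg, coeff_resAlg, conjElt_mul', coeff_conjElt (u : G)]
  have h1 : (u : G)⁻¹ * (c : G) * u = c := by
    have := Subgroup.mem_centralizer_iff.1 c.2 u u.2
    calc (u : G)⁻¹ * (c : G) * u = (u : G)⁻¹ * ((c : G) * u) := by group
      _ = (u : G)⁻¹ * ((u : G) * c) := by rw [this]
      _ = c := by group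
  rw [h1]

omit [Fintype (G ⧸ T)] in
theorem conj_mem_of_fixed {Q : Subgroup G} {q : G ⧸ T} (h : ∀ u : Q, u • q = q) {u : G} (hu : u ∈ Q) :
    q.out⁻¹ * u * q.out ∈ T := by
  have h1 := h ⟨u, hu⟩
  have h2 : ((u * q.out : G) : G ⧸ T) = q := by
    conv_rhs => rw [← h1, ← QuotientGroup.out_eq' q]
    rfl
  have h3 : ((q.out : G) : G ⧸ T) = ((u * q.out : G) : G ⧸ T) := by rw [h2, QuotientGroup.out_eq']
  have h4 := QuotientGroup.eq.1 h3
  simpa [mul_assoc] using h4

end RelTr

section Stab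

variable {G : Type*} [Group G] [Fintype G] {M : Ideal AlgInt} [hMp : M.IsPrime] {p : ℕ} [hp : Fact p.Prime]

theorem stabilizes_one {K : Subgroup G} {e : Set (IrrCharacter K)} : StabilizesBlock K e 1 := by
  refine ⟨Subgroup.one_mem _, fun χ hχ => ⟨χ, hχ, fun k k' hk => ?_⟩⟩
  have : k' = k := Subtype.ext (by simpa using hk)
  rw [this]

theorem stabilizes_mul {K : Subgroup G} {e : Set (IrrCharacter K)} (he : IsPBlock M e) {x y : G}
    (hx : StabilizesBlock K e x) (hy : StabilizesBlock K e y) : StabilizesBlock K e (x * y) := by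
  obtain ⟨hx1, hx2⟩ := (stabilizes_iff he).1 hx
  obtain ⟨hy1, hy2⟩ := (stabilizes_iff he).1 hy
  refine (stabilizes_iff he).2 ⟨Subgroup.mul_mem _ hx1 hy1, ?_⟩
  have e1 : nConj (Subgroup.mul_mem _ hx1 hy1) = (nConj hy1).trans (nConj hx1) := by
    ext c
    show (x * y) * (c : G) * (x * y)⁻¹ = x * (y * c * y⁻¹) * x⁻¹
    group
  rw [e1, mapBlock_trans, hy2, hx2]

theorem stabilizes_inv {K : Subgroup G} {e : Set (IrrCharacter K)} (he : IsPBlock M e) {x : G}
    (hx : StabilizesBlock K e x) : StabilizesBlock K e x⁻¹ := by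
  obtain ⟨hx1, hx2⟩ := (stabilizes_iff he).1 hx
  refine (stabilizes_iff he).2 ⟨Subgroup.inv_mem _ hx1, ?_⟩
  have e1 : nConj (Subgroup.inv_mem _ hx1) = (nConj hx1).symm := by
    ext c
    show x⁻¹ * (c : G) * x⁻¹⁻¹ = x⁻¹ * c * x
    group
  rw [e1]
  conv_lhs => rw [← hx2]
  exact mapBlock_symm_mapBlock _ _

/-- The stabilizer of a pair. -/
theorem exists_pairT {P : Subgroup G} {e : Set (IrrCharacter (Cen P))} (he : IsPBlock M e) :
    ∃ T : Subgroup G, ∀ y, y ∈ T ↔ y ∈ Subgroup.normalizer (P : Set G) ∧ StabilizesBlock (Cen P) e y := by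
  refine ⟨{ carrier := {y | y ∈ Subgroup.normalizer (P : Set G) ∧ StabilizesBlock (Cen P) e y}
            mul_mem' := fun hx hy => ⟨Subgroup.mul_mem _ hx.1 hy.1, stabilizes_mul he hx.2 hy.2⟩
            one_mem' := ⟨Subgroup.one_mem _, stabilizes_one⟩
            inv_mem' := fun hx => ⟨Subgroup.inv_mem _ hx.1, stabilizes_inv he hx.2⟩ }, fun y => Iff.rfl⟩

theorem stabilizes_of_mem {P : Subgroup G} {e : Set (IrrCharacter (Cen P))} {x : G} (hx : x ∈ P) :
    StabilizesBlock (Cen P) e x := by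
  refine ⟨normalizer_le_normalizer_cen (Subgroup.le_normalizer hx), fun χ hχ => ⟨χ, hχ, fun k k' hk => ?_⟩⟩
  have h1 := Subgroup.mem_centralizer_iff.1 k.2 x hx
  have : k' = k := Subtype.ext (by rw [hk, h1]; group)
  rw [this]

theorem card_cj (x : G) (Q : Subgroup G) : Nat.card (cj x Q) = Nat.card Q :=
  Subgroup.card_map_of_injective (MulAut.conj x).injective

theorem eq_of_cj_le {x : G} {P : Subgroup G} (h : cj x P ≤ P) : cj x P = P :=
  Subgroup.eq_of_le_of_card_ge h (card_cj x P).ge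

theorem mem_normalizer_of_cj_eq {x : G} {P : Subgroup G} (h : cj x P = P) :
    x ∈ Subgroup.normalizer (P : Set G) := by
  rw [Subgroup.mem_normalizer_iff]
  intro u
  constructor
  · intro hu
    have hu' : u ∈ P := hu
    rw [← h] at hu'
    exact h ▸ conj_mem_cj.2 hu
  · intro hu
    have hu' : x * u * x⁻¹ ∈ P := hu
    rw [← h] at hu'
    exact conj_mem_cj.1 hu'

end Stab

section Max

variable {G : Type*} [Group G] [Fintype G] {M : Ideal AlgInt} [hMp : M.IsPrime] {p : ℕ} [hp : Fact p.Prime]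
  {B : Set (IrrCharacter G)} {P : Subgroup G} {e : Set (IrrCharacter (Cen P))}

/-- Above a maximal pair, the truncation vanishes. -/
theorem resAlg_Ee_of_max (hM : IsPModular p M) (hmax : IsMaximalBrauerPair p M B P e) {R : Subgroup G}
    (hR : IsPGroup p R) (hPR : P ≤ R) (hne : R ≠ P) (hRN : R ≤ Subgroup.normalizer (P : Set G))
    (hRst : ∀ x ∈ R, StabilizesBlock (Cen P) e x) : LocalIdealCoeff M (resAlg (Cen R) (Ee P e)) := by
  classical
  obtain ⟨hPB, -⟩ := id hmax
  obtain ⟨hPe, hB, -⟩ := isBrauerPairOf_iff.1 hPB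
  have he := hPe.2
  have hCinv : IsInvBy (Cen R) (Ee P e) := isInvBy_Ee_of_le (cen_le_cen hPR) e
  have hRinv : IsInvBy R (Ee P e) := isInvBy_Ee_of_stable he hRst
  have hl := localCoeff_Ee he
  refine localIdealCoeff_of_idem_of_om (isCentralElt_resAlg_of_isInvBy hCinv) (localCoeff_resAlg _ hl) ?_ ?_
  · have h := localIdealCoeff_resAlg_mul_sub hM hR hRinv hRinv hl hl
    rw [Ee_mul_self] at h
    have := localIdealCoeff_neg h
    simpa using this
  · intro ξ
    rcases om_idem_cases hM hR ξ hRinv hCinv hl (Ee_mul_self P e) with h | h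
    · exact h
    · exfalso
      have hg : IsPBlock M (blockOf M (ξ : Cen R → ℂ)) := isPBlock_blockOf ξ
      have hn : IsNormalSubpair p M P e R (blockOf M (ξ : Cen R → ℂ)) :=
        isNormalSubpair_iff.2 ⟨hPe, ⟨hR, hg⟩, hPR, hRN, hRst,
          fun η hη => om_block_congr hg hη (mem_blockOf_self ξ) hCinv hl h⟩
      exact hne (hmax.2 R _ (isBrauerPairOf_of_normal_up hM hn hPB) (Relation.ReflTransGen.single hn))

/-- If the coefficient of the idempotent at `c` is a unit, `p`-subgroups of the stabilizer centralizing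
`c` lie in `P`. -/
theorem le_of_coeff_not_mem (hM : IsPModular p M) (hmax : IsMaximalBrauerPair p M B P e) {T : Subgroup G}
    (hT : ∀ y, y ∈ T ↔ y ∈ Subgroup.normalizer (P : Set G) ∧ StabilizesBlock (Cen P) e y)
    {R₀ : Subgroup G} (hR₀ : IsPGroup p R₀) (hR₀T : R₀ ≤ T) {c : G}
    (hc : ¬ MemLocalIdeal M ((Ee P e).coeff c)) (hcR : R₀ ≤ Subgroup.centralizer ({c} : Set G)) : R₀ ≤ P := by
  classical
  have hPe := (isBrauerPairOf_iff.1 hmax.1).1
  have hcP : c ∈ Cen P := by
    by_contra h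
    apply hc
    unfold Ee
    rw [coeff_incl_of_notMem _ _ h]
    exact memLocalIdeal_zero
  have hPT : P ≤ T := fun x hx => (hT x).2 ⟨Subgroup.le_normalizer hx, stabilizes_of_mem hx⟩
  have hRT : P ⊔ R₀ ≤ T := sup_le hPT hR₀T
  have hRp : IsPGroup p (P ⊔ R₀ : Subgroup G) := by
    exact hPe.1.to_sup_of_normal_left' hR₀ (fun x hx => ((hT x).1 (hR₀T hx)).1)
  by_contra hnot
  have hne : P ⊔ R₀ ≠ P := fun h => hnot (by rw [← h]; exact le_sup_right)
  have h1 := resAlg_Ee_of_max hM hmax hRp le_sup_left hne (fun x hx => ((hT x).1 (hRT hx)).1)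
    (fun x hx => ((hT x).1 (hRT hx)).2)
  have hPc : P ≤ Subgroup.centralizer ({c} : Set G) := by
    intro u hu
    rw [Subgroup.mem_centralizer_singleton_iff]
    exact Subgroup.mem_centralizer_iff.1 hcP u hu
  have hcC : c ∈ Cen (P ⊔ R₀) := by
    rw [Subgroup.mem_centralizer_iff]
    intro u hu
    have := (sup_le hPc hcR) hu
    rwa [Subgroup.mem_centralizer_singleton_iff] at this
  have h2 := h1 ⟨c, hcC⟩
  rw [coeff_resAlg] at h2
  exact hc h2

theorem resAlg_Ee_self (P : Subgroup G) (e : Set (IrrCharacter (Cen P))) :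
    resAlg (Cen P) (Ee P e) = blockElt e := by
  unfold Ee
  exact resAlg_incl _ _

/-- The relative trace of the idempotent truncates to something acting as the identity on `e`. -/
theorem resAlg_relTr_mul_blockElt (hM : IsPModular p M) (hmax : IsMaximalBrauerPair p M B P e) {T : Subgroup G}
    (hT : ∀ y, y ∈ T ↔ y ∈ Subgroup.normalizer (P : Set G) ∧ StabilizesBlock (Cen P) e y) [Fintype (G ⧸ T)] :
    LocalIdealCoeff M (resAlg (Cen P) (relTr T (Ee P e)) * blockElt e - blockElt e) := by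
  classical
  obtain ⟨hPe, hB, -⟩ := isBrauerPairOf_iff.1 hmax.1
  have he := hPe.2
  have hPT : P ≤ T := fun x hx => (hT x).2 ⟨Subgroup.le_normalizer hx, stabilizes_of_mem hx⟩
  have hTinv : IsInvBy T (Ee P e) := isInvBy_Ee_of_stable he (fun x hx => ((hT x).1 hx).2)
  have hl := localCoeff_Ee he
  have hel : LocalCoeff M (blockElt e) := localCoeff_blockElt (isBlockUnion_of_isPBlock he)
  intro c
  have hsum : (resAlg (Cen P) (relTr T (Ee P e)) * blockElt e - blockElt e).coeff c =
      ∑ q : G ⧸ T, ((resAlg (Cen P) (conjElt q.out (Ee P e)) * blockElt e).coeff c -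
        (if q = ((1 : G) : G ⧸ T) then (blockElt e).coeff c else 0)) := by
    rw [Finset.sum_sub_distrib, Finset.sum_ite_eq' Finset.univ ((1 : G) : G ⧸ T), if_pos (Finset.mem_univ _)]
    unfold relTr
    rw [resAlg_sum, Finset.sum_mul, MonoidAlgebra.coeff_sub, Finsupp.sub_apply, MonoidAlgebra.coeff_sum,
      Finset.sum_apply']
  rw [hsum]
  refine memLocalIdeal_sum_of_fixed hM (Γ := P) hPe.1 _ ?_ ?_ ?_
  · intro u q
    have h1 : (u • q = ((1 : G) : G ⧸ T)) ↔ q = ((1 : G) : G ⧸ T) := by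
      have h2 : u • ((1 : G) : G ⧸ T) = ((1 : G) : G ⧸ T) := by
        show ((u : G) • ((1 : G) : G ⧸ T)) = ((1 : G) : G ⧸ T)
        rw [MulAction.Quotient.smul_coe, QuotientGroup.eq]
        simpa using T.inv_mem (hPT u.2)
      constructor
      · intro h
        rw [← h2] at h
        exact smul_left_cancel _ h
      · rintro rfl
        exact h2
    simp only [h1]
    rw [resAlg_conjElt_smul hTinv]
  · intro q
    refine memLocalRing_sub (localCoeff_mul (localCoeff_resAlg _ (localCoeff_conjElt _ hl)) hel c) ?_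
    split_ifs
    · exact hel c
    · exact memLocalRing_zero
  · intro q hq
    by_cases hq1 : q = ((1 : G) : G ⧸ T)
    · subst hq1
      have h1 : conjElt ((1 : G) : G ⧸ T).out (Ee P e) = Ee P e := by
        have h2 : ((1 : G) : G ⧸ T).out ∈ T := by
          have h3 : (((1 : G) : G ⧸ T).out : G ⧸ T) = ((1 : G) : G ⧸ T) := QuotientGroup.out_eq' _
          have h4 := QuotientGroup.eq.1 h3.symm
          simpa using h4
        have h3 := conjElt_mul_of_inv hTinv (1 : G) h2
        rw [one_mul, conjElt_one'] at h3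
        exact h3
      rw [if_pos rfl, h1, resAlg_Ee_self, blockElt_mul_self, sub_self]
      exact memLocalIdeal_zero
    · rw [if_neg hq1, sub_zero]
      obtain ⟨x, hx⟩ : ∃ x, x = q.out := ⟨_, rfl⟩
      rw [← hx]
      have hxq : ((x : G) : G ⧸ T) = q := by rw [hx, QuotientGroup.out_eq']
      have hcjT : cj x⁻¹ P ≤ T := by
        intro u hu
        have h1 := mem_cj.1 hu
        rw [inv_inv] at h1
        have := conj_mem_of_fixed (T := T) hq (u := x * u * x⁻¹) h1
        rw [← hx] at this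
        have e1 : x⁻¹ * (x * u * x⁻¹) * x = u := by group
        rwa [e1] at this
      by_cases hxN : x ∈ Subgroup.normalizer (P : Set G)
      · have hxC := normalizer_le_normalizer_cen hxN
        rw [← Ee_mapBlock hxC, resAlg_Ee_self]
        have hne : mapBlock (nConj hxC) e ≠ e := by
          intro h
          apply hq1
          have h2 : x ∈ T := (hT x).2 ⟨hxN, (stabilizes_iff he).2 ⟨hxC, h⟩⟩
          rw [← hxq, QuotientGroup.eq]
          simpa using T.inv_mem h2
        rw [blockElt_mul_eq_zero_of_ne (isPBlock_mapBlock _ he) he hne]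
        simpa using memLocalIdeal_zero
      · have h2 : LocalIdealCoeff M (resAlg (Cen P) (conjElt x (Ee P e))) := by
          intro d
          rw [coeff_resAlg, coeff_conjElt]
          by_contra hd
          apply hxN
          have hcen : cj x⁻¹ P ≤ Subgroup.centralizer ({x⁻¹ * (d : G) * x} : Set G) := by
            intro u hu
            have h1 := mem_cj.1 hu
            rw [inv_inv] at h1
            rw [Subgroup.mem_centralizer_singleton_iff]
            have h3 := Subgroup.mem_centralizer_iff.1 d.2 _ h1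
            calc u * (x⁻¹ * (d : G) * x) = x⁻¹ * ((x * u * x⁻¹) * d) * x := by group
              _ = x⁻¹ * ((d : G) * (x * u * x⁻¹)) * x := by rw [h3]
              _ = x⁻¹ * (d : G) * x * u := by group
          have hle := le_of_coeff_not_mem hM hmax hT (hPe.1.map _) hcjT hd hcen
          have h3 := mem_normalizer_of_cj_eq (eq_of_cj_le hle)
          simpa using Subgroup.inv_mem _ h3
        exact localIdealCoeff_mul_right h2 hel c

theorem om_relTr (hM : IsPModular p M) (hmax : IsMaximalBrauerPair p M B P e) {T : Subgroup G}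
    (hT : ∀ y, y ∈ T ↔ y ∈ Subgroup.normalizer (P : Set G) ∧ StabilizesBlock (Cen P) e y) [Fintype (G ⧸ T)]
    {ξ : IrrCharacter (Cen P)} (hξ : ξ ∈ e) :
    MemLocalIdeal M (om (ξ : Cen P → ℂ) (resAlg (Cen P) (relTr T (Ee P e))) - 1) := by
  classical
  obtain ⟨hPe, hB, -⟩ := isBrauerPairOf_iff.1 hmax.1
  have he := hPe.2
  have hTinv : IsInvBy T (Ee P e) := isInvBy_Ee_of_stable he (fun x hx => ((hT x).1 hx).2)
  have hc : IsCentralElt (resAlg (Cen P) (relTr T (Ee P e))) :=
    isCentralElt_resAlg_of_isInvBy ((isCentralElt_relTr hTinv).isInvBy _)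
  have h := memLocalIdeal_om_of_localIdealCoeff ξ.2
    (isCentralElt_sub (isCentralElt_mul hc (isCentralElt_blockElt e)) (isCentralElt_blockElt e))
    (resAlg_relTr_mul_blockElt hM hmax hT)
  rw [om_sub, om_mul ξ.2 hc, om_blockElt_of_mem hξ, mul_one] at h
  exact h

theorem memLocalIdeal_mul_sub_one {a b : ℂ} (ha : MemLocalIdeal M (a - 1)) (hb : MemLocalIdeal M (b - 1))
    (hbl : MemLocalRing M b) : MemLocalIdeal M (a * b - 1) := by
  have e : a * b - 1 = (a - 1) * b + (b - 1) := by ring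
  rw [e]
  exact memLocalIdeal_add (memLocalIdeal_mul_right ha hbl) hb

theorem memLocalIdeal_congr_one {x y : ℂ} (h1 : MemLocalIdeal M (x - y)) (h2 : MemLocalIdeal M (y - 1)) :
    MemLocalIdeal M (x - 1) := by
  have e : x - 1 = (x - y) + (y - 1) := by ring
  rw [e]
  exact memLocalIdeal_add h1 h2

/-- The central character of the relative trace does not vanish on `B`. -/
theorem not_memLocalIdeal_om_relTr (hM : IsPModular p M) (hmax : IsMaximalBrauerPair p M B P e) {T : Subgroup G}
    (hT : ∀ y, y ∈ T ↔ y ∈ Subgroup.normalizer (P : Set G) ∧ StabilizesBlock (Cen P) e y) [Fintype (G ⧸ T)]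
    {χ : IrrCharacter G} (hχ : χ ∈ B) : ¬ MemLocalIdeal M (om (χ : G → ℂ) (relTr T (Ee P e))) := by
  classical
  intro hin
  obtain ⟨hPe, hB, hom⟩ := isBrauerPairOf_iff.1 hmax.1
  have he := hPe.2
  have hP := hPe.1
  have hTinv : IsInvBy T (Ee P e) := isInvBy_Ee_of_stable he (fun x hx => ((hT x).1 hx).2)
  have hwc : IsCentralElt (relTr T (Ee P e)) := isCentralElt_relTr hTinv
  have hwl : LocalCoeff M (relTr T (Ee P e)) := localCoeff_relTr (localCoeff_Ee he)
  have hbc := isCentralElt_blockElt B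
  have hbl : LocalCoeff M (blockElt B) := localCoeff_blockElt (isBlockUnion_of_isPBlock hB)
  obtain ⟨z, hz⟩ : ∃ z, z = blockElt B * relTr T (Ee P e) := ⟨_, rfl⟩
  have hzc : IsCentralElt z := hz ▸ isCentralElt_mul hbc hwc
  have hzl : LocalCoeff M z := hz ▸ localCoeff_mul hbl hwl
  have hzom : ∀ ξ : IrrCharacter G, MemLocalIdeal M (om (ξ : G → ℂ) z) := by
    intro ξ
    rw [hz, om_mul ξ.2 hbc]
    by_cases hξ : ξ ∈ B
    · rw [om_blockElt_of_mem hξ, one_mul]
      have h1 := memLocalIdeal_om_sub ξ.2 χ.2 (sameBlock_of_mem hB hξ hχ) hwc hwl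
      simpa using memLocalIdeal_add h1 hin
    · rw [om_blockElt_of_notMem hξ, zero_mul]
      exact memLocalIdeal_zero
  have hpow := localIdealCoeff_pow_of_om hzc hzl hzom
  obtain ⟨ξ, hξ⟩ := IsPBlock_nonempty he
  have hzinv : ∀ k : ℕ, IsCentralElt (z ^ k) := fun k => isCentralElt_pow hzc k
  have h1z : MemLocalIdeal M (om (ξ : Cen P → ℂ) (resAlg (Cen P) z) - 1) := by
    rw [hz]
    have h2 := om_mul_congr hM hP ξ (hbc.isInvBy P) (hwc.isInvBy P) (hbc.isInvBy _) (hwc.isInvBy _) hbl hwl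
    refine memLocalIdeal_congr_one h2 (memLocalIdeal_mul_sub_one (hom ξ hξ) (om_relTr hM hmax hT hξ) ?_)
    exact memLocalRing_om ξ.2 (isCentralElt_resAlg_of_isInvBy (hwc.isInvBy _)) (localCoeff_resAlg _ hwl)
  have hzlo : MemLocalRing M (om (ξ : Cen P → ℂ) (resAlg (Cen P) z)) :=
    memLocalRing_om ξ.2 (isCentralElt_resAlg_of_isInvBy (hzc.isInvBy _)) (localCoeff_resAlg _ hzl)
  have key : ∀ k : ℕ, MemLocalIdeal M (om (ξ : Cen P → ℂ) (resAlg (Cen P) (z ^ k)) - 1) := by
    intro k
    induction k with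
    | zero =>
      rw [pow_zero, resAlg_one, om_one ξ.2, sub_self]
      exact memLocalIdeal_zero
    | succ k ih =>
      rw [pow_succ]
      have h2 := om_mul_congr hM hP ξ ((hzinv k).isInvBy P) (hzc.isInvBy P) ((hzinv k).isInvBy _) (hzc.isInvBy _)
        (localCoeff_pow hzl k) hzl
      exact memLocalIdeal_congr_one h2 (memLocalIdeal_mul_sub_one ih h1z hzlo)
  have h3 := key (Fintype.card (IrrCharacter G))
  have h4 := memLocalIdeal_om_of_localIdealCoeff ξ.2
    (isCentralElt_resAlg_of_isInvBy ((hzinv _).isInvBy _)) (localIdealCoeff_resAlg (H := Cen P) hpow)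
  apply not_memLocalIdeal_one (M := M)
  simpa using memLocalIdeal_sub h4 h3

/-- A central local element with non-vanishing central character on `B` divides the block idempotent
modulo the local ideal. -/
theorem exists_block_factor' {B : Set (IrrCharacter G)} (hB : IsPBlock M B) {χ : IrrCharacter G}
    (hχ : χ ∈ B) {z : MonoidAlgebra ℂ G} (hzc : IsCentralElt z) (hzl : LocalCoeff M z)
    (hz : ¬ MemLocalIdeal M (om (χ : G → ℂ) z)) :
    ∃ w : MonoidAlgebra ℂ G, IsCentralElt w ∧ LocalCoeff M w ∧ LocalIdealCoeff M (blockElt B - z * w) := by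
  classical
  set t := om (χ : G → ℂ) z with ht
  have htl : MemLocalRing M t := memLocalRing_om χ.2 hzc hzl
  have htil : MemLocalRing M t⁻¹ := memLocalRing_inv htl hz
  have ht0 : t ≠ 0 := ne_zero_of_not_memLocalIdeal hz
  set f := blockElt B with hf
  have hfc : IsCentralElt f := isCentralElt_blockElt B
  have hfl : LocalCoeff M f := localCoeff_blockElt (isBlockUnion_of_isPBlock hB)
  set v := t⁻¹ • z - 1 with hv
  have hvc : IsCentralElt v := isCentralElt_sub (isCentralElt_smul _ hzc) isCentralElt_one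
  have hvl : LocalCoeff M v := localCoeff_sub (localCoeff_smul htil hzl) localCoeff_one
  set x := -(v * f) with hx
  have hxc : IsCentralElt x := by
    have : x = (-1 : ℂ) • (v * f) := by simp [hx]
    rw [this]
    exact isCentralElt_smul _ (isCentralElt_mul hvc hfc)
  have hxl : LocalCoeff M x := localCoeff_neg (localCoeff_mul hvl hfl)
  have hom : ∀ ξ : IrrCharacter G, MemLocalIdeal M (om (ξ : G → ℂ) x) := by
    intro ξ
    have h0 : om (ξ : G → ℂ) x = -(om (ξ : G → ℂ) v * om (ξ : G → ℂ) f) := by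
      have : x = (-1 : ℂ) • (v * f) := by simp [hx]
      rw [this, om_smul, om_mul ξ.2 hvc]
      ring
    rw [h0]
    apply memLocalIdeal_neg
    by_cases hξ : ξ ∈ B
    · rw [om_blockElt_of_mem hξ, mul_one, hv, om_sub, om_smul, om_one ξ.2]
      have h1 : t⁻¹ * om (ξ : G → ℂ) z - 1 = t⁻¹ * (om (ξ : G → ℂ) z - t) := by
        field_simp
      rw [h1]
      exact memLocalIdeal_mul_left htil (memLocalIdeal_om_sub ξ.2 χ.2 (sameBlock_of_mem hB hξ hχ) hzc hzl)
    · rw [om_blockElt_of_notMem hξ, mul_zero]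
      exact memLocalIdeal_zero
  set m := Fintype.card (IrrCharacter G) with hm
  have hxm : LocalIdealCoeff M (x ^ m) := localIdealCoeff_pow_of_om hxc hxl hom
  set g := ∑ i ∈ Finset.range m, x ^ i with hg
  have hgc : IsCentralElt g := isCentralElt_sum _ _ fun i _ => isCentralElt_pow hxc i
  have hgl : LocalCoeff M g := localCoeff_sum _ _ fun i _ => localCoeff_pow hxl i
  refine ⟨t⁻¹ • (f * g), isCentralElt_smul _ (isCentralElt_mul hfc hgc),
    localCoeff_smul htil (localCoeff_mul hfl hgl), ?_⟩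
  have hgeom : (1 - x) * g = 1 - x ^ m := mul_neg_geom_sum x m
  have hK2 : t⁻¹ • z = 1 + v := by
    rw [hv]
    abel
  have h1 : (1 + v) * f = f * (1 - x) := by
    rw [hx, sub_neg_eq_add, add_mul, one_mul, mul_add, mul_one, ← mul_assoc, isCentralElt_commute hfc v,
      mul_assoc, blockElt_mul_self]
  have h2 : z * (t⁻¹ • (f * g)) = f - f * x ^ m := by
    rw [mul_smul_comm, ← smul_mul_assoc, hK2, ← mul_assoc, h1, mul_assoc, hgeom, mul_sub, mul_one]
  rw [h2, sub_sub_cancel]
  exact localIdealCoeff_mul_left hfl hxm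

/-- **Key lemma**: any pair of `B` is conjugate under the maximal pair, in a strong sense. -/
theorem exists_conj_le_of_pair (hM : IsPModular p M) (hmax : IsMaximalBrauerPair p M B P e) {Q : Subgroup G}
    {f : Set (IrrCharacter (Cen Q))} (hQf : IsBrauerPairOf p M B Q f) :
    ∃ x : G, cj x⁻¹ Q ≤ P ∧ ¬ LocalIdealCoeff M (resAlg (Cen Q) (conjElt x (Ee P e)) * blockElt f) := by
  classical
  obtain ⟨hPe, hB, -⟩ := isBrauerPairOf_iff.1 hmax.1
  obtain ⟨hQf', -, hom⟩ := isBrauerPairOf_iff.1 hQf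
  have he := hPe.2
  have hf := hQf'.2
  have hQ := hQf'.1
  obtain ⟨T, hT⟩ := exists_pairT he
  haveI : Fintype (G ⧸ T) := Fintype.ofFinite _
  have hTinv : IsInvBy T (Ee P e) := isInvBy_Ee_of_stable he (fun x hx => ((hT x).1 hx).2)
  have hEl := localCoeff_Ee he
  obtain ⟨χ, hχ⟩ := IsPBlock_nonempty hB
  obtain ⟨y, hyc, hyl, hfac⟩ := exists_block_factor' hB hχ (isCentralElt_relTr hTinv) (localCoeff_relTr hEl)
    (not_memLocalIdeal_om_relTr hM hmax hT hχ)
  have hFl : LocalCoeff M (blockElt f) := localCoeff_blockElt (isBlockUnion_of_isPBlock hf)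
  obtain ⟨ξ, hξ⟩ := IsPBlock_nonempty hf
  have h1 : ¬ LocalIdealCoeff M (resAlg (Cen Q) (blockElt B) * blockElt f) := by
    intro h
    have hc : IsCentralElt (resAlg (Cen Q) (blockElt B)) :=
      isCentralElt_resAlg_of_isInvBy ((isCentralElt_blockElt B).isInvBy _)
    have h2 := memLocalIdeal_om_of_localIdealCoeff ξ.2 (isCentralElt_mul hc (isCentralElt_blockElt f)) h
    rw [om_mul ξ.2 hc, om_blockElt_of_mem hξ, mul_one] at h2
    apply not_memLocalIdeal_one (M := M)
    simpa using memLocalIdeal_sub h2 (hom ξ hξ)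
  have h2 : ¬ LocalIdealCoeff M (resAlg (Cen Q) (relTr T (Ee P e * y)) * blockElt f) := by
    intro h
    apply h1
    have e1 : resAlg (Cen Q) (blockElt B) * blockElt f =
        resAlg (Cen Q) (blockElt B - relTr T (Ee P e) * y) * blockElt f +
          resAlg (Cen Q) (relTr T (Ee P e * y)) * blockElt f := by
      rw [← add_mul, ← resAlg_add, relTr_mul_central hyc, sub_add_cancel]
    rw [e1]
    exact localIdealCoeff_add (localIdealCoeff_mul_right (localIdealCoeff_resAlg hfac) hFl) h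
  obtain ⟨c, hc⟩ := not_forall.1 h2
  have hsum : (resAlg (Cen Q) (relTr T (Ee P e * y)) * blockElt f).coeff c =
      ∑ q : G ⧸ T, (resAlg (Cen Q) (conjElt q.out (Ee P e * y)) * blockElt f).coeff c := by
    unfold relTr
    rw [resAlg_sum, Finset.sum_mul, MonoidAlgebra.coeff_sum, Finset.sum_apply']
  rw [hsum] at hc
  have hEy : IsInvBy T (Ee P e * y) := IsInvBy.mul hTinv (hyc.isInvBy T)
  obtain ⟨q, hqf, hqc⟩ : ∃ q : G ⧸ T, (∀ u : Q, u • q = q) ∧
      ¬ MemLocalIdeal M ((resAlg (Cen Q) (conjElt q.out (Ee P e * y)) * blockElt f).coeff c) := by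
    by_contra hcon
    push Not at hcon
    apply hc
    refine memLocalIdeal_sum_of_fixed hM (Γ := Q) hQ _ ?_ ?_ hcon
    · intro u q
      rw [resAlg_conjElt_smul hEy]
    · intro q
      exact localCoeff_mul (localCoeff_resAlg _ (localCoeff_conjElt _ (localCoeff_mul hEl hyl))) hFl c
  obtain ⟨x, hx⟩ : ∃ x, x = q.out := ⟨_, rfl⟩
  rw [← hx] at hqc
  have hcjT : cj x⁻¹ Q ≤ T := by
    intro u hu
    have h1 := mem_cj.1 hu
    rw [inv_inv] at h1
    have := conj_mem_of_fixed (T := T) hqf (u := x * u * x⁻¹) h1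
    rw [← hx] at this
    have e1 : x⁻¹ * (x * u * x⁻¹) * x = u := by group
    rwa [e1] at this
  have hZinv : IsInvBy Q (conjElt x (Ee P e)) := by
    intro u hu g
    rw [coeff_conjElt, coeff_conjElt]
    have h3 : x⁻¹ * u * x ∈ T := hcjT (mem_cj.2 (by
      have e0 : x⁻¹⁻¹ * (x⁻¹ * u * x) * x⁻¹ = u := by group
      rw [e0]
      exact hu))
    have e1 : x⁻¹ * (u * g * u⁻¹) * x = (x⁻¹ * u * x) * (x⁻¹ * g * x) * (x⁻¹ * u * x)⁻¹ := by group
    rw [e1]
    exact hTinv _ h3 _
  have e2 : conjElt x (Ee P e * y) = conjElt x (Ee P e) * y := by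
    rw [conjElt_mul_distrib, conjElt_of_central hyc]
  have hZl := localCoeff_conjElt x hEl
  have h4 := localIdealCoeff_resAlg_mul_sub hM hQ hZinv (hyc.isInvBy Q) hZl hyl
  have hres : ¬ LocalIdealCoeff M (resAlg (Cen Q) (conjElt x (Ee P e)) * blockElt f) := by
    intro h5
    apply hqc
    rw [e2]
    have hcom := isCentralElt_commute (isCentralElt_resAlg_of_isInvBy (P := Q) (hyc.isInvBy _))
      (resAlg (Cen Q) (conjElt x (Ee P e)))
    have e3 : resAlg (Cen Q) (conjElt x (Ee P e) * y) * blockElt f =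
        (resAlg (Cen Q) (conjElt x (Ee P e) * y) -
          resAlg (Cen Q) (conjElt x (Ee P e)) * resAlg (Cen Q) y) * blockElt f +
          resAlg (Cen Q) y * (resAlg (Cen Q) (conjElt x (Ee P e)) * blockElt f) := by
      rw [sub_mul, ← hcom, ← mul_assoc]
      abel
    rw [e3]
    exact localIdealCoeff_add (localIdealCoeff_mul_right h4 hFl)
      (localIdealCoeff_mul_left (localCoeff_resAlg _ hyl) h5) c
  refine ⟨x, ?_, hres⟩
  have hZ : ¬ LocalIdealCoeff M (resAlg (Cen Q) (conjElt x (Ee P e))) :=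
    fun h => hres (localIdealCoeff_mul_right h hFl)
  obtain ⟨c₀, hc₀⟩ := not_forall.1 hZ
  rw [coeff_resAlg, coeff_conjElt] at hc₀
  refine le_of_coeff_not_mem hM hmax hT (hQ.map _) hcjT hc₀ ?_
  intro u hu
  have h1 := mem_cj.1 hu
  rw [inv_inv] at h1
  rw [Subgroup.mem_centralizer_singleton_iff]
  have h3 := Subgroup.mem_centralizer_iff.1 c₀.2 _ h1
  calc u * (x⁻¹ * (c₀ : G) * x) = x⁻¹ * ((x * u * x⁻¹) * c₀) * x := by group
    _ = x⁻¹ * ((c₀ : G) * (x * u * x⁻¹)) * x := by rw [h3]
    _ = x⁻¹ * (c₀ : G) * x * u := by group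

/-- If a block coefficient on the centralizer of a `p`-subgroup is a unit, there is a pair of `B` on
that subgroup. -/
theorem exists_pair_of_coeff (hM : IsPModular p M) (hB : IsPBlock M B) {Q : Subgroup G} (hQ : IsPGroup p Q)
    {c : G} (hc : c ∈ Cen Q) (h : ¬ MemLocalIdeal M (blockCoeff B c)) :
    ∃ f : Set (IrrCharacter (Cen Q)), IsBrauerPairOf p M B Q f := by
  classical
  have hbc := isCentralElt_blockElt B
  have hbl : LocalCoeff M (blockElt B) := localCoeff_blockElt (isBlockUnion_of_isPBlock hB)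
  have hex : ∃ ξ : IrrCharacter (Cen Q), ¬ MemLocalIdeal M (om (ξ : Cen Q → ℂ) (resAlg (Cen Q) (blockElt B))) := by
    by_contra hcon
    push Not at hcon
    have h1 : LocalIdealCoeff M (resAlg (Cen Q) (blockElt B)) := by
      refine localIdealCoeff_of_idem_of_om (isCentralElt_resAlg_of_isInvBy (hbc.isInvBy _))
        (localCoeff_resAlg _ hbl) ?_ hcon
      have h2 := localIdealCoeff_resAlg_mul_sub hM hQ (hbc.isInvBy Q) (hbc.isInvBy Q) hbl hbl
      rw [blockElt_mul_self] at h2
      simpa using localIdealCoeff_neg h2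
    have h2 := h1 ⟨c, hc⟩
    rw [coeff_resAlg, coeff_blockElt] at h2
    exact h h2
  obtain ⟨ξ, hξ⟩ := hex
  have h1 := (om_idem_cases hM hQ ξ (hbc.isInvBy Q) (hbc.isInvBy _) hbl (blockElt_mul_self _)).resolve_left hξ
  have hg : IsPBlock M (blockOf M (ξ : Cen Q → ℂ)) := isPBlock_blockOf ξ
  exact ⟨_, isBrauerPairOf_iff.2 ⟨⟨hQ, hg⟩, hB, fun η hη =>
    om_block_congr hg hη (mem_blockOf_self ξ) (hbc.isInvBy _) hbl h1⟩⟩

/-- On a pair of `B` there is a unit coefficient of the block idempotent. -/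
theorem exists_coeff_of_pair {Q : Subgroup G} {f : Set (IrrCharacter (Cen Q))} (h : IsBrauerPairOf p M B Q f) :
    ∃ c : G, c ∈ Cen Q ∧ ¬ MemLocalIdeal M (blockCoeff B c) := by
  classical
  obtain ⟨hQf, hB, hom⟩ := isBrauerPairOf_iff.1 h
  by_contra hcon
  push Not at hcon
  obtain ⟨ξ, hξ⟩ := IsPBlock_nonempty hQf.2
  have h1 : LocalIdealCoeff M (resAlg (Cen Q) (blockElt B)) := by
    intro c
    rw [coeff_resAlg, coeff_blockElt]
    exact hcon c c.2
  have h2 := memLocalIdeal_om_of_localIdealCoeff ξ.2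
    (isCentralElt_resAlg_of_isInvBy ((isCentralElt_blockElt B).isInvBy _)) h1
  apply not_memLocalIdeal_one (M := M)
  simpa using memLocalIdeal_sub h2 (hom ξ hξ)

/-- Every Brauer pair's subgroup is conjugate into a defect group. -/
theorem exists_conj_le_defect (hM : IsPModular p M) {Q : Subgroup G} {f : Set (IrrCharacter (Cen Q))}
    (h : IsBrauerPairOf p M B Q f) {D : Subgroup G} (hD : IsDefectGroup p M B D) :
    ∃ x : G, Q ≤ cj x D := by
  classical
  obtain ⟨hQf, hB, -⟩ := isBrauerPairOf_iff.1 h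
  obtain ⟨c, hc, hcu⟩ := exists_coeff_of_pair h
  obtain ⟨g, hg, D₀, rfl⟩ := hD
  obtain ⟨χ, hχ⟩ := IsPBlock_nonempty hB
  have hQc : Q ≤ Subgroup.centralizer ({c} : Set G) := by
    intro u hu
    rw [Subgroup.mem_centralizer_singleton_iff]
    exact Subgroup.mem_centralizer_iff.1 hc u hu
  exact minmax_le hM hB hχ (hg.2.2 χ hχ) hcu hQf.1 hQc D₀

/-- On a defect group there is a pair of `B`. -/
theorem exists_pair_on_defect (hM : IsPModular p M) {D : Subgroup G} (hD : IsDefectGroup p M B D)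
    (hB : IsPBlock M B) : ∃ f : Set (IrrCharacter (Cen D)), IsBrauerPairOf p M B D f := by
  classical
  obtain ⟨g, hg, D₀, rfl⟩ := hD
  refine exists_pair_of_coeff hM hB (IsPGroup.map D₀.isPGroup' _) ?_ hg.2.1
  rw [Subgroup.mem_centralizer_iff]
  rintro _ ⟨u, hu, rfl⟩
  have := u.2
  rw [Subgroup.mem_centralizer_singleton_iff] at this
  exact this

/-- **The subgroup of a maximal pair is a defect group.** -/
theorem isDefectGroup_of_max (hM : IsPModular p M) (hmax : IsMaximalBrauerPair p M B P e) :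
    IsDefectGroup p M B P := by
  classical
  obtain ⟨hPe, hB, -⟩ := isBrauerPairOf_iff.1 hmax.1
  obtain ⟨D, hD⟩ := Cfsg.Agent.Lib.CharExtra.exists_isDefectGroup hM hB
  obtain ⟨f, hf⟩ := exists_pair_on_defect hM hD hB
  obtain ⟨x, hx, -⟩ := exists_conj_le_of_pair hM hmax hf
  obtain ⟨y, hy⟩ := exists_conj_le_defect hM hmax.1 hD
  have h1 : Nat.card D ≤ Nat.card P := by
    rw [← card_cj x⁻¹ D]
    exact Subgroup.card_le_of_le hx
  have h2 : Nat.card P ≤ Nat.card D := by
    rw [← card_cj y D]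
    exact Subgroup.card_le_of_le hy
  have h3 : cj x⁻¹ D = P := Subgroup.eq_of_le_of_card_ge hx (by rw [card_cj]; exact h2)
  rw [← h3]
  exact isDefectGroup_conj hD _

/-- Every pair lies below a maximal pair. -/
theorem exists_max_above (hM : IsPModular p M) :
    ∀ (n : ℕ) (Q : Subgroup G) (f : Set (IrrCharacter (Cen Q))), Nat.card (⊤ : Subgroup G) - Nat.card Q = n →
      IsBrauerPairOf p M B Q f →
      ∃ (P' : Subgroup G) (e' : Set (IrrCharacter (Cen P'))), IsMaximalBrauerPair p M B P' e' ∧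
        SubpairLE p M Q f P' e' := by
  classical
  intro n
  induction n using Nat.strong_induction_on with
  | _ n ih =>
    intro Q f hn h
    by_cases hmax : IsMaximalBrauerPair p M B Q f
    · exact ⟨Q, f, hmax, Relation.ReflTransGen.refl⟩
    · unfold IsMaximalBrauerPair at hmax
      push Not at hmax
      obtain ⟨R, g, hRg, hle, hne⟩ := hmax h
      have hQR : Q < R := lt_of_le_of_ne (chain_le hle) (Ne.symm hne)
      obtain ⟨P', e', h1, h2⟩ := ih _ (hn ▸ card_sub_lt hQR le_top) R g rfl hRg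
      exact ⟨P', e', h1, Relation.ReflTransGen.trans hle h2⟩

/-- Two maximal pairs of a block are conjugate. -/
theorem exists_conj_of_max (hM : IsPModular p M) (hmax : IsMaximalBrauerPair p M B P e) {P' : Subgroup G}
    {e' : Set (IrrCharacter (Cen P'))} (hmax' : IsMaximalBrauerPair p M B P' e') :
    ∃ x : G, (⟨P', e'⟩ : BrauerPairIdx G) = conjIdx x ⟨P, e⟩ := by
  classical
  obtain ⟨x, hx, hres⟩ := exists_conj_le_of_pair hM hmax hmax'.1
  obtain ⟨y, hy, -⟩ := exists_conj_le_of_pair hM hmax' hmax.1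
  have h2 : Nat.card P ≤ Nat.card P' := by
    rw [← card_cj y⁻¹ P]
    exact Subgroup.card_le_of_le hy
  have h3 : cj x⁻¹ P' = P := Subgroup.eq_of_le_of_card_ge hx (by rw [card_cj]; exact h2)
  have h4 : P' = cj x P := by
    rw [← h3]
    have := cj_inv_cj x⁻¹ P'
    rw [inv_inv] at this
    exact this.symm
  subst h4
  refine ⟨x, ?_⟩
  have he := (isBrauerPairOf_iff.1 hmax.1).1.2
  have he' := (isBrauerPairOf_iff.1 hmax'.1).1.2
  rw [← Ee_conj, resAlg_Ee_self] at hres
  have : e' = conjBlock P x e := by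
    by_contra hne
    apply hres
    rw [blockElt_mul_eq_zero_of_ne (isPBlock_conjBlock he) he' (Ne.symm hne)]
    intro g
    simpa using memLocalIdeal_zero
  rw [this]
  rfl

/-- **Every pair is conjugate below a given maximal pair.** -/
theorem exists_conj_subpair (hM : IsPModular p M) (hmax : IsMaximalBrauerPair p M B P e) {Q : Subgroup G}
    {f : Set (IrrCharacter (Cen Q))} (hQf : IsBrauerPairOf p M B Q f) :
    ∃ x : G, SubpairLE p M (cj x Q) (conjBlock Q x f) P e := by
  classical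
  obtain ⟨P', e', hmax', hle⟩ := exists_max_above hM _ Q f rfl hQf
  obtain ⟨x, hx⟩ := exists_conj_of_max hM hmax hmax'
  have h1 : Relation.ReflTransGen (NormalSubpairRel p M) (conjIdx x⁻¹ ⟨Q, f⟩) (conjIdx x⁻¹ ⟨P', e'⟩) :=
    chain_conj x⁻¹ hle
  rw [hx, conjIdx_inv] at h1
  exact ⟨x⁻¹, h1⟩

end Max

end Cfsg.Agent.Lib.BPair
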