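import Cfsg.Agent.Lib.BPair.Inertial
import Cfsg.Agent.Lib.BPair.Induced
import Cfsg.Agent.Lib.BPair.Blau

/-!
# Blocks of subgroups containing the centralizer of a defect group (S4726)
-/

set_option autoImplicit false
set_option linter.unusedSectionVars false
set_option linter.unusedSimpArgs false
set_option linter.unusedVariables false

open scoped ComplexConjugate Pointwise
open Cfsg MonoidAlgebra
open Cfsg.Agent.Lib.Block Cfsg.Agent.Lib.Char Cfsg.Agent.Lib.CharExtra

namespace Cfsg.Agent.Lib.BPair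

attribute [local instance] subFintype

section

variable {G : Type*} [Group G] [Fintype G] {M : Ideal AlgInt} {p : ℕ} [hp : Fact p.Prime]
  {L : Subgroup G} {S : Subgroup L} {B : Set (IrrCharacter G)} {b : Set (IrrCharacter L)}

/-- A pair `(S, s)` of a block `b` of `L`, with `C_G(S) ≤ L`: the block of `G` having the lifted pair is
induced by `b`. -/
theorem isInducedBlock_of_up (hM : IsPModular p M) (hb : IsPBlock M b) (h : Cen (up S) ≤ L)
    {s : Set (IrrCharacter (Cen S))} (hs : IsBrauerPairOf p M b S s)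
    (hB : IsBrauerPairOf p M B (up S) (mapBlock (cenIso S h) s)) : IsInducedBlock M L b B := by
  classical
  have := isPModular_isPrime hM
  obtain ⟨hSs, -, -⟩ := isBrauerPairOf_iff.1 hs
  obtain ⟨-, hBb, -⟩ := isBrauerPairOf_iff.1 hB
  refine ⟨hb, hBb, fun ξ hξ χ hχ g => ?_⟩
  obtain ⟨θ, hθ⟩ := IsPBlock_nonempty hSs.2
  have hz := isCentralElt_classSum g
  have hzl : LocalCoeff M (classSum g) := Cfsg.Agent.Lib.Block.localCoeff_classSum g
  have h1 := om_resAlg_congr hM hs hθ hξ (isCentralElt_resAlg L hz) (localCoeff_resAlg _ hzl)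
  have hθ' : mapIrr (cenIso S h) θ ∈ mapBlock (cenIso S h) s := Set.mem_image_of_mem _ hθ
  have h2 := om_resAlg_congr hM hB hθ' hχ hz hzl
  rw [om_res_res h, mapIrr_symm_mapIrr] at h2
  have h3 := memLocalIdeal_sub_trans (memLocalIdeal_sub_comm.1 h1) h2
  rwa [om_classSum (IsCharacter.isClassFunction (IsIrrCharacter.isCharacter χ.2)), om_resAlg_classSum'] at h3

/-- The first assertion: the induced block is defined. -/
theorem inducedBlockDefined_of_cen_le (hM : IsPModular p M) (hb : IsPBlock M b) {D₀ : Subgroup L}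
    (hD₀ : IsDefectGroup p M b D₀) (hC : Cen (up D₀) ≤ L) : InducedBlockDefined M L b := by
  classical
  have := isPModular_isPrime hM
  obtain ⟨s, hs⟩ := exists_pair_on_defect hM hD₀ hb
  obtain ⟨hSs, -, -⟩ := isBrauerPairOf_iff.1 hs
  have hpg : IsPGroup p (up D₀) := hSs.1.map _
  have hup : IsBrauerPair p M (up D₀) (mapBlock (cenIso D₀ hC) s) := ⟨hpg, isPBlock_mapBlock _ hSs.2⟩
  obtain ⟨B, hB, -⟩ := existsUnique_block_of_pair hM hup
  exact ⟨B, isInducedBlock_of_up hM hb hC hs hB⟩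

/-- The part of a group above the defect group of `b` centralizing the defect group lies in it. -/
theorem inf_cen_le_up (hM : IsPModular p M) (hind : IsInducedBlock M L b B) {D₀ : Subgroup L}
    (hD₀ : IsDefectGroup p M b D₀) (hC : Cen (up D₀) ≤ L) :
    ∃ P' : Subgroup G, IsDefectGroup p M B P' ∧ up D₀ ≤ P' ∧ P' ⊓ Cen (up D₀) ≤ up D₀ := by
  classical
  have := isPModular_isPrime hM
  have hb := hind.1
  obtain ⟨s, hs⟩ := exists_pair_on_defect hM hD₀ hb
  obtain ⟨hSs, -, -⟩ := isBrauerPairOf_iff.1 hs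
  have hpg : IsPGroup p (up D₀) := hSs.1.map _
  have hpair := isBrauerPairOf_up hM hind hC hs hpg
  obtain ⟨P', e', hmax', hle⟩ := exists_max_above hM _ _ _ rfl hpair
  refine ⟨P', isDefectGroup_of_max hM hmax', le_of_subpairLE hle, ?_⟩
  have hmaxs := isMaximal_of_defect hM hD₀ hs
  have hcd := isDefectGroup_center_of_max hM hmaxs
  have hcd' := isDefectGroup_mapBlock (p := p) (cenIso D₀ hC) hcd
  have hs' : IsPBlock M (mapBlock (cenIso D₀ hC) s) := isPBlock_mapBlock _ hSs.2
  obtain ⟨E, hE, hEle⟩ := cen_defect_ge hM hmax' hle hs'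
  set Z := ((D₀ ⊓ Cen D₀).subgroupOf (Cen D₀)).map (cenIso D₀ hC).toMonoidHom with hZ
  -- `Z` is central in `Cen (up D₀)`
  have hZmem : ∀ z : Cen (up D₀), z ∈ Z → (z : G) ∈ up D₀ := by
    rintro z ⟨w, hw, rfl⟩
    have h1 : ((w : Cen D₀) : L) ∈ D₀ := (Subgroup.mem_subgroupOf.1 hw).1
    exact ⟨_, h1, rfl⟩
  have hZcen : Z ≤ Subgroup.center (Cen (up D₀)) := by
    intro z hz
    rw [Subgroup.mem_center_iff]
    intro c
    apply Subtype.ext
    exact (Subgroup.mem_centralizer_iff.1 c.2 _ (hZmem z hz)).symm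
  have hZn : Z.Normal := by
    refine ⟨fun n hn c => ?_⟩
    have := Subgroup.mem_center_iff.1 (hZcen hn) c
    rw [this]
    simpa using hn
  have hZp : IsPGroup p Z := by
    have hDp : IsPGroup p ((D₀ ⊓ Cen D₀).subgroupOf (Cen D₀)) :=
      hcd.elim (fun g hg => by
        obtain ⟨-, Q, hQ⟩ := hg
        rw [hQ]
        exact Q.isPGroup'.map _)
    exact hDp.map _
  have hle1 : Z ≤ E := normal_le_defect hM hZp hs' hE
  have hcard : Nat.card E = Nat.card Z := card_defect_eq hM hs' hE hcd'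
  have hEZ : Z = E := Subgroup.eq_of_le_of_card_ge hle1 hcard.le
  intro w hw
  have hw' : (⟨w, hw.2⟩ : Cen (up D₀)) ∈ E := hEle (Subgroup.mem_subgroupOf.2 hw)
  rw [← hEZ] at hw'
  exact hZmem _ hw'

/-- Main statement of S4726. -/
theorem nagao_main (hM : IsPModular p M) (hb : IsPBlock M b) {D₀ : Subgroup L}
    (hD₀ : IsDefectGroup p M b D₀)
    (hC : Subgroup.centralizer ((D₀.map L.subtype : Subgroup G) : Set G) ≤ L) :
    InducedBlockDefined M L b ∧ ∀ B : Set (IrrCharacter G), IsInducedBlock M L b B →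
      (∃ D : Subgroup G, IsDefectGroup p M B D ∧
        (Subgroup.center D).map D.subtype ≤ ((Subgroup.center D₀).map D₀.subtype).map L.subtype ∧
        ((Subgroup.center D₀).map D₀.subtype).map L.subtype ≤ D₀.map L.subtype ∧ D₀.map L.subtype ≤ D) ∧
      (∀ D : Subgroup G, IsDefectGroup p M B D → IsMulCommutative D → IsDefectGroup p M B (D₀.map L.subtype)) := by
  classical
  have := isPModular_isPrime hM
  refine ⟨inducedBlockDefined_of_cen_le hM hb hD₀ hC, fun B hind => ?_⟩
  obtain ⟨P', hP', hle, hcen⟩ := inf_cen_le_up hM hind hD₀ hC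
  refine ⟨⟨P', hP', ?_, Subgroup.map_mono (Subgroup.map_subtype_le _), hle⟩, ?_⟩
  · rintro _ ⟨z, hz, rfl⟩
    have hz' := Subgroup.mem_center_iff.1 hz
    have hzC : ((z : P') : G) ∈ Cen (up D₀) := by
      rw [Subgroup.mem_centralizer_iff]
      intro u hu
      exact congrArg Subtype.val (hz' ⟨u, hle hu⟩)
    obtain ⟨d, hd, hdz⟩ := hcen ⟨z.2, hzC⟩
    refine ⟨(d : L), ⟨⟨d, hd⟩, ?_, rfl⟩, hdz⟩
    refine SetLike.mem_coe.2 (Subgroup.mem_center_iff.2 ?_)
    rintro ⟨d', hd'⟩
    apply Subtype.ext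
    apply Subtype.ext
    have h1 := Subgroup.mem_centralizer_iff.1 hzC (d' : G) ⟨d', hd', rfl⟩
    have h2 : ((z : P') : G) = (d : G) := hdz.symm
    rw [h2] at h1
    exact h1
  · intro D hD hab
    obtain ⟨e, he⟩ := exists_pair_on_defect hM hD hind.2.1
    have hmax := isMaximal_of_defect hM hD he
    obtain ⟨e', he'⟩ := exists_pair_on_defect hM hP' hind.2.1
    have hmax' := isMaximal_of_defect hM hP' he'
    obtain ⟨x, hx⟩ := exists_conj_of_max hM hmax hmax'
    have hPeq : P' = cj x D := congrArg Sigma.fst hx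
    have hcomm : ∀ a ∈ P', ∀ c ∈ P', a * c = c * a := by
      intro a ha c hc
      rw [hPeq] at ha hc
      rw [mem_cj] at ha hc
      have h1 := IsMulCommutative.is_comm.comm (⟨_, ha⟩ : D) ⟨_, hc⟩
      have h2 := congrArg Subtype.val h1
      have h3 : x⁻¹ * a * x * (x⁻¹ * c * x) = x⁻¹ * c * x * (x⁻¹ * a * x) := h2
      have h4 : a * c = x * (x⁻¹ * a * x * (x⁻¹ * c * x)) * x⁻¹ := by group
      have h5 : c * a = x * (x⁻¹ * c * x * (x⁻¹ * a * x)) * x⁻¹ := by group
      rw [h4, h5, h3]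
    have hPC : P' ≤ Cen (up D₀) := by
      intro w hw
      rw [Subgroup.mem_centralizer_iff]
      intro u hu
      exact hcomm u (hle hu) w hw
    have hPeq2 : up D₀ = P' := le_antisymm hle (le_trans (le_inf le_rfl hPC) hcen)
    have : D₀.map L.subtype = P' := hPeq2
    rw [this]
    exact hP'

end

end Cfsg.Agent.Lib.BPair
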