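import Cfsg.Agent.Lib.BPair.Basic

/-!
# Normal inclusion of Brauer pairs
-/

set_option autoImplicit false
set_option linter.unusedSectionVars false
set_option linter.unusedSimpArgs false
set_option linter.unusedVariables false

open scoped ComplexConjugate
open Cfsg MonoidAlgebra
open Cfsg.Agent.Lib.Block Cfsg.Agent.Lib.Char Cfsg.Agent.Lib.CharExtra

namespace Cfsg.Agent.Lib.BPair

attribute [local instance] subFintype

section

variable {G : Type*} [Group G] [Fintype G] {M : Ideal AlgInt} [hMp : M.IsPrime] {p : ℕ} [hp : Fact p.Prime]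

theorem _root_.Cfsg.Agent.Lib.Block.IsInvBy.mono {Q P : Subgroup G} {z : MonoidAlgebra ℂ G} (h : IsInvBy P z)
    (hle : Q ≤ P) : IsInvBy Q z := fun u hu g => h u (hle hu) g

theorem cen_le_cen {Q P : Subgroup G} (h : Q ≤ P) : Cen P ≤ Cen Q :=
  Subgroup.centralizer_le (by exact_mod_cast h)

theorem mem_cen_of_mem_cen {Q P : Subgroup G} (h : Q ≤ P) {c : G} (hc : c ∈ Cen P) : c ∈ Cen Q :=
  cen_le_cen h hc

/-- The action of a subgroup normalizing `K` on the blocks of `K`. -/
noncomputable def blocksSmul {K P : Subgroup G} (h : P ≤ Subgroup.normalizer (K : Set G)) :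
    MulAction P (Blocks M K) where
  smul := fun x f => ⟨mapBlock (nConj (h x.2)) f.1, isPBlock_mapBlock _ f.2⟩
  one_smul := fun f => by
    apply Subtype.ext
    show mapBlock (nConj (h (1 : P).2)) f.1 = f.1
    have : nConj (h (1 : P).2) = MulEquiv.refl K := by
      ext k
      simp
    rw [this, mapBlock_refl]
  mul_smul := fun a b f => by
    apply Subtype.ext
    show mapBlock (nConj (h (a * b : P).2)) f.1 = mapBlock (nConj (h a.2)) (mapBlock (nConj (h b.2)) f.1)
    have : nConj (h (a * b : P).2) = (nConj (h b.2)).trans (nConj (h a.2)) := by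
      ext k
      simp [mul_assoc]
    rw [this, mapBlock_trans]

/-- Truncation to `C_G(P)` of an idempotent of `C_G(Q)` does not see `P`-conjugation. -/
theorem resAlg_Ee_mapBlock {Q P : Subgroup G} (hQP : Q ≤ P) {x : G} (hx : x ∈ P)
    (hxN : x ∈ Subgroup.normalizer ((Cen Q : Subgroup G) : Set G)) (f : Set (IrrCharacter (Cen Q))) :
    resAlg (Cen P) (Ee Q (mapBlock (nConj hxN) f)) = resAlg (Cen P) (Ee Q f) := by
  apply ext_coeff
  intro c
  rw [coeff_resAlg, coeff_resAlg]
  have hcQ : (c : G) ∈ Cen Q := mem_cen_of_mem_cen hQP c.2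
  have e1 := coeff_incl_coe (Cen Q) (blockElt f) ⟨c, hcQ⟩
  have e2 := coeff_incl_coe (Cen Q) (blockElt (mapBlock (nConj hxN) f)) ⟨c, hcQ⟩
  simp only at e1 e2
  unfold Ee
  rw [e1, e2, coeff_blockElt, coeff_blockElt]
  have hfix : nConj hxN ⟨c, hcQ⟩ = ⟨c, hcQ⟩ := by
    apply Subtype.ext
    have := Subgroup.mem_centralizer_iff.1 c.2 x hx
    simp only [nConj_coe]
    rw [this]
    group
  conv_lhs => rw [← hfix]
  exact blockCoeff_mapBlock (nConj hxN) f ⟨c, hcQ⟩

theorem sum_Ee_eq_one (Q : Subgroup G) : ∑ f : Blocks M (Cen Q), Ee Q f.1 = 1 := by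
  unfold Ee
  rw [← map_sum, sum_blockElt_eq_one, map_one]

/-- **Existence and uniqueness of normal subpairs.** -/
theorem existsUnique_normalSubpair (hM : IsPModular p M) {P Q : Subgroup G}
    {e : Set (IrrCharacter (Cen P))} (hPe : IsBrauerPair p M P e) (hQP : Q ≤ P)
    (hPN : P ≤ Subgroup.normalizer (Q : Set G)) :
    ∃! f : Set (IrrCharacter (Cen Q)), IsNormalSubpair p M Q f P e := by
  classical
  obtain ⟨hP, he⟩ := id hPe
  have hQp : IsPGroup p Q := hP.to_le hQP
  obtain ⟨ξ₀, hξ₀⟩ := IsPBlock_nonempty he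
  have hPN' : P ≤ Subgroup.normalizer ((Cen Q : Subgroup G) : Set G) :=
    fun x hx => normalizer_le_normalizer_cen (hPN hx)
  letI act := blocksSmul (M := M) hPN'
  set w : Blocks M (Cen Q) → ℂ := fun f => om (ξ₀ : Cen P → ℂ) (resAlg (Cen P) (Ee Q f.1)) with hw
  have hCinv : ∀ f : Set (IrrCharacter (Cen Q)), IsInvBy (Cen P) (Ee Q f) :=
    fun f => isInvBy_Ee_of_le (cen_le_cen hQP) f
  have hsum : ∑ f : Blocks M (Cen Q), w f = 1 := by
    simp only [hw]
    rw [← om_sum, ← resAlg_sum, sum_Ee_eq_one, resAlg_one, om_one ξ₀.2]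
  have hex : ∃ f : Blocks M (Cen Q), (∀ γ : P, γ • f = f) ∧ ¬ MemLocalIdeal M (w f) := by
    by_contra hcon
    push Not at hcon
    apply not_memLocalIdeal_one (M := M)
    rw [← hsum]
    refine memLocalIdeal_sum_of_fixed (Γ := P) hM hP w ?_ ?_ hcon
    · intro γ f
      show om (ξ₀ : Cen P → ℂ) (resAlg (Cen P) (Ee Q (mapBlock (nConj (hPN' γ.2)) f.1))) = _
      rw [resAlg_Ee_mapBlock hQP γ.2 (hPN' γ.2) f.1]
    · intro f
      exact memLocalRing_om ξ₀.2 (isCentralElt_resAlg_of_isInvBy (hCinv _))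
        (localCoeff_resAlg _ (localCoeff_Ee f.2))
  obtain ⟨f, hfix, hf⟩ := hex
  have hst : ∀ x ∈ P, StabilizesBlock (Cen Q) f.1 x := by
    intro x hx
    exact (stabilizes_iff f.2).2 ⟨hPN' hx, congrArg Subtype.val (hfix ⟨x, hx⟩)⟩
  have hPinv := isInvBy_Ee_of_stable f.2 hst
  have hfl := localCoeff_Ee (Q := Q) f.2
  have h1 := (om_idem_cases hM hP ξ₀ hPinv (hCinv f.1) hfl (Ee_mul_self Q f.1)).resolve_left hf
  refine ⟨f.1, isNormalSubpair_iff.2 ⟨⟨hQp, f.2⟩, hPe, hQP, hPN, hst, fun ξ hξ =>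
    om_block_congr he hξ hξ₀ (hCinv f.1) hfl h1⟩, ?_⟩
  intro f' hf'
  obtain ⟨⟨-, hf'b⟩, -, -, -, hst', h2⟩ := isNormalSubpair_iff.1 hf'
  by_contra hne
  have h3 := Ee_mul_eq_zero (Q := Q) hf'b f.2 hne
  have hPinv' := isInvBy_Ee_of_stable hf'b hst'
  have hfl' := localCoeff_Ee (Q := Q) hf'b
  have h4 := om_mul_congr hM hP ξ₀ hPinv' hPinv (hCinv f') (hCinv f.1) hfl' hfl
  rw [h3, resAlg_zero, om_zero, zero_sub] at h4
  refine not_both_one (h2 ξ₀ hξ₀) h1 ?_ (memLocalRing_om ξ₀.2 (isCentralElt_resAlg_of_isInvBy (hCinv f'))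
    (localCoeff_resAlg _ hfl'))
  simpa using memLocalIdeal_neg h4

theorem eq_of_isNormalSubpair {P Q : Subgroup G} {f f' : Set (IrrCharacter (Cen Q))}
    {e : Set (IrrCharacter (Cen P))} (hM : IsPModular p M)
    (h : IsNormalSubpair p M Q f P e) (h' : IsNormalSubpair p M Q f' P e) : f = f' := by
  obtain ⟨-, hPe, hQP, hPN, -, -⟩ := isNormalSubpair_iff.1 h
  exact (existsUnique_normalSubpair hM hPe hQP hPN).unique h h'

/-- A block is a normal subpair of itself. -/
theorem isNormalSubpair_self {Q : Subgroup G} {f : Set (IrrCharacter (Cen Q))} (hQf : IsBrauerPair p M Q f) :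
    IsNormalSubpair p M Q f Q f := by
  classical
  refine isNormalSubpair_iff.2 ⟨hQf, hQf, le_rfl, ?_, ?_, ?_⟩
  · intro x hx
    rw [Subgroup.mem_normalizer_iff]
    intro h
    exact ⟨fun hh => Q.mul_mem (Q.mul_mem hx hh) (Q.inv_mem hx), fun hh => by
      have := Q.mul_mem (Q.mul_mem (Q.inv_mem hx) hh) hx
      simpa [mul_assoc] using this⟩
  · intro x hx
    have hxN : x ∈ Subgroup.normalizer ((Cen Q : Subgroup G) : Set G) :=
      normalizer_le_normalizer_cen (by
        rw [Subgroup.mem_normalizer_iff]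
        intro h
        exact ⟨fun hh => Q.mul_mem (Q.mul_mem hx hh) (Q.inv_mem hx), fun hh => by
          have := Q.mul_mem (Q.mul_mem (Q.inv_mem hx) hh) hx
          simpa [mul_assoc] using this⟩)
    refine ⟨hxN, fun χ hχ => ⟨χ, hχ, ?_⟩⟩
    intro k k' hk
    have : k' = k := by
      apply Subtype.ext
      rw [hk]
      have := Subgroup.mem_centralizer_iff.1 k.2 x hx
      rw [this]
      group
    rw [this]
  · intro ξ hξ
    unfold Ee
    rw [resAlg_incl, om_blockElt_of_mem hξ, sub_self]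
    exact memLocalIdeal_zero

/-- The basic induction step along a normal inclusion. -/
theorem tru_step (hM : IsPModular p M) {R P : Subgroup G} {g : Set (IrrCharacter (Cen R))}
    {e : Set (IrrCharacter (Cen P))} (hRP : IsNormalSubpair p M R g P e) {z : MonoidAlgebra ℂ G}
    (hzP : IsInvBy P z) (hzC : IsInvBy (Cen R) z) (hzl : LocalCoeff M z) (hid : z * z = z)
    (h : ∀ η ∈ g, MemLocalIdeal M (om (η : Cen R → ℂ) (resAlg (Cen R) z) - 1)) :
    ∀ ξ ∈ e, MemLocalIdeal M (om (ξ : Cen P → ℂ) (resAlg (Cen P) z) - 1) := by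
  classical
  obtain ⟨⟨hR, hg⟩, ⟨hP, he⟩, hRle, hPN, hst, hge⟩ := isNormalSubpair_iff.1 hRP
  intro ξ hξ
  -- the truncation at `R`
  set a := resAlg (Cen R) z with ha
  have hac : IsCentralElt a := isCentralElt_resAlg_of_isInvBy hzC
  have hal : LocalCoeff M a := localCoeff_resAlg _ hzl
  have haid : LocalIdealCoeff M (a * a - a) := by
    have h1 := localIdealCoeff_resAlg_mul_sub hM hR (hzP.mono hRle) (hzP.mono hRle) hzl hzl
    rw [hid] at h1
    have e1 : a * a - a = -(resAlg (Cen R) z - resAlg (Cen R) z * resAlg (Cen R) z) := by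
      rw [ha]
      abel
    rw [e1]
    exact localIdealCoeff_neg h1
  have h1 := localIdealCoeff_mul_blockElt_sub hac hal haid hg h
  -- pass to `G`
  set z' := incl (Cen R) a with hz'
  have hCP : Cen P ≤ Cen R := cen_le_cen hRle
  have hz'res : resAlg (Cen P) z' = resAlg (Cen P) z := by
    apply ext_coeff
    intro c
    rw [coeff_resAlg, coeff_resAlg]
    have := coeff_incl_coe (Cen R) a ⟨c, hCP c.2⟩
    simp only at this
    rw [hz', this, ha, coeff_resAlg]
  have hz'P : IsInvBy P z' := by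
    intro u hu c
    have hnorm := normalizer_le_normalizer_cen (hPN hu)
    by_cases hc : c ∈ Cen R
    · have e1 := coeff_incl_coe (Cen R) a ⟨c, hc⟩
      have e2 := coeff_incl_coe (Cen R) a (nConj hnorm ⟨c, hc⟩)
      simp only [nConj_coe] at e1 e2
      rw [hz', e1, e2, ha, coeff_resAlg, coeff_resAlg]
      exact hzP u hu c
    · have hc' : u * c * u⁻¹ ∉ Cen R := fun hh => hc ((Subgroup.mem_normalizer_iff.1 hnorm c).2 hh)
      rw [hz', coeff_incl_of_notMem _ _ hc, coeff_incl_of_notMem _ _ hc']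
  have hz'C : IsInvBy (Cen P) z' := by
    intro u hu c
    by_cases hc : c ∈ Cen R
    · have hm : u * c * u⁻¹ ∈ Cen R :=
        (Cen R).mul_mem ((Cen R).mul_mem (hCP hu) hc) ((Cen R).inv_mem (hCP hu))
      have e1 := coeff_incl_coe (Cen R) a ⟨c, hc⟩
      have e2 := coeff_incl_coe (Cen R) a ⟨u * c * u⁻¹, hm⟩
      simp only at e1 e2
      rw [hz', e1, e2, ha, coeff_resAlg, coeff_resAlg]
      exact hzC u (hCP hu) c
    · have hc' : u * c * u⁻¹ ∉ Cen R := fun hh => hc (by
        have := (Cen R).mul_mem ((Cen R).mul_mem ((Cen R).inv_mem (hCP hu)) hh) (hCP hu)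
        simpa [mul_assoc] using this)
      rw [hz', coeff_incl_of_notMem _ _ hc, coeff_incl_of_notMem _ _ hc']
  have hz'l : LocalCoeff M z' := localCoeff_incl _ hal
  have hEP := isInvBy_Ee_of_stable hg hst
  have hEC := isInvBy_Ee_of_le (cen_le_cen hRle) g
  have hEl := localCoeff_Ee (Q := R) hg
  have h2 := om_mul_congr hM hP ξ hz'P hEP hz'C hEC hz'l hEl
  rw [hz'res] at h2
  have h3 : LocalIdealCoeff M (z' * Ee R g - Ee R g) := by
    have : z' * Ee R g - Ee R g = incl (Cen R) (a * blockElt g - blockElt g) := by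
      unfold Ee
      rw [hz', map_sub, map_mul]
    rw [this]
    intro c
    by_cases hc : c ∈ Cen R
    · have := coeff_incl_coe (Cen R) (a * blockElt g - blockElt g) ⟨c, hc⟩
      simp only at this
      rw [this]
      exact h1 _
    · rw [coeff_incl_of_notMem _ _ hc]
      exact memLocalIdeal_zero
  have h4 : MemLocalIdeal M (om (ξ : Cen P → ℂ) (resAlg (Cen P) (z' * Ee R g)) -
      om (ξ : Cen P → ℂ) (resAlg (Cen P) (Ee R g))) := by
    rw [← om_sub, ← resAlg_sub]
    refine memLocalIdeal_om_of_localIdealCoeff ξ.2 ?_ (localIdealCoeff_resAlg h3)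
    rw [resAlg_sub]
    exact isCentralElt_sub (isCentralElt_resAlg_of_isInvBy (hz'C.mul hEC)) (isCentralElt_resAlg_of_isInvBy hEC)
  have h5 := hge ξ hξ
  set A := om (ξ : Cen P → ℂ) (resAlg (Cen P) z) with hA
  set E := om (ξ : Cen P → ℂ) (resAlg (Cen P) (Ee R g)) with hE
  set W := om (ξ : Cen P → ℂ) (resAlg (Cen P) (z' * Ee R g)) with hW
  have hAl : MemLocalRing M A := memLocalRing_om ξ.2 (isCentralElt_resAlg_of_isInvBy (hzC.mono hCP))
    (localCoeff_resAlg _ hzl)
  have e1 : A - 1 = (A * E - W) + (W - E) + (E - 1) - A * (E - 1) := by ring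
  rw [e1]
  refine memLocalIdeal_sub (memLocalIdeal_add (memLocalIdeal_add ?_ h4) h5) (memLocalIdeal_mul_left hAl h5)
  exact memLocalIdeal_sub_comm.1 h2

/-- Brauer pairs of blocks go up a normal inclusion. -/
theorem isBrauerPairOf_of_normal_up (hM : IsPModular p M) {Q P : Subgroup G} {f : Set (IrrCharacter (Cen Q))}
    {e : Set (IrrCharacter (Cen P))} (h : IsNormalSubpair p M Q f P e) {B : Set (IrrCharacter G)}
    (hB : IsBrauerPairOf p M B Q f) : IsBrauerPairOf p M B P e := by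
  obtain ⟨-, hb, h1⟩ := isBrauerPairOf_iff.1 hB
  obtain ⟨-, hPe, -, -, -, -⟩ := isNormalSubpair_iff.1 h
  refine isBrauerPairOf_iff.2 ⟨hPe, hb, ?_⟩
  exact tru_step hM h ((isCentralElt_blockElt B).isInvBy _) ((isCentralElt_blockElt B).isInvBy _)
    (localCoeff_blockElt (isBlockUnion_of_isPBlock hb)) (blockElt_mul_self B) h1

/-- Both ways. -/
theorem isBrauerPairOf_normal_iff (hM : IsPModular p M) {Q P : Subgroup G} {f : Set (IrrCharacter (Cen Q))}
    {e : Set (IrrCharacter (Cen P))} (h : IsNormalSubpair p M Q f P e) (B : Set (IrrCharacter G)) :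
    IsBrauerPairOf p M B P e ↔ IsBrauerPairOf p M B Q f := by
  obtain ⟨hQf, hPe, -, -, -, -⟩ := isNormalSubpair_iff.1 h
  constructor
  · intro hB
    obtain ⟨B₁, hB₁, -⟩ := existsUnique_block_of_pair hM hQf
    have h2 := isBrauerPairOf_of_normal_up hM h hB₁
    have := (existsUnique_block_of_pair hM hPe).unique hB h2
    rwa [this]
  · exact isBrauerPairOf_of_normal_up hM h

/-- Chains of normal inclusions. -/
theorem isBrauerPairOf_chain_iff (hM : IsPModular p M) {a b : BrauerPairIdx G}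
    (hle : Relation.ReflTransGen (NormalSubpairRel p M) a b) (B : Set (IrrCharacter G)) :
    IsBrauerPairOf p M B b.1 b.2 ↔ IsBrauerPairOf p M B a.1 a.2 := by
  induction hle with
  | refl => rfl
  | tail _ hstep ih =>
    exact (isBrauerPairOf_normal_iff hM hstep B).trans ih

theorem isBrauerPairOf_le_iff (hM : IsPModular p M) {Q P : Subgroup G} {f : Set (IrrCharacter (Cen Q))}
    {e : Set (IrrCharacter (Cen P))} (hle : SubpairLE p M Q f P e) (B : Set (IrrCharacter G)) :
    IsBrauerPairOf p M B P e ↔ IsBrauerPairOf p M B Q f :=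
  isBrauerPairOf_chain_iff hM hle B

end

end Cfsg.Agent.Lib.BPair
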