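import Cfsg.Agent.Lib.BPair.Third
import Cfsg.Agent.Lib.CharExtra.BlockCent

/-!
# Blocks of the stabilizer of a block of `C_G(Q)`

The idempotent of a block of `C_G(Q)` is a block idempotent of its stabilizer in `N_G(Q)`;
the normal case of Brauer pairs.
-/

set_option autoImplicit false
set_option linter.unusedSectionVars false
set_option linter.unusedSimpArgs false
set_option linter.unusedVariables false

open scoped ComplexConjugate
open Cfsg MonoidAlgebra
open Cfsg.Agent.Lib.Block Cfsg.Agent.Lib.Char Cfsg.Agent.Lib.CharExtra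

namespace Cfsg.Agent.Lib.BPair

attribute [local instance] subFintype

section Idem

variable {H : Type*} [Group H] [Fintype H] {M : Ideal AlgInt} [hMp : M.IsPrime]

/-- Central idempotents with local coefficients are the idempotents of block unions. -/
theorem exists_blockUnion_of_idem {z : MonoidAlgebra ℂ H} (hzc : IsCentralElt z) (hzl : LocalCoeff M z)
    (hid : z * z = z) : ∃ A : Set (IrrCharacter H), z = blockElt A ∧ IsBlockUnion M A := by
  classical
  have h01 : ∀ χ : IrrCharacter H, om (χ : H → ℂ) z = 1 ∨ om (χ : H → ℂ) z = 0 := by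
    intro χ
    have h1 := om_mul χ.2 hzc z
    rw [hid] at h1
    by_cases h : om (χ : H → ℂ) z = 0
    · exact Or.inr h
    · left
      have h2 : om (χ : H → ℂ) z * (om (χ : H → ℂ) z - 1) = 0 := by
        rw [mul_sub, mul_one, ← h1, sub_self]
      rcases mul_eq_zero.1 h2 with h3 | h3
      · exact absurd h3 h
      · exact sub_eq_zero.1 h3
  have e : z = blockElt {χ : IrrCharacter H | om (χ : H → ℂ) z = 1} :=
    eq_blockElt_of_om hzc (fun χ hχ => hχ) (fun χ hχ => (h01 χ).resolve_left hχ)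
  refine ⟨{χ | om (χ : H → ℂ) z = 1}, e, ?_⟩
  apply isBlockUnion_of_localCoeff
  rw [← e]
  exact hzl

theorem blockUnion_eq_of_subset {A f : Set (IrrCharacter H)} (hA : IsBlockUnion M A) (hf : IsPBlock M f)
    (hAf : A ⊆ f) (hne : A.Nonempty) : A = f := by
  obtain ⟨χ, hχ⟩ := hne
  refine Set.Subset.antisymm hAf fun ψ hψ => ?_
  by_contra hcon
  exact hA χ hχ ψ hcon (sameBlock_of_mem hf (hAf hχ) hψ)

theorem blockElt_nonempty {A : Set (IrrCharacter H)} (h : blockElt A ≠ 0) : A.Nonempty := by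
  classical
  by_contra hcon
  apply h
  rw [Set.not_nonempty_iff_eq_empty] at hcon
  subst hcon
  apply central_ext_om (isCentralElt_blockElt _) isCentralElt_zero
  intro χ
  rw [om_blockElt_of_notMem (Set.notMem_empty χ), om_zero]

theorem blockElt_ne_zero {f : Set (IrrCharacter H)} (hf : IsPBlock M f) : blockElt f ≠ 0 := by
  classical
  intro h
  obtain ⟨ξ, hξ⟩ := IsPBlock_nonempty hf
  have h1 := om_blockElt_of_mem hξ
  rw [h, om_zero] at h1
  exact zero_ne_one h1

/-- Blocks are determined by their idempotents. -/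
theorem block_eq_of_blockElt_eq {f f' : Set (IrrCharacter H)} (h : blockElt f = blockElt f') : f = f' := by
  classical
  ext ψ
  have h1 := om_blockElt f ψ
  rw [h, om_blockElt] at h1
  by_cases h2 : ψ ∈ f <;> by_cases h3 : ψ ∈ f'
  · simp [h2, h3]
  · simp [h2, h3] at h1
  · simp [h2, h3] at h1
  · simp [h2, h3]

/-- If `y * blockElt f = y` for a nonzero idempotent `y` local central, then `y = blockElt f`. -/
theorem eq_blockElt_of_mul_eq {y : MonoidAlgebra ℂ H} {f : Set (IrrCharacter H)} (hf : IsPBlock M f)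
    (hyc : IsCentralElt y) (hyl : LocalCoeff M y) (hid : y * y = y) (hne : y ≠ 0) (hyf : y * blockElt f = y) :
    y = blockElt f := by
  classical
  obtain ⟨A, rfl, hA⟩ := exists_blockUnion_of_idem hyc hyl hid
  have h1 : A ⊆ f := by
    intro ψ hψ
    have h2 := om_mul ψ.2 hyc (blockElt f)
    rw [hyf, om_blockElt_of_mem hψ, one_mul] at h2
    by_contra hcon
    rw [om_blockElt_of_notMem hcon] at h2
    exact one_ne_zero h2
  rw [blockUnion_eq_of_subset hA hf h1 (blockElt_nonempty hne)]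

end Idem

section Stab

variable {G : Type*} [Group G] [Fintype G] {M : Ideal AlgInt} [hMp : M.IsPrime] {p : ℕ} [hp : Fact p.Prime]

theorem isCentralElt_resAlg_of_inv {T : Subgroup G} {z : MonoidAlgebra ℂ G} (h : IsInvBy T z) :
    IsCentralElt (resAlg T z) := by
  intro x g
  rw [coeff_resAlg, coeff_resAlg]
  exact h x x.2 g

theorem stabilizes_of_mem_cen {Q : Subgroup G} {f : Set (IrrCharacter (Cen Q))} {c : G} (hc : c ∈ Cen Q) :
    StabilizesBlock (Cen Q) f c := by
  refine ⟨Subgroup.le_normalizer hc, fun χ hχ => ⟨χ, hχ, fun k k' hk => ?_⟩⟩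
  have h1 : k' = (⟨c, hc⟩ : Cen Q) * k * (⟨c, hc⟩ : Cen Q)⁻¹ := Subtype.ext hk
  rw [h1]
  exact Cfsg.Agent.Lib.Char.IsCharacter.isClassFunction
    (Cfsg.Agent.Lib.Char.IsIrrCharacter.isCharacter χ.2) _ _

theorem incl_resAlg_eq_of_support {T : Subgroup G} {z : MonoidAlgebra ℂ G} (h : ∀ g, g ∉ T → z.coeff g = 0) :
    incl T (resAlg T z) = z := by
  apply ext_coeff
  intro g
  by_cases hg : g ∈ T
  · have := coeff_incl_coe T (resAlg T z) ⟨g, hg⟩
    simp only at this
    rw [this, coeff_resAlg]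
  · rw [coeff_incl_of_notMem _ _ hg, h g hg]

theorem resAlg_mul_self_of_support {T : Subgroup G} {z : MonoidAlgebra ℂ G} (h : ∀ g, g ∉ T → z.coeff g = 0)
    (hid : z * z = z) : resAlg T z * resAlg T z = resAlg T z := by
  have h1 : incl T (resAlg T z * resAlg T z) = z := by
    rw [map_mul, incl_resAlg_eq_of_support h, hid]
  have h2 := congrArg (resAlg T) h1
  rwa [resAlg_incl] at h2

/-- **The idempotent of a block of `C_G(Q)` is a block idempotent of any subgroup between `Q C_G(Q)` and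
the stabilizer.** -/
theorem exists_blockT (hM : IsPModular p M) {Q : Subgroup G} (hQ : IsPGroup p Q) {f : Set (IrrCharacter (Cen Q))}
    (hf : IsPBlock M f) {T : Subgroup G} (hCT : Cen Q ≤ T) (hQT : Q ≤ T)
    (hTN : T ≤ Subgroup.normalizer (Q : Set G)) (hst : ∀ t ∈ T, StabilizesBlock (Cen Q) f t) :
    ∃ F : Set (IrrCharacter T), IsPBlock M F ∧ ∀ t : T, blockCoeff F t = subgroupBlockCoeff (Cen Q) f (t : G) := by
  classical
  have hEinv : IsInvBy T (Ee Q f) := isInvBy_Ee_of_stable hf hst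
  have hEl := localCoeff_Ee hf
  have hEsupp : ∀ g, g ∉ T → (Ee Q f).coeff g = 0 := by
    intro g hg
    unfold Ee
    exact coeff_incl_of_notMem _ _ (fun h => hg (hCT h))
  obtain ⟨z, hz⟩ : ∃ z, z = resAlg T (Ee Q f) := ⟨_, rfl⟩
  have hzc : IsCentralElt z := hz ▸ isCentralElt_resAlg_of_inv hEinv
  have hzl : LocalCoeff M z := hz ▸ localCoeff_resAlg _ hEl
  have hzid : z * z = z := hz ▸ resAlg_mul_self_of_support hEsupp (Ee_mul_self Q f)
  have hinclz : incl T z = Ee Q f := hz ▸ incl_resAlg_eq_of_support hEsupp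
  have hEne : Ee Q f ≠ 0 := by
    intro h
    apply blockElt_ne_zero hf
    rw [← resAlg_Ee_self Q f, h, resAlg_zero]
  have hzne : z ≠ 0 := by
    intro h
    apply hEne
    rw [← hinclz, h, map_zero]
  obtain ⟨A, hzA, hA⟩ := exists_blockUnion_of_idem hzc hzl hzid
  obtain ⟨χ, hχ⟩ := blockElt_nonempty (hzA ▸ hzne)
  have hF : IsPBlock M (blockOf M (χ : T → ℂ)) := isPBlock_blockOf χ
  obtain ⟨F, hFdef⟩ : ∃ F, F = blockOf M (χ : T → ℂ) := ⟨_, rfl⟩
  rw [← hFdef] at hF
  have hχF : χ ∈ F := hFdef ▸ mem_blockOf_self χ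
  have hFA : F ⊆ A := by
    intro ψ hψ
    by_contra hcon
    exact hA χ hχ ψ hcon (sameBlock_of_mem hF hχF hψ)
  have hFz : blockElt F * z = blockElt F := by
    apply central_ext_om (isCentralElt_mul (isCentralElt_blockElt F) hzc) (isCentralElt_blockElt F)
    intro ψ
    rw [om_mul ψ.2 (isCentralElt_blockElt F)]
    by_cases h : ψ ∈ F
    · rw [om_blockElt_of_mem h, hzA, om_blockElt_of_mem (hFA h), mul_one]
    · rw [om_blockElt_of_notMem h, zero_mul]
  obtain ⟨Z, hZ⟩ : ∃ Z, Z = incl T (blockElt F) := ⟨_, rfl⟩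
  have hZid : Z * Z = Z := by
    rw [hZ, ← map_mul, blockElt_mul_self]
  have hZE : Z * Ee Q f = Z := by
    rw [hZ, ← hinclz, ← map_mul, hFz]
  haveI : (Q.subgroupOf T).Normal := by
    constructor
    intro n hn g
    rw [Subgroup.mem_subgroupOf] at hn ⊢
    exact (Subgroup.mem_normalizer_iff.1 (hTN g.2) n).1 hn
  have hZsupp : ∀ g, g ∉ Cen Q → Z.coeff g = 0 := by
    intro g hg
    by_cases hgT : g ∈ T
    · rw [hZ]
      have h1 := coeff_incl_coe T (blockElt F) ⟨g, hgT⟩
      simp only at h1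
      rw [h1, coeff_blockElt]
      refine blockCoeff_eq_zero_of_notMem_centralizer hM (Q.subgroupOf T) hQ.comap_subtype hF ?_
      intro hmem
      apply hg
      rw [Subgroup.mem_centralizer_iff]
      intro u hu
      have h2 := Subgroup.mem_centralizer_iff.1 hmem ⟨u, hQT hu⟩ (by
        show (⟨u, hQT hu⟩ : T) ∈ Q.subgroupOf T
        rw [Subgroup.mem_subgroupOf]
        exact hu)
      exact congrArg Subtype.val h2
    · rw [hZ]
      exact coeff_incl_of_notMem _ _ hgT
  have hZinv : IsInvBy (Cen Q) Z := by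
    intro u hu g
    rw [hZ]
    have := coeff_incl_conj_of_central (T := T) (isCentralElt_blockElt F) u⁻¹ (T.inv_mem (hCT hu)) g
    rwa [inv_inv] at this
  have hZl : LocalCoeff M Z := hZ ▸ localCoeff_incl _ (localCoeff_blockElt (isBlockUnion_of_isPBlock hF))
  obtain ⟨y, hy⟩ : ∃ y, y = resAlg (Cen Q) Z := ⟨_, rfl⟩
  have hyc : IsCentralElt y := hy ▸ isCentralElt_resAlg_of_inv hZinv
  have hyl : LocalCoeff M y := hy ▸ localCoeff_resAlg _ hZl
  have hyid : y * y = y := hy ▸ resAlg_mul_self_of_support hZsupp hZid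
  have hincly : incl (Cen Q) y = Z := hy ▸ incl_resAlg_eq_of_support hZsupp
  have hyne : y ≠ 0 := by
    intro h
    have hZ0 : Z = 0 := by rw [← hincly, h, map_zero]
    apply blockElt_ne_zero hF
    have h1 := congrArg (resAlg T) hZ
    rw [resAlg_incl, hZ0, resAlg_zero] at h1
    exact h1.symm
  have hyf : y * blockElt f = y := by
    have h1 : incl (Cen Q) (y * blockElt f) = incl (Cen Q) y := by
      rw [map_mul, hincly]
      exact hZE
    have h2 := congrArg (resAlg (Cen Q)) h1
    rwa [resAlg_incl, resAlg_incl] at h2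
  have hyeq := eq_blockElt_of_mul_eq hf hyc hyl hyid hyne hyf
  have hZeq : Z = Ee Q f := by
    rw [← hincly, hyeq]
    rfl
  refine ⟨F, hF, fun t => ?_⟩
  rw [subgroupBlockCoeff_fun]
  show blockCoeff F t = (incl (Cen Q) (blockElt f)).coeff (t : G)
  have h1 : (incl (Cen Q) (blockElt f)).coeff (t : G) = Z.coeff (t : G) := by
    rw [hZeq]
    rfl
  rw [h1, hZ]
  have h2 := coeff_incl_coe T (blockElt F) t
  rw [h2, coeff_blockElt]

theorem mem_T_of_conj_eq {T : Subgroup G} {x x' : G} (h : x⁻¹ * x' ∈ T) :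
    ((x : G) : G ⧸ T) = ((x' : G) : G ⧸ T) := QuotientGroup.eq.2 h

/-- The conjugates of a block idempotent by coset representatives of the stabilizer are orthogonal. -/
theorem conjElt_Ee_mul_conjElt_Ee_of_ne {Q : Subgroup G} [hQn : Q.Normal] {f : Set (IrrCharacter (Cen Q))}
    (hf : IsPBlock M f) {T : Subgroup G} (hT : ∀ x : G, x ∈ T ↔ StabilizesBlock (Cen Q) f x) {x x' : G}
    (hne : ((x : G) : G ⧸ T) ≠ ((x' : G) : G ⧸ T)) : conjElt x (Ee Q f) * conjElt x' (Ee Q f) = 0 := by
  classical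
  have hN : ∀ y : G, y ∈ Subgroup.normalizer ((Cen Q : Subgroup G) : Set G) := fun y =>
    normalizer_le_normalizer_cen (by
      rw [Subgroup.mem_normalizer_iff]
      intro h
      constructor
      · intro hh
        exact hQn.conj_mem h hh y
      · intro hh
        have := hQn.conj_mem _ hh y⁻¹
        simpa [mul_assoc] using this)
  rw [← Ee_mapBlock (hN x), ← Ee_mapBlock (hN x')]
  refine Ee_mul_eq_zero (isPBlock_mapBlock _ hf) (isPBlock_mapBlock _ hf) ?_
  intro h
  apply hne
  apply QuotientGroup.eq.2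
  rw [hT]
  refine (stabilizes_iff hf).2 ⟨hN _, ?_⟩
  have e1 : nConj (hN (x⁻¹ * x')) = (nConj (hN x')).trans (nConj (hN x)).symm := by
    ext c
    show (x⁻¹ * x') * (c : G) * (x⁻¹ * x')⁻¹ = x⁻¹ * (x' * c * x'⁻¹) * x
    group
  rw [e1, mapBlock_trans, ← h]
  exact mapBlock_symm_mapBlock _ _

/-- **The normal case.** -/
theorem blockElt_eq_relTr_of_normal (hM : IsPModular p M) {P : Subgroup G} [hPn : P.Normal]
    {B : Set (IrrCharacter G)} {e : Set (IrrCharacter (Cen P))} (hBe : IsBrauerPairOf p M B P e) {T : Subgroup G}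
    (hT : ∀ x : G, x ∈ T ↔ StabilizesBlock (Cen P) e x) [Fintype (G ⧸ T)] :
    relTr T (Ee P e) = blockElt B := by
  classical
  obtain ⟨hPe, hB, hom⟩ := isBrauerPairOf_iff.1 hBe
  have hP := hPe.1
  have he := hPe.2
  have hEinv : IsInvBy T (Ee P e) := isInvBy_Ee_of_stable he (fun t ht => (hT t).1 ht)
  have hEl := localCoeff_Ee he
  have hbc := isCentralElt_blockElt B
  have hbl : LocalCoeff M (blockElt B) := localCoeff_blockElt (isBlockUnion_of_isPBlock hB)
  have hwc : IsCentralElt (relTr T (Ee P e)) := isCentralElt_relTr hEinv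
  have hwl : LocalCoeff M (relTr T (Ee P e)) := localCoeff_relTr hEl
  -- the orthogonality
  have horth : ∀ q q' : G ⧸ T, q ≠ q' → conjElt q.out (Ee P e) * conjElt q'.out (Ee P e) = 0 := by
    intro q q' hne
    apply conjElt_Ee_mul_conjElt_Ee_of_ne he hT
    rwa [QuotientGroup.out_eq', QuotientGroup.out_eq']
  have hidq : ∀ q : G ⧸ T, conjElt q.out (Ee P e) * conjElt q.out (Ee P e) = conjElt q.out (Ee P e) := by
    intro q
    rw [← conjElt_mul_distrib, Ee_mul_self]
  have hwid : relTr T (Ee P e) * relTr T (Ee P e) = relTr T (Ee P e) := by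
    unfold relTr
    rw [Finset.sum_mul_sum]
    refine Finset.sum_congr rfl fun q _ => ?_
    rw [Finset.sum_eq_single q (fun q' _ hne => horth q q' hne.symm) (by simp), hidq]
  -- support of `e_B`
  have hbsupp : ∀ g, g ∉ Cen P → (blockElt B).coeff g = 0 := by
    intro g hg
    rw [coeff_blockElt]
    exact blockCoeff_eq_zero_of_notMem_centralizer hM P hP hB hg
  obtain ⟨z₁, hz₁⟩ : ∃ z₁, z₁ = resAlg (Cen P) (blockElt B) := ⟨_, rfl⟩
  have hz₁c : IsCentralElt z₁ := hz₁ ▸ isCentralElt_resAlg_of_inv (hbc.isInvBy _)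
  have hz₁l : LocalCoeff M z₁ := hz₁ ▸ localCoeff_resAlg _ hbl
  have hz₁id : z₁ * z₁ = z₁ := hz₁ ▸ resAlg_mul_self_of_support hbsupp (blockElt_mul_self B)
  have hinclz₁ : incl (Cen P) z₁ = blockElt B := hz₁ ▸ incl_resAlg_eq_of_support hbsupp
  obtain ⟨A', hzA', hA'⟩ := exists_blockUnion_of_idem hz₁c hz₁l hz₁id
  have heA' : e ⊆ A' := by
    intro ξ hξ
    by_contra hcon
    have h1 := hom ξ hξ
    rw [← hz₁, hzA', om_blockElt_of_notMem hcon, zero_sub] at h1
    apply not_memLocalIdeal_one (M := M)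
    simpa using memLocalIdeal_neg h1
  have hz₁E : z₁ * blockElt e = blockElt e := by
    apply central_ext_om (isCentralElt_mul hz₁c (isCentralElt_blockElt e)) (isCentralElt_blockElt e)
    intro ψ
    rw [om_mul ψ.2 hz₁c]
    by_cases h : ψ ∈ e
    · rw [om_blockElt_of_mem h, hzA', om_blockElt_of_mem (heA' h), mul_one]
    · rw [om_blockElt_of_notMem h, mul_zero]
  have hbE : blockElt B * Ee P e = Ee P e := by
    unfold Ee
    rw [← hinclz₁, ← map_mul, hz₁E]
  have hbw : relTr T (Ee P e) * blockElt B = relTr T (Ee P e) := by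
    unfold relTr
    rw [Finset.sum_mul]
    refine Finset.sum_congr rfl fun q _ => ?_
    rw [← isCentralElt_commute hbc, ← conjElt_central_mul hbc, hbE]
  have hwne : relTr T (Ee P e) ≠ 0 := by
    intro h
    have hq₀ : conjElt ((1 : G) : G ⧸ T).out (Ee P e) = Ee P e := by
      have h2 : ((1 : G) : G ⧸ T).out ∈ T := by
        have h3 : (((1 : G) : G ⧸ T).out : G ⧸ T) = ((1 : G) : G ⧸ T) := QuotientGroup.out_eq' _
        have h4 := QuotientGroup.eq.1 h3.symm
        simpa using h4
      have h3 := conjElt_mul_of_inv hEinv (1 : G) h2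
      rw [one_mul, conjElt_one'] at h3
      exact h3
    have h1 : relTr T (Ee P e) * Ee P e = Ee P e := by
      unfold relTr
      rw [Finset.sum_mul, Finset.sum_eq_single ((1 : G) : G ⧸ T)]
      · rw [hq₀, Ee_mul_self]
      · intro q _ hne
        have := horth q ((1 : G) : G ⧸ T) hne
        rwa [hq₀] at this
      · simp
    rw [h, zero_mul] at h1
    apply blockElt_ne_zero he
    rw [← resAlg_Ee_self P e, ← h1, resAlg_zero]
  exact eq_blockElt_of_mul_eq hB hwc hwl hwid hwne hbw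

/-- The formula for the coefficient of `e_B`. -/
theorem blockCoeff_eq_of_normal (hM : IsPModular p M) {P : Subgroup G} [hPn : P.Normal]
    {B : Set (IrrCharacter G)} {e : Set (IrrCharacter (Cen P))} (hBe : IsBrauerPairOf p M B P e) {T : Subgroup G}
    (hT : ∀ x : G, x ∈ T ↔ StabilizesBlock (Cen P) e x) (g : G) :
    blockCoeff B g = (Nat.card T : ℂ)⁻¹ * ∑ x : G, subgroupBlockCoeff (Cen P) e (x⁻¹ * g * x) := by
  classical
  haveI : Fintype (G ⧸ T) := Fintype.ofFinite _
  obtain ⟨hPe, hB, hom⟩ := isBrauerPairOf_iff.1 hBe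
  have he := hPe.2
  have hEinv : IsInvBy T (Ee P e) := isInvBy_Ee_of_stable he (fun t ht => (hT t).1 ht)
  rw [← coeff_blockElt, ← blockElt_eq_relTr_of_normal hM hBe hT, coeff_relTr, subgroupBlockCoeff_fun]
  have := sum_eq_card_mul_sum_quotient (T := T) (fun x : G => (Ee P e).coeff (x⁻¹ * g * x)) ?_
  · exact this.symm
  · intro x t ht
    have e1 : (x * t)⁻¹ * g * (x * t) = t⁻¹ * (x⁻¹ * g * x) * t⁻¹⁻¹ := by group
    show (Ee P e).coeff ((x * t)⁻¹ * g * (x * t)) = (Ee P e).coeff (x⁻¹ * g * x)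
    rw [e1]
    exact hEinv _ (T.inv_mem ht) _

end Stab

end Cfsg.Agent.Lib.BPair
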