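import Cfsg.Agent.Lib.CharExtra.PRegRank
import Cfsg.Agent.Lib.Block.Subsect

/-!
# The orthogonal projection attached to a subsection

For a `p`-element `u` and a block `e` of `C = C_G(u)`, the family `F χ = (Π_e (c ↦ χ(u c)))⁰`, `χ ∈ Irr G`,
satisfies: `f ↦ Σ_χ [f, F χ] F χ` is a projection of `C → ℂ` onto the `p`-regular span of `e`.
-/

set_option autoImplicit false
set_option linter.unusedSectionVars false
set_option linter.style.haveILetI false
set_option linter.unusedSimpArgs false
set_option linter.unnecessarySimpa false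

open scoped ComplexConjugate
open Module

namespace Cfsg.Agent.Lib.BPair

open Cfsg Cfsg.Agent.Lib.Char Cfsg.Agent.Lib.Block Cfsg.Agent.Lib.Core Cfsg.Agent.Lib.CharExtra

section Proj

variable {G : Type*} [Group G] [Fintype G] {p : ℕ} [hp : Fact p.Prime] {M : Ideal AlgInt}

section OneGroup

variable {C : Type*} [Group C] [Fintype C]

open Classical in
theorem blockPart_eq_sum (B : Set (IrrCharacter C)) (f : C → ℂ) (x : C) :
    blockPart B f x = ∑ χ : IrrCharacter C, if χ ∈ B then classInner f (χ : C → ℂ) * (χ : C → ℂ) x else 0 := by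
  show ∑ᶠ χ ∈ B, @classInner C _ (Fintype.ofFinite C) f (χ : C → ℂ) * (χ : C → ℂ) x = _
  rw [finsum_mem_irr]
  refine Finset.sum_congr rfl fun χ _ => ?_
  split_ifs
  · rw [classInner_fintype_irrel (Fintype.ofFinite C) ‹_›]
  · rfl

theorem blockProj_eq (B : Set (IrrCharacter C)) (f : C → ℂ) :
    blockProj p B f = pRegularPart p (blockPart B f) := by
  classical
  rw [blockProj_apply]
  funext x
  simp only [Finset.sum_apply]
  by_cases hx : p ∣ orderOf x
  · rw [pRegularPart_eq_zero_of_dvd _ hx]
    refine Finset.sum_eq_zero fun χ _ => ?_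
    split_ifs
    · simp [pRegularPart_eq_zero_of_dvd _ hx]
    · rfl
  · rw [pRegularPart_eq_of_regular _ hx]
    show _ = ∑ᶠ χ ∈ B, @classInner C _ (Fintype.ofFinite C) f (χ : C → ℂ) * (χ : C → ℂ) x
    rw [finsum_mem_irr]
    refine Finset.sum_congr rfl fun χ _ => ?_
    split_ifs
    · simp only [Pi.smul_apply, smul_eq_mul]
      rw [pRegularPart_eq_of_regular _ hx, classInner_fintype_irrel (Fintype.ofFinite C) ‹_›]
    · rfl

theorem classInner_regSpan_of_notMem (hM : IsPModular p M) {e : Set (IrrCharacter C)} (he : IsPBlock M e)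
    {w : C → ℂ} (hw : w ∈ regSpan p e) {ξ : IrrCharacter C} (hξ : ξ ∉ e) : classInner w (ξ : C → ℂ) = 0 := by
  induction hw using Submodule.span_induction with
  | mem f hf =>
    obtain ⟨χ, hχ, rfl⟩ := hf
    show classInner (pRegularPart p (χ : C → ℂ)) (ξ : C → ℂ) = 0
    rw [classInner_pRegularPart_irr, regCoeff_eq_zero_of_notMem hM he hχ hξ]
    simp
  | zero => simp [classInner_def]
  | add x y _ _ hx hy => rw [classInner_add_left, hx, hy, add_zero]
  | smul a x _ hx => rw [classInner_smul_left, hx, mul_zero]

theorem classInner_reg_left {w : C → ℂ} (hw : ∀ y, p ∣ orderOf y → w y = 0) (f : C → ℂ) :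
    classInner w (pRegularPart p f) = classInner w f := by
  simp only [classInner_def]
  congr 1
  refine Finset.sum_congr rfl fun y _ => ?_
  by_cases hy : p ∣ orderOf y
  · rw [hw y hy, zero_mul, zero_mul]
  · rw [pRegularPart_eq_of_regular _ hy]

/-- A class function and its `e`-part have the same inner product with a member of the `p`-regular span of `e`. -/
theorem classInner_blockProj (hM : IsPModular p M) {e : Set (IrrCharacter C)} (he : IsPBlock M e)
    {w : C → ℂ} (hw : w ∈ regSpan p e) {f : C → ℂ} (hf : IsClassFunction C f) :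
    classInner w (blockProj p e f) = classInner w f := by
  classical
  rw [blockProj_eq, classInner_reg_left (fun y hy => regSpan_vanish hw hy)]
  have h1 : f = ∑ ξ : IrrCharacter C, classInner f (ξ : C → ℂ) • (ξ : C → ℂ) := classFunction_eq_sum f hf
  have h2 : blockPart e f = ∑ ξ : IrrCharacter C, if ξ ∈ e then classInner f (ξ : C → ℂ) • (ξ : C → ℂ) else 0 := by
    funext x
    show ∑ᶠ χ ∈ e, @classInner C _ (Fintype.ofFinite C) f (χ : C → ℂ) * (χ : C → ℂ) x = _
    rw [finsum_mem_irr, Finset.sum_apply]
    refine Finset.sum_congr rfl fun χ _ => ?_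
    split_ifs
    · simp only [Pi.smul_apply, smul_eq_mul]
      rw [classInner_fintype_irrel (Fintype.ofFinite C) ‹_›]
    · rfl
  rw [h2]
  conv_rhs => rw [h1]
  rw [classInner_sum_right, classInner_sum_right]
  refine Finset.sum_congr rfl fun ξ _ => ?_
  split_ifs with hξ
  · rfl
  · rw [classInner_smul_right, classInner_regSpan_of_notMem hM he hw hξ]
    simp [classInner_def]

end OneGroup

variable {u : G} [Fintype (Subgroup.centralizer ({u} : Set G))]

/-- The subsection function: the `p`-regular part of the `e`-part of `c ↦ ψ(u c)`. -/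
noncomputable def secF (p : ℕ) (u : G) [Fintype (Subgroup.centralizer ({u} : Set G))] (e : Set (IrrCharacter (Subgroup.centralizer ({u} : Set G))))
    (ψ : G → ℂ) : Subgroup.centralizer ({u} : Set G) → ℂ :=
  blockProj p e (fun c : Subgroup.centralizer ({u} : Set G) => ψ (u * c))

theorem secF_mem (hM : IsPModular p M) {e : Set (IrrCharacter (Subgroup.centralizer ({u} : Set G)))} (he : IsPBlock M e)
    (ψ : G → ℂ) : secF p u e ψ ∈ regSpan p e :=
  (isProj_blockProj hM he).1 _

/-- The `e`-part of a class function vanishing on the `p`-regular elements vanishes on them as well. -/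
theorem blockProj_eq_zero_of_reg {C : Type*} [Group C] [Fintype C] (hM : IsPModular p M) {e : Set (IrrCharacter C)}
    (he : IsBlockUnion M e) {f : C → ℂ} (hf : IsClassFunction C f) (h : ∀ y, ¬ p ∣ orderOf y → f y = 0) :
    blockProj p e f = 0 := by
  classical
  have := isPModular_isPrime hM
  rw [blockProj_eq]
  funext y
  by_cases hy : p ∣ orderOf y
  · rw [pRegularPart_eq_zero_of_dvd _ hy]
    rfl
  · rw [pRegularPart_eq_of_regular _ hy]
    refine blockPart_eq_zero_of_section hM f hf (x := 1) ?_ he (u := y) (z := 1) ?_ (IsConj.refl _)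
    · intro v z hv hz
      obtain ⟨w, rfl, -, -, hw⟩ := hv
      have hz1 : z = 1 := by
        have := (isConj_one_right).1 hz
        exact this
      rw [hz1, one_mul]
      exact h w hw
    · exact ⟨y, by simp, Commute.one_left _, ⟨0, by simp⟩, hy⟩

/-- Gluing is a right inverse of the subsection map on the regular span. -/
theorem secF_glue (hM : IsPModular p M) (hu : ∃ k, orderOf u = p ^ k)
    {e : Set (IrrCharacter (Subgroup.centralizer ({u} : Set G)))} (he : IsPBlock M e)
    {w : Subgroup.centralizer ({u} : Set G) → ℂ} (hw : w ∈ regSpan p e) :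
    secF p u e (glue u w) = w := by
  have := isPModular_isPrime hM
  have hwv : ∀ c, p ∣ orderOf c → w c = 0 := fun c hc => regSpan_vanish hw hc
  have hwc := regSpan_isClassFunction hw
  have hcf : IsClassFunction _ (fun c : Subgroup.centralizer ({u} : Set G) => glue u w (u * c)) :=
    isClassFunction_section _ (glue_isClassFunction u w)
  have h1 := blockProj_eq_zero_of_reg (p := p) hM (isBlockUnion_of_isPBlock he)
    (f := (fun c : Subgroup.centralizer ({u} : Set G) => glue u w (u * c)) - w)
    (by
      intro g h
      have h6 := hcf g h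
      simp only [Pi.sub_apply]
      simp only at h6
      rw [h6, hwc g h]) (by
      intro y hy
      simp only [Pi.sub_apply]
      rw [glue_self hu hwv hwc y hy, sub_self])
  rw [map_sub, sub_eq_zero] at h1
  unfold secF
  rw [h1]
  exact (isProj_blockProj hM he).2 _ hw

/-- The adjunction between gluing and the subsection map. -/
theorem classInner_secF (hM : IsPModular p M)
    {e : Set (IrrCharacter (Subgroup.centralizer ({u} : Set G)))} (he : IsPBlock M e)
    {w : Subgroup.centralizer ({u} : Set G) → ℂ} (hw : w ∈ regSpan p e) {ψ : G → ℂ} (hψ : IsClassFunction G ψ) :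
    classInner w (secF p u e ψ) = classInner (glue u w) ψ := by
  unfold secF
  rw [classInner_blockProj hM he hw (isClassFunction_section ψ hψ)]
  unfold glue
  rw [frobenius_reciprocity _ _ _ hψ]
  simp only [classInner_def]
  congr 1
  refine Fintype.sum_equiv (Equiv.mulLeft (⟨u, mem_centralizer_self u⟩ : Subgroup.centralizer ({u} : Set G))) _ _ fun c => ?_
  simp

/-- The operator `f ↦ Σ_χ [f, F χ] F χ`. -/
noncomputable def secP (p : ℕ) (u : G) [Fintype (Subgroup.centralizer ({u} : Set G))] (e : Set (IrrCharacter (Subgroup.centralizer ({u} : Set G)))) :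
    (Subgroup.centralizer ({u} : Set G) → ℂ) →ₗ[ℂ] (Subgroup.centralizer ({u} : Set G) → ℂ) :=
  ∑ χ : IrrCharacter G, (innerL (secF p u e (χ : G → ℂ))).smulRight (secF p u e (χ : G → ℂ))

theorem secP_apply (e : Set (IrrCharacter (Subgroup.centralizer ({u} : Set G)))) (f : Subgroup.centralizer ({u} : Set G) → ℂ) :
    secP p u e f = ∑ χ : IrrCharacter G, classInner f (secF p u e (χ : G → ℂ)) • secF p u e (χ : G → ℂ) := by
  unfold secP
  rw [LinearMap.sum_apply]
  rfl

theorem secF_add (e : Set (IrrCharacter (Subgroup.centralizer ({u} : Set G)))) (φ ψ : G → ℂ) :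
    secF p u e (φ + ψ) = secF p u e φ + secF p u e ψ := by
  unfold secF
  rw [← map_add]
  rfl

theorem secF_smul (e : Set (IrrCharacter (Subgroup.centralizer ({u} : Set G)))) (c : ℂ) (ψ : G → ℂ) :
    secF p u e (c • ψ) = c • secF p u e ψ := by
  unfold secF
  rw [← map_smul]
  rfl

theorem secF_zero (e : Set (IrrCharacter (Subgroup.centralizer ({u} : Set G)))) :
    secF p u e (0 : G → ℂ) = 0 := by
  unfold secF
  rw [← map_zero (blockProj p e)]
  rfl

theorem secF_sum {ι : Type*} (e : Set (IrrCharacter (Subgroup.centralizer ({u} : Set G)))) (s : Finset ι) (f : ι → G → ℂ) :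
    secF p u e (∑ i ∈ s, f i) = ∑ i ∈ s, secF p u e (f i) := by
  classical
  induction s using Finset.induction_on with
  | empty => simpa using secF_zero e
  | insert a s ha ih =>
    rw [Finset.sum_insert ha, Finset.sum_insert ha, secF_add, ih]

/-- The family of subsection functions gives a projection onto the regular span. -/
theorem isProj_secP (hM : IsPModular p M) (hu : ∃ k, orderOf u = p ^ k)
    {e : Set (IrrCharacter (Subgroup.centralizer ({u} : Set G)))} (he : IsPBlock M e) :
    LinearMap.IsProj (regSpan p e) (secP p u e) := by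
  constructor
  · intro f
    rw [secP_apply]
    exact Submodule.sum_mem _ fun χ _ => Submodule.smul_mem _ _ (secF_mem hM he _)
  · intro w hw
    rw [secP_apply]
    have h1 : ∀ χ : IrrCharacter G, classInner w (secF p u e (χ : G → ℂ)) = classInner (glue u w) (χ : G → ℂ) := fun χ =>
      classInner_secF hM he hw (IsCharacter.isClassFunction (IsIrrCharacter.isCharacter χ.2))
    simp only [h1]
    have h2 := classFunction_eq_sum (glue u w) (glue_isClassFunction u w)
    have h3 := secF_glue hM hu he hw
    conv_rhs => rw [← h3, h2]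
    rw [secF_sum]
    refine Finset.sum_congr rfl fun χ _ => ?_
    rw [secF_smul]

/-- The trace of the projection. -/
theorem sum_classInner_secF (hM : IsPModular p M) (hu : ∃ k, orderOf u = p ^ k)
    {e : Set (IrrCharacter (Subgroup.centralizer ({u} : Set G)))} (he : IsPBlock M e) :
    ∑ χ : IrrCharacter G, classInner (secF p u e (χ : G → ℂ)) (secF p u e (χ : G → ℂ)) = (blockRank p e : ℂ) := by
  have h1 := (isProj_secP hM hu he).trace
  unfold secP at h1
  rw [map_sum] at h1
  simp only [trace_smulRight_eq] at h1
  exact h1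

/-- The Gram matrix of the subsection functions is idempotent. -/
theorem sum_classInner_secF_mul (hM : IsPModular p M) (hu : ∃ k, orderOf u = p ^ k)
    {e : Set (IrrCharacter (Subgroup.centralizer ({u} : Set G)))} (he : IsPBlock M e) (φ ψ : IrrCharacter G) :
    ∑ χ : IrrCharacter G, classInner (secF p u e (φ : G → ℂ)) (secF p u e (χ : G → ℂ)) *
      classInner (secF p u e (χ : G → ℂ)) (secF p u e (ψ : G → ℂ)) =
      classInner (secF p u e (φ : G → ℂ)) (secF p u e (ψ : G → ℂ)) := by
  have h1 := (isProj_secP hM hu he).2 _ (secF_mem hM he (φ : G → ℂ))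
  rw [secP_apply] at h1
  conv_rhs => rw [← h1]
  rw [classInner_sum_left]
  refine Finset.sum_congr rfl fun χ _ => ?_
  rw [classInner_smul_left]

/-- The sum of the squared entries of the Gram matrix is the rank. -/
theorem sum_normSq_classInner_secF (hM : IsPModular p M) (hu : ∃ k, orderOf u = p ^ k)
    {e : Set (IrrCharacter (Subgroup.centralizer ({u} : Set G)))} (he : IsPBlock M e) :
    ∑ φ : IrrCharacter G, ∑ χ : IrrCharacter G,
      classInner (secF p u e (φ : G → ℂ)) (secF p u e (χ : G → ℂ)) *
      conj (classInner (secF p u e (φ : G → ℂ)) (secF p u e (χ : G → ℂ))) = (blockRank p e : ℂ) := by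
  rw [← sum_classInner_secF hM hu he]
  refine Finset.sum_congr rfl fun φ _ => ?_
  rw [← sum_classInner_secF_mul hM hu he φ φ]
  refine Finset.sum_congr rfl fun χ _ => ?_
  rw [conj_classInner]

/-- **Vanishing outside the block** (second main theorem). -/
theorem secF_eq_zero_of_notMem (hM : IsPModular p M) (hu : ∃ k, orderOf u = p ^ k)
    {e : Set (IrrCharacter (Subgroup.centralizer ({u} : Set G)))} {B : Set (IrrCharacter G)}
    (hind : IsInducedBlock M (Subgroup.centralizer ({u} : Set G)) e B) {χ : IrrCharacter G} (hχ : χ ∉ B) :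
    secF p u e (χ : G → ℂ) = 0 := by
  classical
  have := isPModular_isPrime hM
  unfold secF
  rw [blockProj_eq]
  funext y
  by_cases hy : p ∣ orderOf y
  · rw [pRegularPart_eq_zero_of_dvd _ hy]
    rfl
  · rw [pRegularPart_eq_of_regular _ hy]
    have hcf := isClassFunction_section (x := u) _ (IsCharacter.isClassFunction (IsIrrCharacter.isCharacter χ.2))
    rw [blockPart_eq_tr e _ hcf, tr_mul_single]
    let h : Subgroup.centralizer ({u} : Set G) := ⟨u, mem_centralizer_self u⟩ * y
    have hh : (h : G) = u * y := rfl
    have hsec := second_main hM (Subgroup.centralizer ({u} : Set G)) e B hind h (by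
      intro z hz
      have h5 := IsPPart_eq hz (isPPart_mul hu y hy)
      rw [h5]) χ hχ
    unfold tr
    simp only [coeff_blockElt]
    show _ = (0 : ℂ)
    rw [← hsec]
    refine Finset.sum_congr rfl fun k _ => ?_
    congr 2
    rw [hh]
    push_cast
    rw [← mul_assoc, ← mul_assoc, commute_of_mem_centralizer k]

end Proj

end Cfsg.Agent.Lib.BPair
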