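import Cfsg.Agent.Lib.BPair.Blau3
import Cfsg.Agent.Lib.Char.OddOrder
import Cfsg.Agent.Lib.Char.Brauer
import Cfsg.Agent.Lib.Char.Gallagher
import Cfsg.Agent.Lib.Degree.GaloisChar

/-!
# Real characters of odd degree and the principal `2`-block
-/

set_option autoImplicit false
set_option linter.unusedSectionVars false
set_option linter.unusedSimpArgs false
set_option linter.unusedVariables false

open scoped ComplexConjugate
open Cfsg MonoidAlgebra
open Cfsg.Agent.Lib.Block Cfsg.Agent.Lib.Char Cfsg.Agent.Lib.CharExtra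

namespace Cfsg.Agent.Lib.BPair

attribute [local instance] subFintype

section Twist

variable {G : Type*} [Group G] [Fintype G] {M : Ideal AlgInt}

/-- Multiplying an irreducible character by a linear character. -/
noncomputable def twistI (μ : G →* ℂˣ) (χ : IrrCharacter G) : IrrCharacter G :=
  ⟨(χ : G → ℂ) * fun g => (μ g : ℂ),
    isIrr_mul_linear χ.2 (Cfsg.Agent.Lib.Degree.isCharacter_of_units_hom μ) (by simp)⟩

theorem twistI_apply (μ : G →* ℂˣ) (χ : IrrCharacter G) (g : G) :
    (twistI μ χ : G → ℂ) g = (χ : G → ℂ) g * (μ g : ℂ) := rfl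

/-- The complex conjugate of an irreducible character. -/
noncomputable def conjI (χ : IrrCharacter G) : IrrCharacter G :=
  ⟨fun g => conj ((χ : G → ℂ) g), isIrr_conj χ.2⟩

theorem conjI_apply (χ : IrrCharacter G) (g : G) : (conjI χ : G → ℂ) g = conj ((χ : G → ℂ) g) := rfl

theorem memLocalRing_unit_hom [M.IsPrime] (μ : G →* ℂˣ) (g : G) : MemLocalRing M (μ g : ℂ) := by
  refine memLocalRing_of_isIntegral ?_
  have hn : 0 < Nat.card G := Nat.card_pos
  refine ⟨Polynomial.X ^ Nat.card G - 1, Polynomial.monic_X_pow_sub_C 1 hn.ne', ?_⟩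
  have h1 : (μ g) ^ Nat.card G = 1 := by
    rw [← map_pow, pow_card_eq_one', map_one]
  have h2 : (μ g : ℂ) ^ Nat.card G = 1 := by
    rw [← Units.val_pow_eq_pow_val, h1, Units.val_one]
  simp [← Nat.card_eq_fintype_card, h2]

theorem centralChar_twistI (μ : G →* ℂˣ) (χ : IrrCharacter G) (g : G) :
    centralChar (twistI μ χ : G → ℂ) g = centralChar (χ : G → ℂ) g * (μ g : ℂ) := by
  unfold centralChar
  rw [twistI_apply, twistI_apply]
  simp
  ring

theorem sameBlock_twistI [M.IsPrime] (μ : G →* ℂˣ) {χ ψ : IrrCharacter G} (h : SameBlock M (χ : G → ℂ) (ψ : G → ℂ)) :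
    SameBlock M (twistI μ χ : G → ℂ) (twistI μ ψ : G → ℂ) := by
  intro g
  rw [centralChar_twistI, centralChar_twistI, ← sub_mul]
  exact memLocalIdeal_mul_right (h g) (memLocalRing_unit_hom μ g)

theorem conj_irr_eq_inv (χ : IrrCharacter G) (g : G) : conj ((χ : G → ℂ) g) = (χ : G → ℂ) g⁻¹ :=
  (IsCharacter.map_inv (IsIrrCharacter.isCharacter χ.2) g (isOfFinOrder_of_finite g)).symm

theorem centralizer_singleton_inv (g : G) :
    Subgroup.centralizer ({g⁻¹} : Set G) = Subgroup.centralizer ({g} : Set G) := by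
  ext x
  simp only [Subgroup.mem_centralizer_singleton_iff]
  constructor
  · intro h
    have h1 : Commute x g⁻¹ := h
    exact (Commute.inv_right_iff.mp h1)
  · intro h
    have h1 : Commute x g := h
    exact (Commute.inv_right_iff.mpr h1)

theorem centralChar_conjI (χ : IrrCharacter G) (g : G) :
    centralChar (conjI χ : G → ℂ) g = centralChar (χ : G → ℂ) g⁻¹ := by
  unfold centralChar
  rw [conjI_apply, conjI_apply, conj_irr_eq_inv, conj_irr_eq_inv, inv_one, centralizer_singleton_inv]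

theorem sameBlock_conjI {χ ψ : IrrCharacter G} (h : SameBlock M (χ : G → ℂ) (ψ : G → ℂ)) :
    SameBlock M (conjI χ : G → ℂ) (conjI ψ : G → ℂ) := by
  intro g
  rw [centralChar_conjI, centralChar_conjI]
  exact h g⁻¹

/-- Symmetric double sums modulo a local ideal over `2`. -/
theorem memLocalIdeal_symm_sum (hM : IsPModular 2 M) {ι : Type*} [Fintype ι] (f : ι → ι → ℂ) (hs : ∀ a b, f a b = f b a)
    (hl : ∀ a b, MemLocalRing M (f a b)) :
    MemLocalIdeal M (∑ a, ∑ b, f a b - ∑ a, f a a) := by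
  classical
  haveI := isPModular_isPrime hM
  have key : ∀ s : Finset ι, MemLocalIdeal M (∑ a ∈ s, ∑ b ∈ s, f a b - ∑ a ∈ s, f a a) := by
    intro s
    induction s using Finset.induction_on with
    | empty => simpa using memLocalIdeal_zero
    | insert x s hx ih =>
      have h1 : ∑ a ∈ insert x s, ∑ b ∈ insert x s, f a b - ∑ a ∈ insert x s, f a a =
          (∑ a ∈ s, ∑ b ∈ s, f a b - ∑ a ∈ s, f a a) + ((2 : ℕ) : ℂ) * ∑ b ∈ s, f x b := by
        rw [Finset.sum_insert hx, Finset.sum_insert hx]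
        simp only [Finset.sum_insert hx, Finset.sum_add_distrib]
        have h2 : ∑ a ∈ s, f a x = ∑ b ∈ s, f x b := Finset.sum_congr rfl fun a _ => hs a x
        rw [h2]
        push_cast
        ring
      rw [h1]
      exact memLocalIdeal_add ih (memLocalIdeal_mul_right (memLocalIdeal_p hM) (memLocalRing_sum _ _ fun i _ => hl _ _))
  exact key Finset.univ

end Twist

section Main

variable {G : Type*} [Group G] [Fintype G] {M : Ideal AlgInt}
variable {Q : Type*} [CommGroup Q] [Finite Q]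

/-- The involution on characters. -/
noncomputable def tauI (μ : G →* ℂˣ) (χ : IrrCharacter G) : IrrCharacter G := twistI μ (conjI χ)

theorem tauI_apply (μ : G →* ℂˣ) (χ : IrrCharacter G) (g : G) :
    (tauI μ χ : G → ℂ) g = conj ((χ : G → ℂ) g) * (μ g : ℂ) := rfl

theorem conj_unit_hom_mul (μ : G →* ℂˣ) (g : G) : conj (μ g : ℂ) * (μ g : ℂ) = 1 := by
  have h := norm_linear_eq_one (Cfsg.Agent.Lib.Degree.isCharacter_of_units_hom μ) (by simp) g
  rw [mul_comm, Complex.mul_conj, Complex.normSq_eq_norm_sq, h]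
  simp

theorem tauI_tauI (μ : G →* ℂˣ) (χ : IrrCharacter G) : tauI μ (tauI μ χ) = χ := by
  apply Subtype.ext
  funext g
  rw [tauI_apply, tauI_apply, map_mul, Complex.conj_conj, mul_assoc, conj_unit_hom_mul, mul_one]

theorem blockCoeff_inv_of_tau (hM : IsPModular 2 M) (μ : G →* ℂˣ) (η : IrrCharacter G) (hη : tauI μ η = η) (g : G) :
    blockCoeff (blockOf M (η : G → ℂ)) g⁻¹ = (μ g : ℂ) * blockCoeff (blockOf M (η : G → ℂ)) g := by
  classical
  haveI := isPModular_isPrime hM
  have hB : ∀ ξ : IrrCharacter G, tauI μ ξ ∈ blockOf M (η : G → ℂ) ↔ ξ ∈ blockOf M (η : G → ℂ) := by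
    have h1 : ∀ ξ : IrrCharacter G, ξ ∈ blockOf M (η : G → ℂ) → tauI μ ξ ∈ blockOf M (η : G → ℂ) := by
      intro ξ hξ
      have := sameBlock_twistI μ (sameBlock_conjI hξ)
      show SameBlock M (η : G → ℂ) (tauI μ ξ : G → ℂ)
      have e : (twistI μ (conjI η)) = η := hη
      rw [e] at this
      exact this
    intro ξ
    refine ⟨fun h => ?_, h1 ξ⟩
    have := h1 _ h
    rwa [tauI_tauI] at this
  rw [blockCoeff_eq_sum, blockCoeff_eq_sum]
  have h2 : ∀ χ : IrrCharacter G, conj ((χ : G → ℂ) g⁻¹) = (χ : G → ℂ) g := by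
    intro χ
    rw [conj_irr_eq_inv, inv_inv]
  have key := Equiv.sum_comp (Function.Involutive.toPerm (tauI μ) (fun χ => tauI_tauI μ χ))
    (fun χ : IrrCharacter G => (if χ ∈ blockOf M (η : G → ℂ) then (χ : G → ℂ) 1 * conj ((χ : G → ℂ) g⁻¹) else 0 : ℂ))
  rw [← key, mul_left_comm (μ g : ℂ), Finset.mul_sum (a := (μ g : ℂ))]
  congr 1
  refine Finset.sum_congr rfl fun ξ _ => ?_
  change (if tauI μ ξ ∈ blockOf M (η : G → ℂ) then (tauI μ ξ : G → ℂ) 1 * conj ((tauI μ ξ : G → ℂ) g⁻¹) else 0 : ℂ) = _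
  by_cases h : ξ ∈ blockOf M (η : G → ℂ)
  · rw [if_pos ((hB ξ).2 h), if_pos h, h2, tauI_apply, tauI_apply]
    have h3 : conj ((ξ : G → ℂ) 1) = (ξ : G → ℂ) 1 := by
      rw [conj_irr_eq_inv, inv_one]
    rw [h3]
    simp
    ring
  · rw [if_neg (fun h' => h ((hB ξ).1 h')), if_neg h, mul_zero]

/-- The congruence obtained from idempotency. -/
theorem memLocalIdeal_sum_ker_sub (hM : IsPModular 2 M) (π : G →* Q) (μ : Q →* ℂˣ) (η : IrrCharacter G)
    (hη : tauI (μ.comp π) η = η) :
    MemLocalIdeal M (∑ g, blockCoeff (blockOf M (η : G → ℂ)) g * (open Classical in if π g = 1 then (η : G → ℂ) g else 0) -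
      ∑ a, blockCoeff (blockOf M (η : G → ℂ)) a ^ 2 * (μ (π a) : ℂ) * (η : G → ℂ) 1) := by
  classical
  haveI := isPModular_isPrime hM
  set B := blockOf M (η : G → ℂ) with hBdef
  have hU : IsBlockUnion M B := isBlockUnion_of_isPBlock ⟨η, rfl⟩
  have hloc : ∀ g, MemLocalRing M (blockCoeff B g) := memLocalRing_blockCoeff hU
  set t : G → ℂ := fun g => if π g = 1 then (η : G → ℂ) g else 0 with ht
  have hreal : ∀ n : G, π n = 1 → conj ((η : G → ℂ) n) = (η : G → ℂ) n := by
    intro n hn
    have h1 : (tauI (μ.comp π) η : G → ℂ) n = (η : G → ℂ) n := by rw [hη]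
    rw [tauI_apply] at h1
    simpa [hn] using h1
  have htint : ∀ g, MemLocalRing M (t g) := by
    intro g
    simp only [ht]
    split_ifs
    · exact memLocalRing_of_isIntegral (IsCharacter.isIntegral' (IsIrrCharacter.isCharacter η.2) g)
    · exact memLocalRing_zero
  set f : G → G → ℂ := fun a h => blockCoeff B a * ((μ (π h) : ℂ) * blockCoeff B h) * t (a * h⁻¹) with hf
  have hidem : ∀ g, blockCoeff B g = ∑ a, blockCoeff B a * blockCoeff B (a⁻¹ * g) := by
    intro g
    have h1 := congrArg (fun z => MonoidAlgebra.coeff z g) (blockElt_mul_self B)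
    simp only [coeff_mul_eq, coeff_blockElt] at h1
    exact h1.symm
  have hT : ∑ g, blockCoeff B g * t g = ∑ a, ∑ h, f a h := by
    calc ∑ g, blockCoeff B g * t g = ∑ g, ∑ a, blockCoeff B a * blockCoeff B (a⁻¹ * g) * t g := by
          refine Finset.sum_congr rfl fun g _ => ?_
          rw [hidem g, Finset.sum_mul]
      _ = ∑ a, ∑ g, blockCoeff B a * blockCoeff B (a⁻¹ * g) * t g := Finset.sum_comm
      _ = ∑ a, ∑ h, f a h := by
          refine Finset.sum_congr rfl fun a _ => ?_
          refine Fintype.sum_equiv ((Equiv.mulLeft a⁻¹).trans (Equiv.inv G)) _ _ fun g => ?_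
          simp only [hf, Equiv.trans_apply, Equiv.coe_mulLeft, Equiv.inv_apply, inv_inv, mul_inv_rev]
          have h1 := blockCoeff_inv_of_tau hM (μ.comp π) η hη (a⁻¹ * g)⁻¹
          rw [inv_inv] at h1
          simp only [MonoidHom.comp_apply] at h1
          rw [h1]
          have e1 : (a⁻¹ * g)⁻¹ = g⁻¹ * a := by group
          have e2 : a * (a⁻¹ * g) = g := by group
          rw [e1, e2]
  have hsym : ∀ a h, f a h = f h a := by
    intro a h
    simp only [hf, ht]
    by_cases hc : π a = π h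
    · have h1 : π (a * h⁻¹) = 1 := by rw [map_mul, map_inv, hc, mul_inv_cancel]
      have h2 : π (h * a⁻¹) = 1 := by rw [map_mul, map_inv, hc, mul_inv_cancel]
      rw [if_pos h1, if_pos h2]
      have h3 : (η : G → ℂ) (h * a⁻¹) = (η : G → ℂ) (a * h⁻¹) := by
        have := hreal _ h1
        rw [conj_irr_eq_inv] at this
        rwa [mul_inv_rev, inv_inv] at this
      rw [h3, hc]
      ring
    · have h1 : π (a * h⁻¹) ≠ 1 := by
        intro h'
        apply hc
        rw [map_mul, map_inv, mul_inv_eq_one] at h'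
        exact h'
      have h2 : π (h * a⁻¹) ≠ 1 := by
        intro h'
        apply hc
        rw [map_mul, map_inv, mul_inv_eq_one] at h'
        exact h'.symm
      rw [if_neg h1, if_neg h2]
      ring
  have hfl : ∀ a h, MemLocalRing M (f a h) := fun a h =>
    memLocalRing_mul (memLocalRing_mul (hloc a) (memLocalRing_mul (memLocalRing_unit_hom (μ.comp π) h) (hloc h))) (htint _)
  have h1 := memLocalIdeal_symm_sum hM f hsym hfl
  have h2 : ∑ a, f a a = ∑ a, blockCoeff B a ^ 2 * (μ (π a) : ℂ) * (η : G → ℂ) 1 := by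
    refine Finset.sum_congr rfl fun a _ => ?_
    simp only [hf, ht, mul_inv_cancel, map_one, if_true]
    ring
  rw [← hT, h2] at h1
  exact h1

/-- The trace on the kernel is a unit. -/
theorem not_memLocalIdeal_sum_ker (hM : IsPModular 2 M) (π : G →* Q) (hπ : Function.Surjective π) (η : IrrCharacter G)
    (hodd : Odd (charDegree (η : G → ℂ))) :
    ¬ MemLocalIdeal M (∑ g, blockCoeff (blockOf M (η : G → ℂ)) g * (open Classical in if π g = 1 then (η : G → ℂ) g else 0)) := by
  classical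
  haveI := isPModular_isPrime hM
  haveI : Fintype Q := Fintype.ofFinite Q
  set B := blockOf M (η : G → ℂ) with hBdef
  set T := ∑ g, blockCoeff B g * (if π g = 1 then (η : G → ℂ) g else 0) with hTdef
  -- the dual group
  haveI hne : NeZero (Monoid.exponent Q : ℂ) := by
    refine ⟨?_⟩
    have : Monoid.exponent Q ≠ 0 := Monoid.exponent_ne_zero_of_finite
    exact_mod_cast this
  have hcardD : Nat.card (Q →* ℂˣ) = Nat.card Q := CommGroup.card_monoidHom_of_hasEnoughRootsOfUnity Q ℂ
  haveI : Finite (Q →* ℂˣ) := Nat.finite_of_card_ne_zero (by rw [hcardD]; exact Nat.card_pos.ne')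
  haveI : Fintype (Q →* ℂˣ) := Fintype.ofFinite _
  -- orthogonality
  have horth : ∀ q : Q, ∑ l : Q →* ℂˣ, ((l q : ℂˣ) : ℂ) = if q = 1 then (Nat.card Q : ℂ) else 0 := by
    intro q
    by_cases hq : q = 1
    · rw [if_pos hq, hq]
      simp only [map_one, Units.val_one, Finset.sum_const, Finset.card_univ, nsmul_eq_mul, mul_one]
      rw [← Nat.card_eq_fintype_card, hcardD]
    · rw [if_neg hq]
      obtain ⟨l₀, hl₀⟩ := CommGroup.exists_apply_ne_one_of_hasEnoughRootsOfUnity Q ℂ hq
      have h1 : ((l₀ q : ℂˣ) : ℂ) * ∑ l : Q →* ℂˣ, ((l q : ℂˣ) : ℂ) = ∑ l : Q →* ℂˣ, ((l q : ℂˣ) : ℂ) := by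
        rw [Finset.mul_sum]
        refine Fintype.sum_equiv (Equiv.mulLeft l₀) _ _ fun l => ?_
        simp
      have h2 : ((l₀ q : ℂˣ) : ℂ) ≠ 1 := by
        intro h
        exact hl₀ (Units.ext h)
      have h3 : (((l₀ q : ℂˣ) : ℂ) - 1) * ∑ l : Q →* ℂˣ, ((l q : ℂˣ) : ℂ) = 0 := by
        rw [sub_mul, h1, one_mul, sub_self]
      exact (mul_eq_zero.mp h3).resolve_left (sub_ne_zero.mpr h2)
  -- the stabilizer
  let S : Subgroup (Q →* ℂˣ) :=
    { carrier := {l | twistI (l.comp π) η ∈ B}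
      one_mem' := by
        show twistI ((1 : Q →* ℂˣ).comp π) η ∈ B
        have : twistI ((1 : Q →* ℂˣ).comp π) η = η := by
          apply Subtype.ext
          funext g
          simp [twistI_apply]
        rw [this]
        exact mem_blockOf_self η
      mul_mem' := by
        intro a b ha hb
        show twistI ((a * b).comp π) η ∈ B
        have h1 := sameBlock_twistI (a.comp π) (hb : SameBlock M (η : G → ℂ) _)
        have h2 : twistI (a.comp π) (twistI (b.comp π) η) = twistI ((a * b).comp π) η := by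
          apply Subtype.ext
          funext g
          simp [twistI_apply]
          try ring
        rw [h2] at h1
        exact sameBlock_trans (ha : SameBlock M (η : G → ℂ) _) h1
      inv_mem' := by
        intro a ha
        show twistI (a⁻¹.comp π) η ∈ B
        have h1 := sameBlock_twistI (a⁻¹.comp π) (ha : SameBlock M (η : G → ℂ) _)
        have h2 : twistI (a⁻¹.comp π) (twistI (a.comp π) η) = η := by
          apply Subtype.ext
          funext g
          simp [twistI_apply]
        rw [h2] at h1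
        exact sameBlock_symm h1 }
  have hSmem : ∀ l : Q →* ℂˣ, l ∈ S ↔ twistI (l.comp π) η ∈ B := fun l => Iff.rfl
  -- the main count
  have hcount : (Nat.card Q : ℂ) * T = (Nat.card S : ℂ) * (η : G → ℂ) 1 := by
    have h1 : (Nat.card Q : ℂ) * T = ∑ g, blockCoeff B g * ((η : G → ℂ) g * ∑ l : Q →* ℂˣ, ((l (π g) : ℂˣ) : ℂ)) := by
      rw [hTdef, Finset.mul_sum]
      refine Finset.sum_congr rfl fun g _ => ?_
      rw [horth]
      by_cases hg : π g = 1
      · simp only [hg, if_true]
        ring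
      · simp only [hg, if_false]
        ring
    have h2 : ∑ g, blockCoeff B g * ((η : G → ℂ) g * ∑ l : Q →* ℂˣ, ((l (π g) : ℂˣ) : ℂ)) =
        ∑ l : Q →* ℂˣ, tr (twistI (l.comp π) η : G → ℂ) (blockElt B) := by
      unfold tr
      simp only [Finset.mul_sum]
      rw [Finset.sum_comm]
      refine Finset.sum_congr rfl fun l _ => Finset.sum_congr rfl fun g _ => ?_
      rw [coeff_blockElt, twistI_apply]
      simp
    have h3 : ∀ l : Q →* ℂˣ, tr (twistI (l.comp π) η : G → ℂ) (blockElt B) = if l ∈ S then (η : G → ℂ) 1 else 0 := by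
      intro l
      rw [tr_blockElt]
      by_cases hl : l ∈ S
      · rw [if_pos ((hSmem l).1 hl), if_pos hl, twistI_apply]
        simp
      · rw [if_neg (fun h => hl ((hSmem l).2 h)), if_neg hl]
    rw [h1, h2]
    simp only [h3]
    rw [Finset.sum_ite, Finset.sum_const_zero, add_zero, Finset.sum_const, nsmul_eq_mul]
    congr 1
    rw [Nat.card_eq_fintype_card (α := S), Fintype.card_subtype]
  -- divide
  obtain ⟨q, hq⟩ : Nat.card S ∣ Nat.card Q := by
    rw [← hcardD]
    exact Subgroup.card_subgroup_dvd_card S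
  have hSne : (Nat.card S : ℂ) ≠ 0 := by
    have : Nat.card S ≠ 0 := Nat.card_pos.ne'
    exact_mod_cast this
  have hqT : (q : ℂ) * T = (η : G → ℂ) 1 := by
    have h1 : (Nat.card S : ℂ) * ((q : ℂ) * T) = (Nat.card S : ℂ) * (η : G → ℂ) 1 := by
      rw [← hcount, hq]
      push_cast
      ring
    exact mul_left_cancel₀ hSne h1
  intro hTI
  have hη1 : MemLocalIdeal M ((η : G → ℂ) 1) := by
    rw [← hqT]
    exact memLocalIdeal_mul_left (memLocalRing_natCast q) hTI
  obtain ⟨k, hk⟩ := hodd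
  have hdeg : (η : G → ℂ) 1 = (charDegree (η : G → ℂ) : ℂ) :=
    (charDegree_cast (IsIrrCharacter.isCharacter η.2)).symm
  rw [hdeg, hk] at hη1
  have h1 : MemLocalIdeal M ((1 : ℂ)) := by
    have h2 := memLocalIdeal_sub hη1 (memLocalIdeal_mul_right (memLocalIdeal_p hM) (memLocalRing_natCast k))
    have e : ((2 * k + 1 : ℕ) : ℂ) - ((2 : ℕ) : ℂ) * (k : ℂ) = 1 := by
      push_cast
      ring
    rwa [e] at h2
  exact not_memLocalIdeal_one h1

/-- **Real characters of odd degree**: a twist lies in the principal `2`-block. -/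
theorem exists_principal_twist (hM : IsPModular 2 M) (π : G →* Q) (hπ : Function.Surjective π) (μ : Q →* ℂˣ)
    (η : IrrCharacter G) (hη : tauI (μ.comp π) η = η) (hodd : Odd (charDegree (η : G → ℂ))) :
    ∃ ν : Q →* ℂˣ, twistI (ν.comp π) η ∈ principalBlock M G := by
  classical
  haveI := isPModular_isPrime hM
  haveI : Fact (Nat.Prime 2) := ⟨Nat.prime_two⟩
  set B := blockOf M (η : G → ℂ) with hBdef
  have hU : IsBlockUnion M B := isBlockUnion_of_isPBlock ⟨η, rfl⟩
  have hloc : ∀ g, MemLocalRing M (blockCoeff B g) := memLocalRing_blockCoeff hU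
  obtain ⟨s, m, hm, hcard⟩ : ∃ s m : ℕ, ¬ 2 ∣ m ∧ Nat.card Q = 2 ^ s * m := by
    obtain ⟨s, m, hm, hc⟩ := Nat.exists_eq_pow_mul_and_not_dvd (n := Nat.card Q) Nat.card_pos.ne' 2 (by norm_num)
    exact ⟨s, m, hm, hc⟩
  obtain ⟨c, hc⟩ : ∃ c, m + 1 = 2 * c := by
    have : Even (m + 1) := by
      rw [Nat.even_add_one, even_iff_two_dvd]
      exact hm
    obtain ⟨c, hc⟩ := this
    exact ⟨c, by omega⟩
  let ν : Q →* ℂˣ := μ ^ c
  let νG : G →* ℂˣ := ν.comp π
  have hν : ∀ a : G, MemLocalIdeal M ((μ (π a) : ℂ) - (νG a : ℂ) ^ 2) := by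
    intro a
    have h1 : (νG a : ℂ) ^ 2 = (μ (π a) : ℂ) * (μ (π a) : ℂ) ^ m := by
      have : νG a = (μ (π a)) ^ c := by
        simp [νG, ν]
      rw [this, Units.val_pow_eq_pow_val, ← pow_mul, mul_comm c, ← hc, pow_succ]
      ring
    have h2 : ((μ (π a) : ℂ) ^ m) ^ 2 ^ s = 1 := by
      rw [← pow_mul, mul_comm m, ← hcard, ← Units.val_pow_eq_pow_val, ← map_pow, pow_card_eq_one', map_one, Units.val_one]
    have h3 := memLocalIdeal_sub_one_of_pow hM s (memLocalRing_pow (memLocalRing_unit_hom (μ.comp π) a) m) h2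
    rw [h1]
    have e : (μ (π a) : ℂ) - (μ (π a) : ℂ) * (μ (π a) : ℂ) ^ m = - ((μ (π a) : ℂ) * ((μ (π a) : ℂ) ^ m - 1)) := by ring
    rw [e]
    exact memLocalIdeal_neg (memLocalIdeal_mul_left (memLocalRing_unit_hom (μ.comp π) a) h3)
  let νI : IrrCharacter G := ⟨fun g => (νG g : ℂ), isIrrCharacter_of_hom νG⟩
  refine ⟨ν⁻¹, ?_⟩
  by_cases hνB : νI ∈ B
  · have h1 := sameBlock_twistI ((ν⁻¹).comp π) (hνB : SameBlock M (η : G → ℂ) (νI : G → ℂ))
    have h2 : (twistI ((ν⁻¹).comp π) νI : G → ℂ) = fun _ => 1 := by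
      funext g
      rw [twistI_apply]
      simp [νI, νG]
    rw [h2] at h1
    exact sameBlock_symm h1
  · exfalso
    -- the sum vanishes
    have h0 : ∑ a, blockCoeff B a * (νG a : ℂ) = 0 := by
      have h1 := tr_blockElt B νI
      rw [if_neg hνB] at h1
      unfold tr at h1
      simp only [coeff_blockElt] at h1
      exact h1
    have h3 := memLocalIdeal_sum_pow_prime_sub (p := 2) hM Finset.univ (fun a => blockCoeff B a * (νG a : ℂ))
      (fun a => memLocalRing_mul (hloc a) (memLocalRing_unit_hom νG a))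
    rw [h0] at h3
    have h4 : MemLocalIdeal M (∑ a, blockCoeff B a ^ 2 * (μ (π a) : ℂ)) := by
      have h5 : MemLocalIdeal M (∑ a, blockCoeff B a ^ 2 * ((μ (π a) : ℂ) - (νG a : ℂ) ^ 2)) :=
        memLocalIdeal_sum _ _ fun a _ => memLocalIdeal_mul_left (memLocalRing_pow (hloc a) 2) (hν a)
      have h6 := memLocalIdeal_sub h5 h3
      have e : ∑ a, blockCoeff B a ^ 2 * ((μ (π a) : ℂ) - (νG a : ℂ) ^ 2) -
          ((0 : ℂ) ^ 2 - ∑ a, (blockCoeff B a * (νG a : ℂ)) ^ 2) = ∑ a, blockCoeff B a ^ 2 * (μ (π a) : ℂ) := by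
        rw [zero_pow two_ne_zero, zero_sub, sub_neg_eq_add, ← Finset.sum_add_distrib]
        refine Finset.sum_congr rfl fun a _ => ?_
        ring
      rwa [e] at h6
    have h7 := memLocalIdeal_sum_ker_sub hM π μ η hη
    have h8 := not_memLocalIdeal_sum_ker hM π hπ η hodd
    apply h8
    have h9 : ∑ a, blockCoeff B a ^ 2 * (μ (π a) : ℂ) * (η : G → ℂ) 1 =
        (∑ a, blockCoeff B a ^ 2 * (μ (π a) : ℂ)) * (η : G → ℂ) 1 := by
      rw [Finset.sum_mul]
    rw [h9] at h7
    have h10 := memLocalIdeal_add h7 (memLocalIdeal_mul_right h4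
      (memLocalRing_of_isIntegral (IsCharacter.isIntegral' (IsIrrCharacter.isCharacter η.2) 1)))
    rwa [sub_add_cancel] at h10

/-- An extendible real character of odd degree has an extension in the principal `2`-block. -/
theorem real_odd_extension (N : Subgroup G) [hN : N.Normal] (hM : IsPModular 2 M) (θ : IrrCharacter N)
    (hreal : ∀ n : N, ((θ : N → ℂ) n).im = 0) (hodd : Odd (charDegree (θ : N → ℂ))) (η : IrrCharacter G)
    (hext : ∀ n : N, (η : G → ℂ) n = (θ : N → ℂ) n) :
    ∃ η' : IrrCharacter G, (∀ n : N, (η' : G → ℂ) n = (θ : N → ℂ) n) ∧ η' ∈ principalBlock M G := by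
  classical
  let φ : N → ℂ := fun _ => 1
  have hφ : IsIrrCharacter N φ := by
    have := isIrrCharacter_of_hom (1 : N →* ℂˣ)
    simpa [φ] using this
  have hφinv : ∀ g, conjFn hN g φ = φ := fun g => rfl
  have hprod0 : φ * (θ : N → ℂ) = θ := by
    funext n
    simp [φ]
  have hprod : IsIrrCharacter N (φ * (θ : N → ℂ)) := by
    rw [hprod0]
    exact θ.2
  have hB := gallagher_bijOn N hφ θ.2 hφinv hprod η.2 hext
  have hθre : ∀ n : N, conj ((θ : N → ℂ) n) = (θ : N → ℂ) n := fun n => Complex.conj_eq_iff_im.mpr (hreal n)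
  have hψ : (conjI η : G → ℂ) ∈ {ψ : G → ℂ | IsIrrCharacter G ψ ∧ classInner (indFun N (φ * (θ : N → ℂ))) ψ ≠ 0} := by
    refine ⟨(conjI η).2, ?_⟩
    rw [frobenius_reciprocity N _ _ (IsCharacter.isClassFunction (IsIrrCharacter.isCharacter (conjI η).2))]
    have h1 : (fun n : N => (conjI η : G → ℂ) n) = θ := by
      funext n
      rw [conjI_apply, hext, hθre]
    rw [h1, hprod0, classInner_irr_self θ.2]
    exact one_ne_zero
  obtain ⟨β, ⟨hβ, hβi⟩, hβη⟩ := hB.surjOn hψ
  have hβη' : ∀ g, β g * (η : G → ℂ) g = conj ((η : G → ℂ) g) := fun g => congrFun hβη g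
  have hβ1 : β 1 = 1 := by
    have h1 := hβη' 1
    have h2 : conj ((η : G → ℂ) 1) = (η : G → ℂ) 1 := by
      rw [conj_irr_eq_inv, inv_one]
    rw [h2] at h1
    exact mul_right_cancel₀ (isIrr_one_ne_zero η.2) (h1.trans (one_mul _).symm)
  obtain ⟨lam, hlam⟩ := exists_hom_of_character_one (IsIrrCharacter.isCharacter hβ) hβ1
  have hβlam : ∀ g, β g = (lam g : ℂ) := fun g => congrFun hlam g
  have hlamN : ∀ n ∈ N, lam n = 1 := by
    rw [frobenius_reciprocity N _ _ (IsCharacter.isClassFunction (IsIrrCharacter.isCharacter hβ))] at hβi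
    have h1 : classInner (fun n : N => β n) φ ≠ 0 := by
      rw [← conj_classInner]
      exact (map_ne_zero _).mpr hβi
    have h2 := clifford_invariant hN hβ hφ hφinv h1
    have h3 : classInner (fun n : N => β n) φ = 1 := by
      have := congrFun h2 1
      simp only [Pi.smul_apply, smul_eq_mul, φ, mul_one, OneMemClass.coe_one] at this
      rw [← this, hβ1]
    intro n hn
    have h4 := congrFun h2 ⟨n, hn⟩
    rw [h3] at h4
    simp only [one_smul, φ] at h4
    rw [hβlam] at h4
    exact Units.ext h4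
  let μ₀ : G ⧸ N →* ℂˣ := QuotientGroup.lift N lam⁻¹ (by
    intro n hn
    simp [hlamN n hn])
  let μ : Abelianization (G ⧸ N) →* ℂˣ := Abelianization.lift μ₀
  let π : G →* Abelianization (G ⧸ N) := (Abelianization.of).comp (QuotientGroup.mk' N)
  have hμ : ∀ g, μ (π g) = (lam g)⁻¹ := by
    intro g
    simp [μ, π, μ₀]
  have hπ : Function.Surjective π := by
    intro q
    obtain ⟨r, rfl⟩ := QuotientGroup.mk'_surjective (commutator (G ⧸ N)) q
    obtain ⟨g, rfl⟩ := QuotientGroup.mk'_surjective N r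
    exact ⟨g, rfl⟩
  haveI : Finite (Abelianization (G ⧸ N)) := inferInstanceAs (Finite ((G ⧸ N) ⧸ commutator (G ⧸ N)))
  have hπN : ∀ n ∈ N, π n = 1 := by
    intro n hn
    have : (QuotientGroup.mk' N) n = 1 := (QuotientGroup.eq_one_iff n).mpr hn
    simp only [π, MonoidHom.comp_apply, this, map_one]
  have hτ : tauI (μ.comp π) η = η := by
    apply Subtype.ext
    funext g
    rw [tauI_apply]
    simp only [MonoidHom.comp_apply, hμ]
    rw [← hβη', hβlam]
    have hne : ((lam g : ℂˣ) : ℂ) ≠ 0 := Units.ne_zero _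
    simp
    field_simp
  have hodd' : Odd (charDegree (η : G → ℂ)) := by
    have h1 : (η : G → ℂ) 1 = (θ : N → ℂ) 1 := by
      have := hext 1
      simpa using this
    have h2 : charDegree (η : G → ℂ) = charDegree (θ : N → ℂ) := by
      unfold charDegree
      rw [h1]
    rw [h2]
    exact hodd
  obtain ⟨ν, hν⟩ := exists_principal_twist hM π hπ μ η hτ hodd'
  refine ⟨twistI (ν.comp π) η, ?_, hν⟩
  intro n
  rw [twistI_apply]
  simp only [MonoidHom.comp_apply, hπN n n.2, map_one, Units.val_one, mul_one]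
  exact hext n

end Main

end Cfsg.Agent.Lib.BPair
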