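import Cfsg.Agent.Lib.BPair.Fusion

/-!
# Relative Sylow: Brauer pairs inside a subgroup

Pairs of a subgroup `L` on subgroups whose centralizer lies in `L` are the same as pairs of `G`.
-/

set_option autoImplicit false
set_option linter.unusedSectionVars false
set_option linter.unusedSimpArgs false
set_option linter.unusedVariables false

open scoped ComplexConjugate Pointwise
open Cfsg MonoidAlgebra
open Cfsg.Agent.Lib.Block Cfsg.Agent.Lib.Char Cfsg.Agent.Lib.CharExtra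

namespace Cfsg.Agent.Lib.BPair

attribute [local instance] subFintype

section Up

variable {G : Type*} [Group G] [Fintype G] {M : Ideal AlgInt} [hMp : M.IsPrime] {p : ℕ} [hp : Fact p.Prime]
  {L : Subgroup G}

/-- The image in `G` of a subgroup of `L`. -/
abbrev up (R : Subgroup L) : Subgroup G := R.map L.subtype

theorem coe_mem_up {R : Subgroup L} {u : L} : (u : G) ∈ up R ↔ u ∈ R := by
  constructor
  · rintro ⟨v, hv, h⟩
    have : v = u := Subtype.ext h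
    rwa [← this]
  · intro h
    exact ⟨u, h, rfl⟩

theorem up_le {R : Subgroup L} : up R ≤ L := Subgroup.map_subtype_le R

theorem coe_mem_cen_up {R : Subgroup L} {c : L} (hc : c ∈ Cen R) : (c : G) ∈ Cen (up R) := by
  rw [Subgroup.mem_centralizer_iff]
  rintro _ ⟨u, hu, rfl⟩
  exact congrArg Subtype.val (Subgroup.mem_centralizer_iff.1 hc u hu)

theorem mem_cen_of_coe {R : Subgroup L} {c : L} (hc : (c : G) ∈ Cen (up R)) : c ∈ Cen R := by
  rw [Subgroup.mem_centralizer_iff]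
  intro u hu
  apply Subtype.ext
  exact Subgroup.mem_centralizer_iff.1 hc (u : G) (coe_mem_up.2 hu)

/-- The isomorphism of centralizers. -/
noncomputable def cenIso (R : Subgroup L) (h : Cen (up R) ≤ L) : Cen R ≃* Cen (up R) where
  toFun c := ⟨((c : L) : G), coe_mem_cen_up c.2⟩
  invFun c := ⟨⟨c, h c.2⟩, mem_cen_of_coe c.2⟩
  left_inv c := rfl
  right_inv c := rfl
  map_mul' a b := rfl

@[simp] theorem cenIso_coe (R : Subgroup L) (h : Cen (up R) ≤ L) (c : Cen R) :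
    ((cenIso R h c : Cen (up R)) : G) = ((c : L) : G) := rfl

@[simp] theorem cenIso_symm_coe (R : Subgroup L) (h : Cen (up R) ≤ L) (c : Cen (up R)) :
    (((cenIso R h).symm c : Cen R) : L) = ⟨c, h c.2⟩ := rfl

theorem mapBlock_mapBlock_symm {H K : Type*} [Group H] [Group K] (φ : H ≃* K) (f : Set (IrrCharacter K)) :
    mapBlock φ (mapBlock φ.symm f) = f := by
  have := mapBlock_symm_mapBlock φ.symm f
  rwa [MulEquiv.symm_symm] at this

/-- The idempotents correspond. -/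
theorem incl_Ee_up (R : Subgroup L) (h : Cen (up R) ≤ L) (g : Set (IrrCharacter (Cen R))) :
    incl L (Ee R g) = Ee (up R) (mapBlock (cenIso R h) g) := by
  apply ext_coeff
  intro x
  unfold Ee
  by_cases hx : x ∈ Cen (up R)
  · have hxL : x ∈ L := h hx
    have e1 := coeff_incl_coe L (incl (Cen R) (blockElt g)) ⟨x, hxL⟩
    simp only at e1
    have hc : (⟨x, hxL⟩ : L) ∈ Cen R := mem_cen_of_coe hx
    have e2 := coeff_incl_coe (Cen R) (blockElt g) ⟨⟨x, hxL⟩, hc⟩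
    simp only at e2
    have e3 := coeff_incl_coe (Cen (up R)) (blockElt (mapBlock (cenIso R h) g)) ⟨x, hx⟩
    simp only at e3
    rw [e1, e2, e3, coeff_blockElt, coeff_blockElt]
    exact (blockCoeff_mapBlock (cenIso R h) g ⟨⟨x, hxL⟩, hc⟩).symm
  · rw [coeff_incl_of_notMem _ _ hx]
    by_cases hxL : x ∈ L
    · have e1 := coeff_incl_coe L (incl (Cen R) (blockElt g)) ⟨x, hxL⟩
      simp only at e1
      rw [e1, coeff_incl_of_notMem]
      intro hc
      exact hx (coe_mem_cen_up hc)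
    · exact coeff_incl_of_notMem _ _ hxL

/-- The central characters correspond. -/
theorem om_up (R : Subgroup L) (h : Cen (up R) ≤ L) (ξ : IrrCharacter (Cen (up R))) (z : MonoidAlgebra ℂ L) :
    om (ξ : Cen (up R) → ℂ) (resAlg (Cen (up R)) (incl L z)) =
      om (mapIrr (cenIso R h).symm ξ : Cen R → ℂ) (resAlg (Cen R) z) := by
  classical
  unfold om tr
  have h1 : (mapIrr (cenIso R h).symm ξ : Cen R → ℂ) 1 = (ξ : Cen (up R) → ℂ) 1 := by
    simp [mapIrr]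
  rw [h1]
  congr 1
  rw [← Equiv.sum_comp (cenIso R h).toEquiv]
  refine Finset.sum_congr rfl fun c _ => ?_
  rw [coeff_resAlg, coeff_resAlg]
  have e1 := coeff_incl_coe L z (c : L)
  have e2 : (((cenIso R h).toEquiv c : Cen (up R)) : G) = ((c : L) : G) := rfl
  rw [e2, e1, mapIrr_apply']
  simp

theorem isPGroup_of_up {R : Subgroup L} (h : IsPGroup p (up R)) : IsPGroup p R := by
  intro x
  obtain ⟨k, hk⟩ := h ⟨((x : L) : G), coe_mem_up.2 x.2⟩
  refine ⟨k, ?_⟩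
  apply Subtype.ext
  apply Subtype.ext
  have := congrArg Subtype.val hk
  simpa using this

theorem up_mono {R R' : Subgroup L} (h : R ≤ R') : up R ≤ up R' := Subgroup.map_mono h

theorem cen_up_anti {R R' : Subgroup L} (h : R ≤ R') (hL : Cen (up R) ≤ L) : Cen (up R') ≤ L :=
  (cen_le_cen (up_mono h)).trans hL

theorem stabilizes_up {R₁ : Subgroup L} (h₁ : Cen (up R₁) ≤ L) {g : Set (IrrCharacter (Cen R₁))}
    (hg : IsPBlock M g) {u : L} (hN : (u : G) ∈ Subgroup.normalizer ((Cen (up R₁) : Subgroup G) : Set G))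
    (hst : StabilizesBlock (Cen R₁) g u) :
    StabilizesBlock (Cen (up R₁)) (mapBlock (cenIso R₁ h₁) g) (u : G) := by
  obtain ⟨hu, h1⟩ := (stabilizes_iff hg).1 hst
  refine (stabilizes_iff (isPBlock_mapBlock _ hg)).2 ⟨hN, ?_⟩
  have e : (cenIso R₁ h₁).trans (nConj hN) = (nConj hu).trans (cenIso R₁ h₁) := by
    ext c
    rfl
  rw [← mapBlock_trans, e, mapBlock_trans, h1]

/-- Normal inclusions lift to `G`. -/
theorem isNormalSubpair_up {R₁ R₂ : Subgroup L} (h₁ : Cen (up R₁) ≤ L) (h₂ : Cen (up R₂) ≤ L)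
    {g₁ : Set (IrrCharacter (Cen R₁))} {g₂ : Set (IrrCharacter (Cen R₂))} (hn : IsNormalSubpair p M R₁ g₁ R₂ g₂) :
    IsNormalSubpair p M (up R₁) (mapBlock (cenIso R₁ h₁) g₁) (up R₂) (mapBlock (cenIso R₂ h₂) g₂) := by
  obtain ⟨⟨hp₁, hb₁⟩, ⟨hp₂, hb₂⟩, hle, hN, hst, hom⟩ := isNormalSubpair_iff.1 hn
  have hNup : up R₂ ≤ Subgroup.normalizer ((up R₁ : Subgroup G) : Set G) := by
    rintro _ ⟨u, hu, rfl⟩
    rw [Subgroup.mem_normalizer_iff]
    intro v
    by_cases hv : v ∈ L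
    · have h1 := Subgroup.mem_normalizer_iff.1 (hN hu) ⟨v, hv⟩
      have e1 : (L.subtype u : G) * v * (L.subtype u : G)⁻¹ =
          ((u * ⟨v, hv⟩ * u⁻¹ : L) : G) := rfl
      rw [e1, coe_mem_up]
      have e2 : v ∈ up R₁ ↔ (⟨v, hv⟩ : L) ∈ R₁ := coe_mem_up (u := ⟨v, hv⟩)
      rw [e2]
      exact h1
    · constructor
      · intro h
        exact absurd (up_le h) hv
      · intro h
        exfalso
        apply hv
        have := up_le h
        have e1 : (L.subtype u : G) ∈ L := u.2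
        have h3 := L.mul_mem (L.mul_mem (L.inv_mem e1) this) e1
        simpa [mul_assoc] using h3
  refine isNormalSubpair_iff.2 ⟨⟨hp₁.map _, isPBlock_mapBlock _ hb₁⟩, ⟨hp₂.map _, isPBlock_mapBlock _ hb₂⟩,
    up_mono hle, hNup, ?_, ?_⟩
  · rintro _ ⟨u, hu, rfl⟩
    exact stabilizes_up h₁ hb₁ (normalizer_le_normalizer_cen (hNup ⟨u, hu, rfl⟩)) (hst u hu)
  · intro ξ hξ
    rw [mem_mapBlock] at hξ
    have h1 := hom _ hξ
    rw [← om_up R₂ h₂, incl_Ee_up R₁ h₁] at h1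
    exact h1

/-- The image of an index. -/
noncomputable def upIdx (a : BrauerPairIdx L) (h : Cen (up a.1) ≤ L) : BrauerPairIdx G :=
  ⟨up a.1, mapBlock (cenIso a.1 h) a.2⟩

theorem chain_up {a b : BrauerPairIdx L} (hc : Relation.ReflTransGen (NormalSubpairRel p M) a b)
    (ha : Cen (up a.1) ≤ L) : ∀ hb : Cen (up b.1) ≤ L,
    Relation.ReflTransGen (NormalSubpairRel p M) (upIdx a ha) (upIdx b hb) := by
  induction hc with
  | refl => intro _; exact .refl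
  | @tail c d hac hcd ih =>
    intro hd
    have hcL : Cen (up c.1) ≤ L := cen_up_anti (chain_le hac) ha
    exact (ih hcL).tail (isNormalSubpair_up (g₁ := c.2) (g₂ := d.2) hcL hd hcd)

end Up

section ConjIdx

variable {G : Type*} [Group G] [Fintype G] {M : Ideal AlgInt} [hMp : M.IsPrime] {p : ℕ} [hp : Fact p.Prime]

theorem cj_mul (x y : G) (Q : Subgroup G) : cj x (cj y Q) = cj (x * y) Q := by
  ext u
  rw [mem_cj, mem_cj, mem_cj]
  have e : y⁻¹ * (x⁻¹ * u * x) * y = (x * y)⁻¹ * u * (x * y) := by group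
  rw [e]

theorem conjIdx_mul (x y : G) (a : BrauerPairIdx G) : conjIdx x (conjIdx y a) = conjIdx (x * y) a := by
  obtain ⟨Q, f⟩ := a
  show (⟨cj x (cj y Q), conjBlock (cj y Q) x (conjBlock Q y f)⟩ : BrauerPairIdx G) =
    ⟨cj (x * y) Q, conjBlock Q (x * y) f⟩
  apply sigma_eq_of (cj_mul x y Q)
  intro ξ''
  constructor
  · rintro ⟨ξ₁, ⟨ξ, hξ, h2⟩, h1⟩
    refine ⟨mapIrr (cEquiv Q (x * y)) ξ, by rw [conjBlock_eq]; exact ⟨ξ, hξ, rfl⟩, fun c'' c hc => ?_⟩
    rw [mapIrr_apply']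
    have hc0 : y * ((cEquiv Q (x * y)).symm c : G) * y⁻¹ ∈ Cen (cj y Q) :=
      conj_mem_cen_cj.2 ((cEquiv Q (x * y)).symm c).2
    have e1 : (c'' : G) = x * (y * ((cEquiv Q (x * y)).symm c : G) * y⁻¹) * x⁻¹ := by
      have e2 : (((cEquiv Q (x * y)).symm c : Cen Q) : G) = (x * y)⁻¹ * (c : G) * (x * y) :=
        cEquiv_symm_coe Q (x * y) c
      rw [e2, hc]
      group
    rw [h1 ⟨_, hc0⟩ c'' e1, h2 _ ⟨_, hc0⟩ rfl]
  · rintro ⟨ξ, hξ, h⟩
    rw [conjBlock_eq] at hξ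
    obtain ⟨ξ₀, hξ₀, rfl⟩ := hξ
    refine ⟨mapIrr (cEquiv Q y) ξ₀, by rw [conjBlock_eq]; exact ⟨ξ₀, hξ₀, rfl⟩, fun c₁ c'' hc => ?_⟩
    have hc0 : (c'' : G) ∈ Cen (cj (x * y) Q) := by
      rw [← cj_mul]
      exact c''.2
    rw [h c'' ⟨_, hc0⟩ rfl, mapIrr_apply', mapIrr_apply']
    refine congrArg _ (Subtype.ext ?_)
    rw [cEquiv_symm_coe, cEquiv_symm_coe]
    show (x * y)⁻¹ * (c'' : G) * (x * y) = y⁻¹ * (c₁ : G) * y
    rw [hc]
    group

theorem cj_of_mem {u : G} {R : Subgroup G} (hu : u ∈ R) : cj u R = R := by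
  ext v
  rw [mem_cj]
  constructor
  · intro h
    have := R.mul_mem (R.mul_mem hu h) (R.inv_mem hu)
    have e : u * (u⁻¹ * v * u) * u⁻¹ = v := by group
    rwa [e] at this
  · intro h
    exact R.mul_mem (R.mul_mem (R.inv_mem hu) h) hu

theorem conjIdx_of_mem {u : G} {R : Subgroup G} (hu : u ∈ R) (s : Set (IrrCharacter (Cen R))) :
    conjIdx u ⟨R, s⟩ = ⟨R, s⟩ := by
  show (⟨cj u R, conjBlock R u s⟩ : BrauerPairIdx G) = ⟨R, s⟩
  apply sigma_eq_of (cj_of_mem hu)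
  intro ξ''
  have hcomm : ∀ c : Cen R, u * (c : G) * u⁻¹ = c := by
    intro c
    have := Subgroup.mem_centralizer_iff.1 c.2 u hu
    rw [this]
    group
  constructor
  · rintro ⟨ξ, hξ, h⟩
    refine ⟨ξ, hξ, fun c'' c hc => h c c'' ?_⟩
    rw [hc, hcomm]
  · rintro ⟨ξ, hξ, h⟩
    refine ⟨ξ, hξ, fun c c' hc => h c' c ?_⟩
    rw [hc, hcomm]

end ConjIdx

section RelSylow

variable {G : Type*} [Group G] [Fintype G] {M : Ideal AlgInt} [hMp : M.IsPrime] {p : ℕ} [hp : Fact p.Prime]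
  {L : Subgroup G} {Q₀ : Subgroup G} {f₀ : Set (IrrCharacter (Cen Q₀))} {b : Set (IrrCharacter L)}

theorem isBrauerPairOf_down (hb : IsPBlock M b) (hbE : incl L (blockElt b) = Ee Q₀ f₀) {S : Subgroup L}
    (h : Cen (up S) ≤ L) {s : Set (IrrCharacter (Cen (up S)))} (hn : IsNormalSubpair p M Q₀ f₀ (up S) s) :
    IsBrauerPairOf p M b S (mapBlock (cenIso S h).symm s) := by
  obtain ⟨-, ⟨hp', hbs⟩, -, -, -, hom⟩ := isNormalSubpair_iff.1 hn
  refine isBrauerPairOf_iff.2 ⟨⟨isPGroup_of_up hp', isPBlock_mapBlock _ hbs⟩, hb, fun ξ hξ => ?_⟩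
  rw [mem_mapBlock, MulEquiv.symm_symm] at hξ
  have h1 := hom _ hξ
  rw [← hbE, om_up S h, mapIrr_symm_mapIrr] at h1
  exact h1

theorem isMaximal_down (hM : IsPModular p M) (hb : IsPBlock M b) (hbE : incl L (blockElt b) = Ee Q₀ f₀)
    {D : Subgroup L} (hD : IsDefectGroup p M b D) (hDL : Cen (up D) ≤ L) {s : Set (IrrCharacter (Cen (up D)))}
    (hn : IsNormalSubpair p M Q₀ f₀ (up D) s) :
    IsMaximalBrauerPair p M b D (mapBlock (cenIso D hDL).symm s) := by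
  refine ⟨isBrauerPairOf_down hb hbE hDL hn, fun R g hRg hle => ?_⟩
  have h1 : D ≤ R := le_of_subpairLE hle
  obtain ⟨x, hx⟩ := exists_conj_le_defect hM hRg hD
  have h2 : Nat.card R ≤ Nat.card D := by
    have := Subgroup.card_le_of_le hx
    rwa [card_cj] at this
  exact (Subgroup.eq_of_le_of_card_ge h1 h2).symm

theorem up_cj (c : L) (R : Subgroup L) : up (cj c R) = cj (c : G) (up R) := by
  ext x
  constructor
  · rintro ⟨_, ⟨v, hv, rfl⟩, rfl⟩
    exact ⟨(v : G), coe_mem_up.2 hv, rfl⟩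
  · rintro ⟨_, ⟨v, hv, rfl⟩, rfl⟩
    exact ⟨c * v * c⁻¹, ⟨v, hv, rfl⟩, rfl⟩

/-- **Relative Sylow theorem.** -/
theorem rel_sylow (hM : IsPModular p M) (hb : IsPBlock M b) (hbE : incl L (blockElt b) = Ee Q₀ f₀)
    {D : Subgroup L} (hD : IsDefectGroup p M b D) (hDL : Cen (up D) ≤ L) {s : Set (IrrCharacter (Cen (up D)))}
    (hnD : IsNormalSubpair p M Q₀ f₀ (up D) s) {R : Subgroup L} (hRL : Cen (up R) ≤ L)
    {g : Set (IrrCharacter (Cen (up R)))} (hnR : IsNormalSubpair p M Q₀ f₀ (up R) g) :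
    ∃ c : L, Relation.ReflTransGen (NormalSubpairRel p M) (conjIdx (c : G) ⟨up R, g⟩) ⟨up D, s⟩ := by
  classical
  have hmaxL := isMaximal_down hM hb hbE hD hDL hnD
  obtain ⟨c, hc⟩ := exists_conj_subpair hM hmaxL (isBrauerPairOf_down hb hbE hRL hnR)
  refine ⟨c, ?_⟩
  have hcL : Cen (up (cj c R)) ≤ L := by
    intro x hx
    rw [up_cj, mem_cen_cj] at hx
    have h1 := hRL hx
    have h2 := L.mul_mem (L.mul_mem c.2 h1) (L.inv_mem c.2)
    have e : (c : G) * ((c : G)⁻¹ * x * c) * (c : G)⁻¹ = x := by group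
    rwa [e] at h2
  have h1 := chain_up (a := ⟨cj c R, conjBlock R c (mapBlock (cenIso R hRL).symm g)⟩)
    (b := ⟨D, mapBlock (cenIso D hDL).symm s⟩) hc hcL hDL
  have e1 : upIdx (⟨D, mapBlock (cenIso D hDL).symm s⟩ : BrauerPairIdx L) hDL = ⟨up D, s⟩ := by
    show (⟨up D, mapBlock (cenIso D hDL) (mapBlock (cenIso D hDL).symm s)⟩ : BrauerPairIdx G) = _
    rw [mapBlock_mapBlock_symm]
  have e2 : upIdx (⟨cj c R, conjBlock R c (mapBlock (cenIso R hRL).symm g)⟩ : BrauerPairIdx L) hcL =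
      conjIdx (c : G) ⟨up R, g⟩ := by
    show (⟨up (cj c R), mapBlock (cenIso (cj c R) hcL) (conjBlock R c (mapBlock (cenIso R hRL).symm g))⟩ :
      BrauerPairIdx G) = ⟨cj (c : G) (up R), conjBlock (up R) (c : G) g⟩
    apply sigma_eq_of (up_cj c R)
    intro ξ''
    constructor
    · intro hξ''
      rw [mem_mapBlock, conjBlock_eq, mem_mapBlock, mem_mapBlock, MulEquiv.symm_symm] at hξ''
      refine ⟨mapIrr (cEquiv (up R) (c : G)) _, by rw [conjBlock_eq]; exact ⟨_, hξ'', rfl⟩, fun c'' c₂ hcc => ?_⟩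
      rw [mapIrr_apply', mapIrr_apply', mapIrr_apply', mapIrr_apply']
      refine congrArg _ (Subtype.ext ?_)
      show (c'' : G) = (c : G) * ((c : G)⁻¹ * (c₂ : G) * (c : G)) * (c : G)⁻¹
      rw [hcc]
      group
    · rintro ⟨ξ, hξ, hh⟩
      rw [conjBlock_eq] at hξ
      obtain ⟨ξ₁, hξ₁, rfl⟩ := hξ
      rw [mem_mapBlock, conjBlock_eq, mem_mapBlock, mem_mapBlock, MulEquiv.symm_symm]
      have e3 : mapIrr (cenIso R hRL) (mapIrr (cEquiv R c).symm (mapIrr (cenIso (cj c R) hcL).symm ξ'')) = ξ₁ := by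
        apply Subtype.ext
        funext x
        rw [mapIrr_apply', mapIrr_apply', mapIrr_apply']
        have hmem : (c : G) * (x : G) * (c : G)⁻¹ ∈ Cen (cj (c : G) (up R)) := conj_mem_cen_cj.2 x.2
        rw [hh _ ⟨_, hmem⟩ rfl, mapIrr_apply']
        refine congrArg _ (Subtype.ext ?_)
        show (c : G)⁻¹ * ((c : G) * (x : G) * (c : G)⁻¹) * (c : G) = (x : G)
        group
      rw [e3]
      exact hξ₁
  rw [e1, e2] at h1
  exact h1

theorem incl_blockElt_eq (hc : ∀ t : L, blockCoeff b t = subgroupBlockCoeff (Cen Q₀) f₀ (t : G))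
    (hCL : Cen Q₀ ≤ L) : incl L (blockElt b) = Ee Q₀ f₀ := by
  apply ext_coeff
  intro x
  by_cases hx : x ∈ L
  · have := coeff_incl_coe L (blockElt b) ⟨x, hx⟩
    simp only at this
    rw [this, coeff_blockElt, blockCoeff_eq_Ee hc]
  · rw [coeff_incl_of_notMem _ _ hx]
    unfold Ee
    rw [coeff_incl_of_notMem _ _ (fun h => hx (hCL h))]

end RelSylow

section Ext

variable {G : Type*} [Group G] [Fintype G] {M : Ideal AlgInt} [hMp : M.IsPrime] {p : ℕ} [hp : Fact p.Prime]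
  {B : Set (IrrCharacter G)} {P Q₀ : Subgroup G} {e : Set (IrrCharacter (Cen P))} {f₀ : Set (IrrCharacter (Cen Q₀))}

/-- The defect group of a subgroup containing the `p`-part. -/
theorem le_conj_of_coeff (hM : IsPModular p M) {H : Type*} [Group H] [Fintype H] {b : Set (IrrCharacter H)}
    (hb : IsPBlock M b) {D : Subgroup H} (hD : IsDefectGroup p M b D) {d : H} (hd : ¬ MemLocalIdeal M (blockCoeff b d))
    {E : Subgroup H} (hE : IsPGroup p E) (hEd : E ≤ Subgroup.centralizer ({d} : Set H)) :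
    ∃ x : H, E ≤ cj x D := by
  obtain ⟨g, hg, S, rfl⟩ := hD
  obtain ⟨χ, hχ⟩ := IsPBlock_nonempty hb
  exact minmax_le hM hb hχ (hg.2.2 χ hχ) hd hE hEd S

/-- **Extension theorem.** For a fully normalized pair `(Q₀,f₀)`, pairs on subgroups of `N_P(Q₀) C_G(Q₀)` above
`(Q₀,f₀)` can be conjugated below `(P,e)` by an element of `C_G(Q₀)`. -/
theorem exists_cen_conj (hM : IsPModular p M) (hmax : IsMaximalBrauerPair p M B P e)
    (hle : SubpairLE p M Q₀ f₀ P e) (hf₀ : IsPBlock M f₀) {T : Subgroup G}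
    (hT : ∀ y : G, y ∈ T ↔ y ∈ Subgroup.normalizer (Q₀ : Set G) ∧ StabilizesBlock (Cen Q₀) f₀ y)
    {F₀ : Set (IrrCharacter T)} (hF₀ : IsPBlock M F₀)
    (hc₀ : ∀ t : T, blockCoeff F₀ t = subgroupBlockCoeff (Cen Q₀) f₀ (t : G))
    (hdef : IsDefectGroup p M F₀ ((P ⊓ Subgroup.normalizer (Q₀ : Set G)).subgroupOf T))
    {S : Subgroup G} {g : Set (IrrCharacter (Cen S))} (hSL : S ≤ (P ⊓ Subgroup.normalizer (Q₀ : Set G)) ⊔ Cen Q₀)
    (hn : IsNormalSubpair p M Q₀ f₀ S g) :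
    ∃ c ∈ Cen Q₀, Relation.ReflTransGen (NormalSubpairRel p M) (conjIdx c ⟨S, g⟩) ⟨P, e⟩ := by
  classical
  have hPe := (isBrauerPairOf_iff.1 hmax.1).1
  have hQP := le_of_subpairLE hle
  have hQ : IsPGroup p Q₀ := hPe.1.to_le hQP
  obtain ⟨D₀, hD₀⟩ : ∃ D₀, D₀ = P ⊓ Subgroup.normalizer (Q₀ : Set G) := ⟨_, rfl⟩
  rw [← hD₀] at hdef hSL
  obtain ⟨L, hL⟩ : ∃ L, L = D₀ ⊔ Cen Q₀ := ⟨_, rfl⟩
  rw [← hL] at hSL
  have hD₀P : D₀ ≤ P := hD₀ ▸ inf_le_left
  have hD₀N : D₀ ≤ Subgroup.normalizer (Q₀ : Set G) := hD₀ ▸ inf_le_right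
  have hQD₀ : Q₀ ≤ D₀ := hD₀ ▸ le_inf hQP Subgroup.le_normalizer
  have hCT : Cen Q₀ ≤ T := fun c hc => (hT c).2 ⟨cen_le_normalizer Q₀ hc, stabilizes_of_mem_cen hc⟩
  have hD₀T : D₀ ≤ T := hD₀ ▸ inf_normalizer_le_T hM hmax hle hT
  have hLT : L ≤ T := hL ▸ sup_le hD₀T hCT
  have hCL : Cen Q₀ ≤ L := hL ▸ le_sup_right
  have hD₀L : D₀ ≤ L := hL ▸ le_sup_left
  have hLN : L ≤ Subgroup.normalizer (Q₀ : Set G) := fun t ht => ((hT t).1 (hLT ht)).1
  obtain ⟨b, hb, hbc⟩ := exists_blockT hM hQ hf₀ hCL (hQD₀.trans hD₀L) hLN (fun t ht => ((hT t).1 (hLT ht)).2)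
  have hbE := incl_blockElt_eq hbc hCL
  -- the defect group of `b`
  obtain ⟨D₁, hD₁, hle₁⟩ := exists_defect_ge hM hPe hle hCL hLN hb hbc hD₀P hD₀L
  have hcard : Nat.card D₁ ≤ Nat.card D₀ := by
    obtain ⟨d, hd, S₁, hS₁⟩ := id hD₁
    have hD₁p : IsPGroup p (up D₁) := by
      rw [hS₁]
      exact IsPGroup.map (IsPGroup.map S₁.isPGroup' _) _
    have hupT : up D₁ ≤ T := up_le.trans hLT
    have hd' : ¬ MemLocalIdeal M (blockCoeff F₀ (⟨(d : G), hLT d.2⟩ : T)) := by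
      rw [blockCoeff_eq_Ee hc₀]
      rw [← blockCoeff_eq_Ee hbc d]
      exact hd.2.1
    have hEd : (up D₁).subgroupOf T ≤ Subgroup.centralizer ({(⟨(d : G), hLT d.2⟩ : T)} : Set T) := by
      intro u hu
      rw [Subgroup.mem_subgroupOf] at hu
      rw [Subgroup.mem_centralizer_singleton_iff]
      apply Subtype.ext
      obtain ⟨v, hv, hvu⟩ := hu
      rw [hS₁] at hv
      obtain ⟨w, hw, rfl⟩ := hv
      have h3 := w.2
      rw [Subgroup.mem_centralizer_singleton_iff] at h3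
      have h4 := congrArg Subtype.val h3
      show (u : G) * (d : G) = (d : G) * (u : G)
      rw [← hvu]
      exact h4
    have hEp : IsPGroup p ((up D₁).subgroupOf T) := hD₁p.comap_subtype
    obtain ⟨x, hx⟩ := le_conj_of_coeff hM hF₀ hdef hd' hEp hEd
    have h1 := Subgroup.card_le_of_le hx
    rw [card_cj, card_subgroupOf_of_le hupT, card_subgroupOf_of_le hD₀T,
      Subgroup.card_map_of_injective (Subgroup.subtype_injective _)] at h1
    exact h1
  have hDdef : D₀.subgroupOf L = D₁ := Subgroup.eq_of_le_of_card_ge hle₁ (by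
    rw [card_subgroupOf_of_le hD₀L]
    exact hcard)
  rw [← hDdef] at hD₁
  have hupD : up (D₀.subgroupOf L) = D₀ := Subgroup.map_subgroupOf_eq_of_le hD₀L
  obtain ⟨D, hDD⟩ : ∃ D : Subgroup L, D = D₀.subgroupOf L := ⟨_, rfl⟩
  rw [← hDD] at hD₁ hupD
  have hupP : up D ≤ P := hupD ▸ hD₀P
  obtain ⟨s, ⟨hs, hsle⟩, -⟩ := existsUnique_subpair hM hPe hupP
  have hupN : up D ≤ Subgroup.normalizer (Q₀ : Set G) := hupD ▸ hD₀N
  have hQup : Q₀ ≤ up D := hupD ▸ hQD₀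
  have hnD := isNormalSubpair_of_le hM hPe hle hsle hQup hupN
  have hDL : Cen (up D) ≤ L := (cen_le_cen hQup).trans hCL
  obtain ⟨R, rfl⟩ : ∃ R : Subgroup L, up R = S := ⟨S.subgroupOf L, Subgroup.map_subgroupOf_eq_of_le hSL⟩
  have hQR : Q₀ ≤ up R := (isNormalSubpair_iff.1 hn).2.2.1
  have hRL : Cen (up R) ≤ L := (cen_le_cen hQR).trans hCL
  obtain ⟨c, hc⟩ := rel_sylow hM hb hbE hD₁ hDL hnD hRL hn
  have hcmem : (c : G) ∈ D₀ ⊔ Cen Q₀ := hL ▸ c.2
  have hmul : ((D₀ ⊔ Cen Q₀ : Subgroup G) : Set G) = (D₀ : Set G) * (Cen Q₀ : Set G) :=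
    Subgroup.coe_mul_of_left_le_normalizer_right _ _ (fun x hx => normalizer_le_normalizer_cen (hD₀N hx))
  have hcmem' : (c : G) ∈ (D₀ : Set G) * (Cen Q₀ : Set G) := by
    rw [← hmul]
    exact hcmem
  obtain ⟨u, hu, c₀, hc₀, huc⟩ := Set.mem_mul.1 hcmem'
  refine ⟨c₀, hc₀, ?_⟩
  have h1 := chain_conj (p := p) (M := M) u⁻¹ hc
  have hu' : u⁻¹ ∈ up D := by
    rw [hupD]
    exact D₀.inv_mem hu
  rw [conjIdx_of_mem hu', ← huc, ← conjIdx_mul, conjIdx_inv] at h1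
  exact h1.trans hsle

end Ext

end Cfsg.Agent.Lib.BPair
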