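import Cfsg.Agent.Lib.BPair.MajorFacts

/-!
# Blocks with a major subsection of small rank (S4540, S4575)
-/

set_option autoImplicit false
set_option linter.unusedSectionVars false
set_option linter.style.haveILetI false
set_option linter.unusedSimpArgs false
set_option linter.unnecessarySimpa false
set_option linter.unusedVariables false

open scoped ComplexConjugate
open Module

namespace Cfsg.Agent.Lib.BPair

open Cfsg Cfsg.Agent.Lib.Char Cfsg.Agent.Lib.Block Cfsg.Agent.Lib.Core Cfsg.Agent.Lib.CharExtra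

attribute [local instance] subFintype

section Hyps

variable {G : Type*} [Group G] [Fintype G] {p : ℕ} [hp : Fact p.Prime] {M : Ideal AlgInt}
  {B : Set (IrrCharacter G)} {D : Subgroup G} {z : G}

/-- The hypotheses of a major subsection. -/
theorem major_hyps (hM : IsPModular p M) (hB : IsPBlock M B) (hD : IsDefectGroup p M B D) (hzD : z ∈ D)
    (hzc : ∀ d ∈ D, d * z = z * d) {b : Set (IrrCharacter (Subgroup.centralizer ({z} : Set G)))}
    (hb : IsPBlock M b) (hbD : IsDefectGroup p M b (D.subgroupOf (Subgroup.centralizer ({z} : Set G)))) :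
    (∃ k, orderOf z = p ^ k) ∧ blockDefect p b = blockDefect p B := by
  have := isPModular_isPrime hM
  have hcard := card_defect_group hM hB hD
  have hDp : IsPGroup p D := IsPGroup.of_card hcard
  constructor
  · obtain ⟨k, hk⟩ := IsPGroup.iff_card.1 (hDp.to_subgroup (Subgroup.zpowers (⟨z, hzD⟩ : D)))
    refine ⟨k, ?_⟩
    rw [Nat.card_zpowers, Subgroup.orderOf_mk] at hk
    exact hk
  · have h1 := card_defect_group hM hb hbD
    have hle : D ≤ Subgroup.centralizer ({z} : Set G) := fun d hd => mem_centralizer_singleton.2 (hzc d hd)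
    have h2 : Nat.card (D.subgroupOf (Subgroup.centralizer ({z} : Set G))) = Nat.card D :=
      Nat.card_congr (Subgroup.subgroupOfEquivOfLe hle).toEquiv
    rw [h2, hcard] at h1
    exact (Nat.pow_right_injective hp.out.two_le h1).symm

end Hyps

section Main

variable {G : Type*} [Group G] [Fintype G] {M : Ideal AlgInt}
  {u : G} {e : Set (IrrCharacter (Subgroup.centralizer ({u} : Set G)))} {B : Set (IrrCharacter G)}

open Classical in
/-- The counting statement of S4540. -/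
theorem sambale_major_sum (hM : IsPModular 2 M) (hu : ∃ k, orderOf u = 2 ^ k)
    (hind : IsInducedBlock M (Subgroup.centralizer ({u} : Set G)) e B) (hq : blockDefect 2 e = blockDefect 2 B)
    (hl : blockRank 2 e ≤ 3) :
    3 * (Finset.univ.filter (fun χ : IrrCharacter G => χ ∈ B ∧ blockHeight 2 B (χ : G → ℂ) = 0)).card +
      2 * ∑ χ ∈ Finset.univ.filter (fun χ : IrrCharacter G => χ ∈ B ∧ 1 ≤ blockHeight 2 B (χ : G → ℂ)), 2 ^ blockHeight 2 B (χ : G → ℂ) ≤
        3 * 2 ^ blockDefect 2 B := by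
  obtain ⟨A, hA1, hA2, hA3, hA4, -, -⟩ := major_facts hM hu hind hq
  obtain ⟨S₀, hS₀⟩ : ∃ S₀, S₀ = Finset.univ.filter (fun χ : IrrCharacter G => χ ∈ B ∧ blockHeight 2 B (χ : G → ℂ) = 0) := ⟨_, rfl⟩
  obtain ⟨S₁, hS₁⟩ : ∃ S₁, S₁ = Finset.univ.filter (fun χ : IrrCharacter G => χ ∈ B ∧ 1 ≤ blockHeight 2 B (χ : G → ℂ)) := ⟨_, rfl⟩
  rw [← hS₀, ← hS₁]
  have hm0 : ∀ χ, χ ∈ S₀ ↔ χ ∈ B ∧ blockHeight 2 B (χ : G → ℂ) = 0 := fun χ => by simp [hS₀]
  have hm1 : ∀ χ, χ ∈ S₁ ↔ χ ∈ B ∧ 1 ≤ blockHeight 2 B (χ : G → ℂ) := fun χ => by simp [hS₁]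
  have hdisj : Disjoint S₀ S₁ := by
    rw [Finset.disjoint_left]
    intro χ h0 h1
    have h2 := ((hm0 χ).1 h0).2
    have h3 := ((hm1 χ).1 h1).2
    omega
  have hunion : Finset.univ.filter (· ∈ B) = S₀ ∪ S₁ := by
    ext χ
    simp only [Finset.mem_filter, Finset.mem_univ, true_and, Finset.mem_union, hm0, hm1]
    constructor
    · intro h
      by_cases h0 : blockHeight 2 B (χ : G → ℂ) = 0
      · exact Or.inl ⟨h, h0⟩
      · exact Or.inr ⟨h, by omega⟩
    · rintro (h | h) <;> exact h.1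
  rw [hunion, Finset.sum_union hdisj] at hA1 hA4
  have hS₀4 : ∑ ψ ∈ S₀, (4 : ℝ) ^ blockHeight 2 B (ψ : G → ℂ) = S₀.card := by
    rw [Finset.sum_congr rfl (g := fun _ => (1 : ℝ))]
    · simp
    · intro ψ hψ
      rw [((hm0 ψ).1 hψ).2, pow_zero]
  rw [hS₀4] at hA1
  obtain ⟨P, hP⟩ : ∃ P : ℝ, P = (2 : ℝ) ^ blockDefect 2 B := ⟨_, rfl⟩
  rw [← hP] at hA1 hA4
  have hPpos : 0 < P := by
    rw [hP]
    positivity
  have hmain : (3 : ℝ) * S₀.card + 2 * ∑ χ ∈ S₁, (2 : ℝ) ^ blockHeight 2 B (χ : G → ℂ) ≤ 3 * P := by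
    by_cases hcase : ∃ χ₀ ∈ S₀, A χ₀ = 1
    · obtain ⟨χ₀, h0, h1⟩ := hcase
      have h2 := hA1 χ₀ ((hm0 χ₀).1 h0).1 ((hm0 χ₀).1 h0).2
      rw [h1, mul_one] at h2
      have h3 : 2 * ∑ χ ∈ S₁, (2 : ℝ) ^ blockHeight 2 B (χ : G → ℂ) ≤ 3 * ∑ χ ∈ S₁, (4 : ℝ) ^ blockHeight 2 B (χ : G → ℂ) := by
        rw [Finset.mul_sum, Finset.mul_sum]
        refine Finset.sum_le_sum fun χ _ => ?_
        have h4 : (2 : ℝ) ^ blockHeight 2 B (χ : G → ℂ) ≤ (4 : ℝ) ^ blockHeight 2 B (χ : G → ℂ) :=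
          pow_le_pow_left₀ (by norm_num) (by norm_num) _
        have h5 : (0 : ℝ) < (2 : ℝ) ^ blockHeight 2 B (χ : G → ℂ) := by positivity
        linarith
      linarith
    · push Not at hcase
      have h1 : (3 : ℝ) * S₀.card ≤ ∑ χ ∈ S₀, A χ := by
        rw [← nsmul_eq_mul', ← Finset.sum_const]
        refine Finset.sum_le_sum fun χ hχ => ?_
        obtain ⟨m, hm, hmA⟩ := hA2 χ ((hm0 χ).1 hχ).1 ((hm0 χ).1 hχ).2
        have h3 := hcase χ hχ
        rw [hmA] at h3 ⊢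
        have h4 : m ≠ 1 := by
          rintro rfl
          exact h3 (by simp)
        obtain ⟨t, rfl⟩ := hm
        have h5 : 3 ≤ 2 * t + 1 := by omega
        exact_mod_cast h5
      have h2 : 2 * ∑ χ ∈ S₁, (2 : ℝ) ^ blockHeight 2 B (χ : G → ℂ) ≤ ∑ χ ∈ S₁, A χ := by
        rw [Finset.mul_sum]
        refine Finset.sum_le_sum fun χ hχ => ?_
        have hχ' := (hm1 χ).1 hχ
        obtain ⟨m, hm, hmpos, hmA⟩ := hA3 χ hχ'.1 (by omega)
        rw [hmA]
        obtain ⟨t, rfl⟩ := hm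
        have h5 : (2 : ℝ) ≤ ((t + t : ℕ) : ℝ) := by
          have : 2 ≤ t + t := by omega
          exact_mod_cast this
        have h6 : (0 : ℝ) < (2 : ℝ) ^ blockHeight 2 B (χ : G → ℂ) := by positivity
        nlinarith
      have h3 : (blockRank 2 e : ℝ) ≤ 3 := by exact_mod_cast hl
      have h4 : P * (blockRank 2 e : ℝ) ≤ P * 3 := mul_le_mul_of_nonneg_left h3 hPpos.le
      linarith
  rw [hP] at hmain
  exact_mod_cast hmain

open Classical in
/-- The bound of S4575. -/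
theorem sambale_major_card (hM : IsPModular 2 M) (hu : ∃ k, orderOf u = 2 ^ k)
    (hind : IsInducedBlock M (Subgroup.centralizer ({u} : Set G)) e B) (hq : blockDefect 2 e = blockDefect 2 B)
    (hl : (Finset.univ.filter (· ∈ B)).card ≤ blockRank 2 e + 3) :
    (Finset.univ.filter (· ∈ B)).card ≤ 2 ^ blockDefect 2 B := by
  obtain ⟨A, -, hA2, hA3, hA4, hA5, hA6⟩ := major_facts hM hu hind hq
  obtain ⟨Bf, hBf⟩ : ∃ Bf, Bf = Finset.univ.filter (· ∈ B) := ⟨_, rfl⟩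
  rw [← hBf] at hl hA4 hA5 ⊢
  have hmB : ∀ χ, χ ∈ Bf ↔ χ ∈ B := fun χ => by simp [hBf]
  obtain ⟨P, hP⟩ : ∃ P : ℕ, P = 2 ^ blockDefect 2 B := ⟨_, rfl⟩
  rw [← hP]
  have hPc : (P : ℝ) = (2 : ℝ) ^ blockDefect 2 B := by
    rw [hP]
    push_cast
    rfl
  rw [← hPc] at hA4 hA5 hA6
  have hPpos : 0 < P := by
    rw [hP]
    positivity
  by_cases hcase : ∃ χ₀ ∈ B, blockHeight 2 B (χ₀ : G → ℂ) = 0 ∧ P ≤ A χ₀ + 1
  · obtain ⟨χ₀, h0, h1, h2⟩ := hcase
    obtain ⟨m, hm, hmA⟩ := hA2 χ₀ h0 h1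
    have h3 := hA5 χ₀ h0 h1
    have h4 : ((Bf.card : ℝ) - 1) ≤ ∑ ψ ∈ Bf.erase χ₀, (4 : ℝ) ^ blockHeight 2 B (ψ : G → ℂ) := by
      have h5 : (Bf.erase χ₀).card = Bf.card - 1 := Finset.card_erase_of_mem ((hmB χ₀).2 h0)
      have h6 : ∑ ψ ∈ Bf.erase χ₀, (1 : ℝ) ≤ ∑ ψ ∈ Bf.erase χ₀, (4 : ℝ) ^ blockHeight 2 B (ψ : G → ℂ) :=
        Finset.sum_le_sum fun ψ _ => one_le_pow₀ (by norm_num)
      have h7 : 1 ≤ Bf.card := Finset.card_pos.2 ⟨χ₀, (hmB χ₀).2 h0⟩
      rw [Finset.sum_const, nsmul_eq_mul, mul_one, h5, Nat.cast_sub h7] at h6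
      simpa using h6
    rw [hmA] at h2 h3
    have h8 : (P : ℝ) ≤ (m : ℝ) + 1 := h2
    have hmp : (1 : ℝ) ≤ m := by
      obtain ⟨t, rfl⟩ := hm
      have : 1 ≤ 2 * t + 1 := by omega
      exact_mod_cast this
    -- `m (P - m) ≤ P - 1`
    have h9 : (m : ℝ) * ((P : ℝ) - m) ≤ (P : ℝ) - 1 := by
      have hP1 : (1 : ℝ) ≤ P := by exact_mod_cast hPpos
      by_cases hmP : (P : ℝ) ≤ m
      · have : (m : ℝ) * ((P : ℝ) - m) ≤ 0 := mul_nonpos_of_nonneg_of_nonpos (by linarith) (by linarith)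
        linarith
      · push Not at hmP
        have h10 : (P : ℝ) = m + 1 := by
          have h11 : m < P := by exact_mod_cast hmP
          have h12 : P ≤ m + 1 := by exact_mod_cast h8
          have h13 : P = m + 1 := by omega
          exact_mod_cast h13
        rw [h10]
        nlinarith
    have h14 : (Bf.card : ℝ) ≤ P := by linarith
    exact_mod_cast h14
  · push Not at hcase
    have hall : ∀ χ ∈ Bf, (3 : ℝ) ≤ (P : ℝ) - A χ := by
      intro χ hχ
      have hχ' := (hmB χ).1 hχ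
      by_cases h0 : blockHeight 2 B (χ : G → ℂ) = 0
      · have h1 := hcase χ hχ' h0
        obtain ⟨m, hm, hmA⟩ := hA2 χ hχ' h0
        rw [hmA] at h1 ⊢
        have h2 : m + 1 < P := by exact_mod_cast h1
        -- `P` is even
        have hPeven : Even P := by
          rw [hP]
          refine (Nat.even_pow' ?_).2 even_two
          intro hd
          rw [hP, hd] at h2
          simp at h2
        have h3 : 3 ≤ P - m := by
          obtain ⟨t, rfl⟩ := hm
          obtain ⟨r, hr⟩ := hPeven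
          omega
        have h4 : m + 3 ≤ P := by omega
        have h5 : (m : ℝ) + 3 ≤ P := by exact_mod_cast h4
        linarith
      · obtain ⟨m, hm, hmpos, hmA⟩ := hA3 χ hχ' h0
        have h1 := hA6 χ hχ' h0
        rw [hmA] at h1 ⊢
        obtain ⟨h, hh⟩ : ∃ h, h = blockHeight 2 B (χ : G → ℂ) := ⟨_, rfl⟩
        rw [← hh] at h1 ⊢
        have h2 : (0 : ℝ) < (2 : ℝ) ^ h * m := by
          have : (0 : ℝ) < m := by exact_mod_cast hmpos
          positivity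
        have h3 : (0 : ℝ) < (P : ℝ) - (2 : ℝ) ^ h * m := by
          by_contra hcon
          push Not at hcon
          have := mul_nonpos_of_nonneg_of_nonpos h2.le hcon
          linarith
        have h4 : 2 ^ h * m < P := by
          have : ((2 ^ h * m : ℕ) : ℝ) < P := by
            push_cast
            linarith
          exact_mod_cast this
        have hh1 : 1 ≤ h := by
          rw [hh]
          omega
        have h5 : 4 ∣ 2 ^ h * m := by
          obtain ⟨t, rfl⟩ := hm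
          obtain ⟨h', rfl⟩ : ∃ h', h = h' + 1 := ⟨h - 1, by omega⟩
          refine ⟨2 ^ h' * t, ?_⟩
          rw [pow_succ]
          ring
        have hge : 4 ≤ 2 ^ h * m := Nat.le_of_dvd (Nat.mul_pos (by positivity) hmpos) h5
        have h6 : 4 ∣ P := by
          rw [hP]
          have h7 : 2 ≤ blockDefect 2 B := by
            by_contra hlt
            have h8 : blockDefect 2 B ≤ 1 := by omega
            have h9 : 2 ^ blockDefect 2 B ≤ 2 ^ 1 := Nat.pow_le_pow_right (by norm_num) h8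
            omega
          calc 4 = 2 ^ 2 := by norm_num
            _ ∣ 2 ^ blockDefect 2 B := pow_dvd_pow _ h7
        have h7 : 4 ∣ P - 2 ^ h * m := Nat.dvd_sub h6 h5
        have h8 : 0 < P - 2 ^ h * m := by omega
        have h9 : 4 ≤ P - 2 ^ h * m := Nat.le_of_dvd h8 h7
        have h10 : 2 ^ h * m + 4 ≤ P := by omega
        have h11 : ((2 ^ h * m + 4 : ℕ) : ℝ) ≤ P := by exact_mod_cast h10
        push_cast at h11
        linarith
    have h1 : (3 : ℝ) * Bf.card ≤ ∑ χ ∈ Bf, ((P : ℝ) - A χ) := by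
      rw [← nsmul_eq_mul', ← Finset.sum_const]
      exact Finset.sum_le_sum hall
    rw [Finset.sum_sub_distrib, hA4, Finset.sum_const, nsmul_eq_mul] at h1
    have h2 : (Bf.card : ℝ) ≤ (blockRank 2 e : ℝ) + 3 := by exact_mod_cast hl
    have hPr : (0 : ℝ) < P := by exact_mod_cast hPpos
    have h3 : (3 : ℝ) * Bf.card ≤ 3 * P := by
      have h4 : (Bf.card : ℝ) * P ≤ ((blockRank 2 e : ℝ) + 3) * P := mul_le_mul_of_nonneg_right h2 hPr.le
      nlinarith
    have h5 : (Bf.card : ℝ) ≤ P := by linarith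
    exact_mod_cast h5

theorem natCard_block_eq (B : Set (IrrCharacter G)) [DecidablePred (· ∈ B)] :
    Nat.card B = (Finset.univ.filter (· ∈ B)).card := by
  rw [Nat.card_eq_fintype_card, Fintype.card_subtype]

/-- Main statement of S4540. -/
theorem sambale_S4540 (hM : IsPModular 2 M) (hB : IsPBlock M B) {D : Subgroup G} (hD : IsDefectGroup 2 M B D) {z : G}
    (hzD : z ∈ D) (hzc : ∀ d ∈ D, d * z = z * d) {b : Set (IrrCharacter (Subgroup.centralizer ({z} : Set G)))}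
    (hb : IsInducedBlock M (Subgroup.centralizer ({z} : Set G)) b B)
    (hbD : IsDefectGroup 2 M b (D.subgroupOf (Subgroup.centralizer ({z} : Set G)))) (hl : blockRank 2 b ≤ 3) :
    3 * Nat.card B ≤ 3 * Nat.card {χ : IrrCharacter G // χ ∈ B ∧ blockHeight 2 B (χ : G → ℂ) = 0} +
        2 * (∑ᶠ χ ∈ {χ : IrrCharacter G | χ ∈ B ∧ 1 ≤ blockHeight 2 B (χ : G → ℂ)}, 2 ^ blockHeight 2 B (χ : G → ℂ)) ∧
      3 * Nat.card {χ : IrrCharacter G // χ ∈ B ∧ blockHeight 2 B (χ : G → ℂ) = 0} +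
        2 * (∑ᶠ χ ∈ {χ : IrrCharacter G | χ ∈ B ∧ 1 ≤ blockHeight 2 B (χ : G → ℂ)}, 2 ^ blockHeight 2 B (χ : G → ℂ)) ≤
          3 * 2 ^ blockDefect 2 B := by
  classical
  obtain ⟨hu, hq⟩ := major_hyps hM hB hD hzD hzc hb.1 hbD
  have hc : Nat.card {χ : IrrCharacter G // χ ∈ B ∧ blockHeight 2 B (χ : G → ℂ) = 0} =
      (Finset.univ.filter (fun χ : IrrCharacter G => χ ∈ B ∧ blockHeight 2 B (χ : G → ℂ) = 0)).card := by
    rw [Nat.card_eq_fintype_card, Fintype.card_subtype]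
  have hf : (∑ᶠ χ ∈ {χ : IrrCharacter G | χ ∈ B ∧ 1 ≤ blockHeight 2 B (χ : G → ℂ)}, 2 ^ blockHeight 2 B (χ : G → ℂ)) =
      ∑ χ ∈ Finset.univ.filter (fun χ : IrrCharacter G => χ ∈ B ∧ 1 ≤ blockHeight 2 B (χ : G → ℂ)), 2 ^ blockHeight 2 B (χ : G → ℂ) := by
    rw [← finsum_mem_coe_finset]
    congr 1
    ext χ
    simp
  rw [hc, hf, natCard_block_eq B]
  refine ⟨?_, sambale_major_sum hM hu hb hq hl⟩
  obtain ⟨S₀, hS₀⟩ : ∃ S₀, S₀ = Finset.univ.filter (fun χ : IrrCharacter G => χ ∈ B ∧ blockHeight 2 B (χ : G → ℂ) = 0) := ⟨_, rfl⟩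
  obtain ⟨S₁, hS₁⟩ : ∃ S₁, S₁ = Finset.univ.filter (fun χ : IrrCharacter G => χ ∈ B ∧ 1 ≤ blockHeight 2 B (χ : G → ℂ)) := ⟨_, rfl⟩
  rw [← hS₀, ← hS₁]
  have hm0 : ∀ χ, χ ∈ S₀ ↔ χ ∈ B ∧ blockHeight 2 B (χ : G → ℂ) = 0 := fun χ => by simp [hS₀]
  have hm1 : ∀ χ, χ ∈ S₁ ↔ χ ∈ B ∧ 1 ≤ blockHeight 2 B (χ : G → ℂ) := fun χ => by simp [hS₁]
  have hle : (Finset.univ.filter (· ∈ B)).card ≤ S₀.card + S₁.card := by
    refine le_trans (Finset.card_le_card ?_) (Finset.card_union_le S₀ S₁)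
    intro χ hχ
    have hχ' : χ ∈ B := by simpa using hχ
    rw [Finset.mem_union, hm0, hm1]
    by_cases h0 : blockHeight 2 B (χ : G → ℂ) = 0
    · exact Or.inl ⟨hχ', h0⟩
    · exact Or.inr ⟨hχ', by omega⟩
  have h3 : 3 * S₁.card ≤ 2 * ∑ χ ∈ S₁, 2 ^ blockHeight 2 B (χ : G → ℂ) := by
    rw [Finset.mul_sum, mul_comm, ← smul_eq_mul, ← Finset.sum_const]
    refine Finset.sum_le_sum fun χ hχ => ?_
    have h1 := ((hm1 χ).1 hχ).2
    have h2 : 2 ^ 1 ≤ 2 ^ blockHeight 2 B (χ : G → ℂ) := Nat.pow_le_pow_right (by norm_num) h1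
    omega
  omega

/-- Main statement of S4575. -/
theorem sambale_S4575 (hM : IsPModular 2 M) (hB : IsPBlock M B) {D : Subgroup G} (hD : IsDefectGroup 2 M B D) {z : G}
    (hzD : z ∈ D) (hzc : ∀ d ∈ D, d * z = z * d) {b : Set (IrrCharacter (Subgroup.centralizer ({z} : Set G)))}
    (hb : IsInducedBlock M (Subgroup.centralizer ({z} : Set G)) b B)
    (hbD : IsDefectGroup 2 M b (D.subgroupOf (Subgroup.centralizer ({z} : Set G))))
    (h : Nat.card B ≤ blockRank 2 b + 3) : Nat.card B ≤ 2 ^ blockDefect 2 B := by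
  classical
  obtain ⟨hu, hq⟩ := major_hyps hM hB hD hzD hzc hb.1 hbD
  rw [natCard_block_eq B] at h ⊢
  exact sambale_major_card hM hu hb hq h

end Main

end Cfsg.Agent.Lib.BPair
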