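import Cfsg.Agent.Lib.BPair.VecL
import Cfsg.Agent.Lib.BPair.Sambale2
import Cfsg.Agent.Lib.Block.LatticeAvg
import Cfsg.Agent.Lib.Block.CycAvgP

/-!
# Blocks with a major subsection of rank at most two
-/

set_option autoImplicit false
set_option linter.unusedSectionVars false
set_option linter.style.haveILetI false
set_option linter.unusedSimpArgs false
set_option linter.unnecessarySimpa false
set_option linter.unusedVariables false

open scoped ComplexConjugate
open Module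

namespace Cfsg.Agent.Lib.BPair

open Cfsg Cfsg.Agent.Lib.Char Cfsg.Agent.Lib.Block Cfsg.Agent.Lib.Core Cfsg.Agent.Lib.CharExtra

attribute [local instance] subFintype

section CaseOne

variable {G : Type*} [Group G] [Fintype G] {p : ℕ} [hp : Fact p.Prime] {M : Ideal AlgInt}
  {u : G} {e : Set (IrrCharacter (Subgroup.centralizer ({u} : Set G)))} {B : Set (IrrCharacter G)}

theorem secF_eq_vecC (e : Set (IrrCharacter (Subgroup.centralizer ({u} : Set G)))) (χ : IrrCharacter G) :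
    secF p u e (χ : G → ℂ) = vecC p e (aa u χ) := by
  classical
  rw [secF_eq_sum]
  rfl

open Classical in
/-- The case of a vector of norm one. -/
theorem card_le_of_unit_vec (hM : IsPModular p M) (hu : ∃ k, orderOf u = p ^ k)
    (hind : IsInducedBlock M (Subgroup.centralizer ({u} : Set G)) e B) (hq : blockDefect p e = blockDefect p B)
    {m : IrrCharacter (Subgroup.centralizer ({u} : Set G)) → ℤ} (hm : qZ p e m m = 1) :
    (Finset.univ.filter (· ∈ B)).card ≤ p ^ blockDefect p B := by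
  have := isPModular_isPrime hM
  haveI : NeZero (Nat.card G) := ⟨Nat.card_pos.ne'⟩
  haveI : Fintype (G ⧸ Subgroup.centralizer ({u} : Set G)) := Fintype.ofFinite _
  have he := hind.1
  have hBb := hind.2.1
  have hne := IsPBlock_nonempty he
  obtain ⟨K₀, hK1, hK2, hK3⟩ := rank_one_rr hM he
  have hml : ∀ ξ, MemLocalRing M ((m ξ : ℤ) : ℂ) := fun ξ => memLocalRing_intCast _
  have hmz : ∀ ξ, MemLocalIdeal M (((m ξ : ℤ) : ℂ) - ((m ξ : ℤ) : ℂ)) := fun ξ => by
    rw [sub_self]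
    exact memLocalIdeal_zero
  have hmz' : ∀ ξ, MemLocalIdeal M (conj ((m ξ : ℤ) : ℂ) - ((m ξ : ℤ) : ℂ)) := fun ξ => by
    rw [map_intCast, sub_self]
    exact memLocalIdeal_zero
  have hmc : ∀ ξ, MemLocalRing M (conj ((m ξ : ℤ) : ℂ)) := fun ξ => by
    rw [map_intCast]
    exact hml ξ
  obtain ⟨Sm, hSm⟩ : ∃ Sm : ℂ, Sm = ∑ ξ, if ξ ∈ e then ((m ξ : ℤ) : ℂ) * (qq p e ξ : ℂ) else 0 := ⟨_, rfl⟩
  have hSml : MemLocalRing M Sm := by
    rw [hSm]
    refine memLocalRing_sum _ _ fun ξ _ => ?_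
    split_ifs
    · exact memLocalRing_mul (hml ξ) (memLocalRing_natCast _)
    · exact memLocalRing_zero
  have hSmn : ¬ MemLocalIdeal M Sm := by
    intro h
    have h1 := qC_congr (M := M) hK3 (f := fun ξ => ((m ξ : ℤ) : ℂ)) (g := fun ξ => ((m ξ : ℤ) : ℂ))
      (f₁ := fun ξ => ((m ξ : ℤ) : ℂ)) (g₁ := fun ξ => ((m ξ : ℤ) : ℂ)) hml hml hmc hmz hmz'
    rw [qC_int, hm, ← hSm] at h1
    have h2 : MemLocalIdeal M (K₀ * Sm * Sm) := memLocalIdeal_mul_right (memLocalIdeal_mul_left hK1 h) hSml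
    have h3 := memLocalIdeal_add h1 h2
    rw [sub_add_cancel] at h3
    apply not_memLocalIdeal_one (M := M)
    simpa using h3
  obtain ⟨w, hwdef⟩ : ∃ w, w = vecL p e m := ⟨_, rfl⟩
  have hw : w ∈ regSpan p e := by
    rw [hwdef]
    exact vecC_mem e _
  have hwi : ∀ s, IsIntegral ℤ (w s) := by
    rw [hwdef]
    exact isIntegral_vecC e (fun ξ => isIntegral_intCast _)
  -- the numbers
  have hy : ∀ χ : IrrCharacter G, (p : ℂ) ^ blockDefect p e * classInner w (secF p u e (χ : G → ℂ)) =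
      qC p e (fun ξ => ((m ξ : ℤ) : ℂ)) (aa u χ) := by
    intro χ
    rw [hwdef, secF_eq_vecC]
    exact classInner_vecC (IsPBlock_nonempty he) _ _
  have hyi : ∀ χ : IrrCharacter G, IsIntegral ℤ ((p : ℂ) ^ blockDefect p e * classInner w (secF p u e (χ : G → ℂ))) := by
    intro χ
    rw [hy]
    exact isIntegral_qC e (fun ξ => isIntegral_intCast _) (fun ξ => isIntegral_conj_aa χ ξ)
  have hyc : ∀ χ : IrrCharacter G, IsCyc (Nat.card G) ((p : ℂ) ^ blockDefect p e * classInner w (secF p u e (χ : G → ℂ))) := by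
    intro χ
    rw [hy]
    exact isCyc_qC e (fun ξ => isCyc_intCast _) (fun ξ => isCyc_aa χ ξ)
  have hyl : ∀ χ ∈ B, MemLocalRing M (yyy p u e B w χ) := fun χ hχ => by
    refine memLocalRing_of_isIntegral (isIntegral_yyy hM he hw hwi hχ ?_)
    rw [← hq]
    exact hyi χ
  -- height zero
  obtain ⟨χ₀, hχ₀, hχ₀h⟩ : ∃ χ₀ ∈ B, blockHeight p B (χ₀ : G → ℂ) = 0 := by
    obtain ⟨χ₀, hχ₀, he₀⟩ := exists_height_zero (p := p) (IsPBlock_nonempty hBb)
    refine ⟨χ₀, hχ₀, ?_⟩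
    unfold blockHeight
    rw [he₀]
    exact Nat.sub_self _
  have hunit : ¬ MemLocalIdeal M (yyy p u e B w χ₀) := by
    have h1 : yyy p u e B w χ₀ = qC p e (aa u χ₀) (fun ξ => ((m ξ : ℤ) : ℂ)) := by
      unfold yyy
      rw [hχ₀h, pow_zero, div_one, map_mul, map_pow, Complex.conj_natCast, conj_classInner, ← hq, hwdef, secF_eq_vecC]
      exact classInner_vecC (IsPBlock_nonempty he) _ _
    rw [h1]
    intro h
    have h2 := qC_congr (M := M) hK3 (f := aa u χ₀) (g := fun ξ => ((m ξ : ℤ) : ℂ))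
      (f₁ := fun ξ => classInner (fun c : Subgroup.centralizer ({u} : Set G) => (χ₀ : G → ℂ) c) (ξ : Subgroup.centralizer ({u} : Set G) → ℂ))
      (g₁ := fun ξ => ((m ξ : ℤ) : ℂ))
      (fun ξ => by
        obtain ⟨n, hn⟩ := classInner_isCharacter_nat (IsCharacter.restrict (Subgroup.centralizer ({u} : Set G))
          (IsIrrCharacter.isCharacter χ₀.2)) (IsIrrCharacter.isCharacter ξ.2)
        rw [hn]
        exact memLocalRing_natCast _) hml hmc (fun ξ => aa_sub_mem hM hu χ₀ ξ) hmz'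
    rw [← hSm] at h2
    have h3 := memLocalIdeal_sub h h2
    rw [sub_sub_cancel] at h3
    have hS := not_memLocalIdeal_S hM hind hχ₀ hχ₀h
    have hSl : MemLocalRing M (∑ ξ : IrrCharacter (Subgroup.centralizer ({u} : Set G)), if ξ ∈ e then
        classInner (fun c : Subgroup.centralizer ({u} : Set G) => (χ₀ : G → ℂ) c) (ξ : Subgroup.centralizer ({u} : Set G) → ℂ) * (qq p e ξ : ℂ) else 0) := by
      refine memLocalRing_sum _ _ fun ξ _ => ?_
      split_ifs
      · obtain ⟨n, hn⟩ := classInner_isCharacter_nat (IsCharacter.restrict (Subgroup.centralizer ({u} : Set G))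
          (IsIrrCharacter.isCharacter χ₀.2)) (IsIrrCharacter.isCharacter ξ.2)
        rw [hn]
        exact memLocalRing_mul (memLocalRing_natCast _) (memLocalRing_natCast _)
      · exact memLocalRing_zero
    exact not_memLocalIdeal_mul (memLocalRing_mul hK1 hSl) hSml (not_memLocalIdeal_mul hK1 hSl hK2 hS) hSmn h3
  have hne0 : ∀ χ ∈ B, (p : ℂ) ^ blockDefect p e * classInner w (secF p u e (χ : G → ℂ)) ≠ 0 := by
    intro χ hχ h0
    apply hunit
    refine memLocalIdeal_yyy_congr hM he hBb hw hwi hχ hχ₀ (hyl χ hχ) (hyl χ₀ hχ₀) ?_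
    unfold yyy
    rw [← hq, h0, map_zero, zero_div]
    exact memLocalIdeal_zero
  -- Parseval
  have hpars : ∑ χ : IrrCharacter G, ((p : ℂ) ^ blockDefect p e * classInner w (secF p u e (χ : G → ℂ))) *
      conj ((p : ℂ) ^ blockDefect p e * classInner w (secF p u e (χ : G → ℂ))) = (p : ℂ) ^ blockDefect p e := by
    have h1 := (isProj_secP hM hu he).2 w hw
    rw [secP_apply] at h1
    have h2 : classInner w w = ∑ χ : IrrCharacter G, classInner w (secF p u e (χ : G → ℂ)) *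
        conj (classInner w (secF p u e (χ : G → ℂ))) := by
      have h5 := congrArg (fun f => classInner f w) h1
      beta_reduce at h5
      rw [← h5, classInner_sum_left]
      refine Finset.sum_congr rfl fun χ _ => ?_
      rw [classInner_smul_left, conj_classInner]
    have h3 : (p : ℂ) ^ blockDefect p e * classInner w w = 1 := by
      rw [hwdef, classInner_vecL (IsPBlock_nonempty he), hm]
      simp
    have h4 : ∀ χ : IrrCharacter G, ((p : ℂ) ^ blockDefect p e * classInner w (secF p u e (χ : G → ℂ))) *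
        conj ((p : ℂ) ^ blockDefect p e * classInner w (secF p u e (χ : G → ℂ))) =
        (p : ℂ) ^ blockDefect p e * ((p : ℂ) ^ blockDefect p e * (classInner w (secF p u e (χ : G → ℂ)) *
          conj (classInner w (secF p u e (χ : G → ℂ))))) := by
      intro χ
      rw [map_mul, map_pow, Complex.conj_natCast]
      ring
    simp_rw [h4]
    rw [← Finset.mul_sum, ← Finset.mul_sum, ← h2, h3, mul_one]
  obtain ⟨S, hS⟩ : ∃ S, S = Finset.univ.filter (fun χ : IrrCharacter G =>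
      (p : ℂ) ^ blockDefect p e * classInner w (secF p u e (χ : G → ℂ)) ≠ 0) := ⟨_, rfl⟩
  have hQ : ∑ χ ∈ S, ((p : ℂ) ^ blockDefect p e * classInner w (secF p u e (χ : G → ℂ))) *
      conj ((p : ℂ) ^ blockDefect p e * classInner w (secF p u e (χ : G → ℂ))) = (((p ^ blockDefect p e : ℕ) : ℚ) : ℂ) := by
    push_cast
    refine Eq.trans ?_ hpars
    rw [hS, Finset.sum_filter]
    refine Finset.sum_congr rfl fun χ _ => ?_
    split_ifs with h
    · rfl
    · rw [not_not.1 h]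
      simp
  have h2 := card_le_of_sum_eq (n := Nat.card G) S
    (fun χ : IrrCharacter G => (p : ℂ) ^ blockDefect p e * classInner w (secF p u e (χ : G → ℂ)))
    (fun χ _ => hyc χ)
    (fun χ hχ => by
      rw [hS] at hχ
      exact (Finset.mem_filter.1 hχ).2)
    (fun χ _ => hyi χ) _ hQ
  have h3 : (Finset.univ.filter (· ∈ B)).card ≤ S.card := by
    refine Finset.card_le_card fun χ hχ => ?_
    rw [hS, Finset.mem_filter]
    exact ⟨Finset.mem_univ _, hne0 χ (by simpa using hχ)⟩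
  have h4 : S.card ≤ p ^ blockDefect p e := by
    have h5 : (S.card : ℝ) ≤ ((p ^ blockDefect p e : ℕ) : ℝ) := by
      simpa using h2
    exact_mod_cast h5
  rw [← hq]
  exact h3.trans h4

end CaseOne

section Pieces

variable {I A : Type*} [Fintype I] [CommGroup A] [Fintype A]

open Classical in
/-- The part of a coefficient vector lying over an element. -/
noncomputable def pieceV (ee : I → A) (n : I → ℤ) (x : A) : I → ℤ := fun ξ => if ee ξ = x then n ξ else 0

theorem sum_pieceV_mul {R : Type*} [CommRing R] (L : A → R) (ee : I → A) (n : I → ℤ) (ξ ξ' : I) :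
    ∑ x, ∑ y, L (x * y⁻¹) * ((pieceV ee n x ξ * pieceV ee n y ξ' : ℤ) : R) =
      L (ee ξ * (ee ξ')⁻¹) * ((n ξ * n ξ' : ℤ) : R) := by
  classical
  rw [Finset.sum_eq_single (ee ξ)]
  · rw [Finset.sum_eq_single (ee ξ')]
    · simp [pieceV]
    · intro y _ hy
      simp [pieceV, Ne.symm hy]
    · simp
  · intro x _ hx
    refine Finset.sum_eq_zero fun y _ => ?_
    simp [pieceV, Ne.symm hx]
  · simp

end Pieces

section Forms

variable {C : Type*} [Group C] [Fintype C] {p : ℕ} [hp : Fact p.Prime] {A : Type*} [CommGroup A] [Fintype A]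

open Classical in
theorem sum_qZ_piece (b : Set (IrrCharacter C)) (L : A → ℝ) (ee : IrrCharacter C → A) (n : IrrCharacter C → ℤ) :
    ∑ x, ∑ y, L (x * y⁻¹) * (qZ p b (pieceV ee n x) (pieceV ee n y) : ℝ) =
      ∑ ξ, ∑ ξ', if ξ ∈ b ∧ ξ' ∈ b then L (ee ξ * (ee ξ')⁻¹) * ((n ξ * n ξ' * rr p b ξ ξ' : ℤ) : ℝ) else 0 := by
  obtain ⟨T, hT⟩ : ∃ T : A → A → IrrCharacter C → IrrCharacter C → ℤ, T = fun x y ξ ξ' =>
    if ξ ∈ b ∧ ξ' ∈ b then pieceV ee n x ξ * pieceV ee n y ξ' * rr p b ξ ξ' else 0 := ⟨_, rfl⟩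
  have h1 : ∀ x y, qZ p b (pieceV ee n x) (pieceV ee n y) = ∑ ξ, ∑ ξ', T x y ξ ξ' := fun x y => by
    rw [hT]
    rfl
  simp_rw [h1]
  calc ∑ x, ∑ y, L (x * y⁻¹) * ((∑ ξ, ∑ ξ', T x y ξ ξ' : ℤ) : ℝ)
      = ∑ x, ∑ y, ∑ ξ, ∑ ξ', L (x * y⁻¹) * ((T x y ξ ξ' : ℤ) : ℝ) := by
        push_cast
        simp_rw [Finset.mul_sum]
    _ = ∑ x, ∑ ξ, ∑ y, ∑ ξ', L (x * y⁻¹) * ((T x y ξ ξ' : ℤ) : ℝ) :=
        Finset.sum_congr rfl fun x _ => Finset.sum_comm
    _ = ∑ ξ, ∑ x, ∑ y, ∑ ξ', L (x * y⁻¹) * ((T x y ξ ξ' : ℤ) : ℝ) := Finset.sum_comm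
    _ = ∑ ξ, ∑ x, ∑ ξ', ∑ y, L (x * y⁻¹) * ((T x y ξ ξ' : ℤ) : ℝ) :=
        Finset.sum_congr rfl fun ξ _ => Finset.sum_congr rfl fun x _ => Finset.sum_comm
    _ = ∑ ξ, ∑ ξ', ∑ x, ∑ y, L (x * y⁻¹) * ((T x y ξ ξ' : ℤ) : ℝ) :=
        Finset.sum_congr rfl fun ξ _ => Finset.sum_comm
    _ = _ := by
        refine Finset.sum_congr rfl fun ξ _ => Finset.sum_congr rfl fun ξ' _ => ?_
        rw [hT]
        by_cases h : ξ ∈ b ∧ ξ' ∈ b
        · simp only [if_pos h]
          have h2 := sum_pieceV_mul L ee n ξ ξ'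
          have h3 : ∀ x y, L (x * y⁻¹) * ((pieceV ee n x ξ * pieceV ee n y ξ' * rr p b ξ ξ' : ℤ) : ℝ) =
              L (x * y⁻¹) * ((pieceV ee n x ξ * pieceV ee n y ξ' : ℤ) : ℝ) * (rr p b ξ ξ' : ℝ) := fun x y => by
            push_cast
            ring
          simp_rw [h3, ← Finset.sum_mul]
          rw [h2]
          push_cast
          ring
        · simp only [if_neg h, mul_zero, Int.cast_zero]
          simp

end Forms

section Trace

variable {K : Type} [Field K] [NumberField K] {I : Type*} [Fintype I] {n : ℕ} {c : Gal(K/ℚ)} {a : I → I → K} {P l : ℕ}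

theorem ProjMat.av_eq_trace (h : ProjMat n c a P l) (χ : I) :
    av a χ = ((Algebra.trace ℚ K (a χ χ) / Algebra.trace ℚ K 1 : ℚ) : ℝ) := by
  have h3 : ((∑ τ : K →ₐ[ℚ] ℂ, tt a τ χ : ℝ) : ℂ) = ((Algebra.trace ℚ K (a χ χ) : ℚ) : ℂ) := by
    push_cast
    rw [← sum_emb_eq_trace]
    exact Finset.sum_congr rfl fun τ _ => (h.diag_eq τ χ).symm
  have h4 : ((Algebra.trace ℚ K 1 : ℚ) : ℂ) = (Fintype.card (K →ₐ[ℚ] ℂ) : ℂ) := by
    rw [← sum_emb_eq_trace]
    simp
  have h5 : (∑ τ : K →ₐ[ℚ] ℂ, tt a τ χ : ℝ) = ((Algebra.trace ℚ K (a χ χ) : ℚ) : ℝ) := by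
    exact_mod_cast h3
  have h6 : ((Algebra.trace ℚ K 1 : ℚ) : ℝ) = (Fintype.card (K →ₐ[ℚ] ℂ) : ℝ) := by
    exact_mod_cast h4
  unfold av
  rw [h5, ← h6]
  push_cast
  rfl

theorem trace_div_sum {p : ℕ} (k : ℕ) [NeZero (p ^ (k + 1))] {J : Type*} [Fintype J] (Pr : J → J → Prop) [∀ i j, Decidable (Pr i j)]
    (t : J → J → Mu K p k) (w : J → J → ℤ) :
    ((Algebra.trace ℚ K (∑ i, ∑ j, if Pr i j then cK k (t i j) * ((w i j : ℤ) : K) else 0) / Algebra.trace ℚ K 1 : ℚ) : ℝ) =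
      ∑ i, ∑ j, if Pr i j then LL k (t i j) * ((w i j : ℤ) : ℝ) else 0 := by
  rw [map_sum, Finset.sum_div, Rat.cast_sum]
  refine Finset.sum_congr rfl fun i _ => ?_
  rw [map_sum, Finset.sum_div, Rat.cast_sum]
  refine Finset.sum_congr rfl fun j _ => ?_
  split_ifs
  · have h1 : cK k (t i j) * ((w i j : ℤ) : K) = ((w i j : ℚ)) • cK k (t i j) := by
      rw [Rat.smul_def]
      push_cast
      ring
    rw [h1, map_smul, smul_eq_mul]
    unfold LL
    push_cast
    ring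
  · simp

end Trace

section CaseTwo

variable {G : Type*} [Group G] [Fintype G] {p : ℕ} [hp : Fact p.Prime] {M : Ideal AlgInt}
  {u : G} {e : Set (IrrCharacter (Subgroup.centralizer ({u} : Set G)))} {B : Set (IrrCharacter G)}

/-- The diagonal entries have average at least two, if no vector has norm one. -/
theorem two_le_av {K : Type} [Field K] [NumberField K] {k : ℕ} [NeZero (p ^ (k + 1))] [IsCyclotomicExtension {p ^ (k + 1)} ℚ K]
    (ι : K →ₐ[ℚ] ℂ) (hk : orderOf u = p ^ k)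
    (hM : IsPModular p M) (hind : IsInducedBlock M (Subgroup.centralizer ({u} : Set G)) e B)
    (hq : blockDefect p e = blockDefect p B)
    (hno : ∀ m, qZ p e m m ≠ 1) {n₀ : ℕ} {c : Gal(K/ℚ)} {a : IrrCharacter G → IrrCharacter G → K} {P l : ℕ}
    (hP : ProjMat n₀ c a P l) (hα : ∀ χ ψ, ι (a χ ψ) = alpha p u e χ ψ) {χ : IrrCharacter G} (hχ : χ ∈ B) :
    2 ≤ av a χ := by
  classical
  have := isPModular_isPrime hM
  have he := hind.1
  have hBb := hind.2.1
  have hne := IsPBlock_nonempty he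
  haveI : Fintype (Mu K p k) := Fintype.ofFinite _
  haveI : Fintype (MuP K p k) := Fintype.ofFinite _
  have hN : u ^ p ^ (k + 1) = 1 := by
    rw [pow_succ, pow_mul, ← hk, pow_orderOf_eq_one, one_pow]
  have hroot : ∀ ξ : IrrCharacter (Subgroup.centralizer ({u} : Set G)), ∃ x : Mu K p k, ι (cK k x) =
      (ξ : Subgroup.centralizer ({u} : Set G) → ℂ) ⟨u, mem_centralizer_self u⟩ / (ξ : Subgroup.centralizer ({u} : Set G) → ℂ) 1 := by
    intro ξ
    have h1 := eps_pow ξ (center_self_mem u) (N := p ^ (k + 1)) (by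
      apply Subtype.ext
      simpa using hN)
    obtain ⟨x, hx1, hx2⟩ := Cfsg.Agent.Lib.Char.exists_root_preimage (p ^ (k + 1)) ι h1
    refine ⟨rootsOfUnity.mkOfPowEq x hx1, ?_⟩
    rw [cK, rootsOfUnity.coe_mkOfPowEq, hx2]
  choose ee hee using hroot
  have hfacts := fun ξ => exists_eps_facts hN (pow_pos hp.out.pos _) χ ξ
  choose ε n h1 h2 h3 h4 using hfacts
  have haa : ∀ ξ, aa u χ ξ = ι (cK k (ee ξ)) * ((n ξ : ℕ) : ℂ) := fun ξ => by
    rw [h1, h4, hee]
  have hconj : ∀ x : Mu K p k, conj (ι (cK k x)) = ι (cK k x⁻¹) := by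
    intro x
    have h5 : ι (cK k x) ^ p ^ (k + 1) = 1 := by
      rw [← map_pow, cK_pow_card, map_one]
    have h6 : ‖ι (cK k x)‖ = 1 := Complex.norm_eq_one_of_pow_eq_one h5 (NeZero.ne _)
    have h7 : cK k x⁻¹ = (cK k x)⁻¹ := by
      simp [cK]
    rw [h7, map_inv₀, Complex.inv_eq_conj h6]
  obtain ⟨N', hN'⟩ : ∃ N' : IrrCharacter (Subgroup.centralizer ({u} : Set G)) → ℤ, N' = fun ξ => (n ξ : ℤ) := ⟨_, rfl⟩
  have hN'a : ∀ ξ, ((n ξ : ℕ) : ℂ) = ((N' ξ : ℤ) : ℂ) := fun ξ => by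
    rw [hN']
    simp
  obtain ⟨m, hm⟩ : ∃ m, m = pieceV ee N' := ⟨_, rfl⟩
  -- the diagonal entry
  have ha : a χ χ = ∑ ξ, ∑ ξ', if ξ ∈ e ∧ ξ' ∈ e then
      cK k (ee ξ * (ee ξ')⁻¹) * (((N' ξ * N' ξ' * rr p e ξ ξ' : ℤ)) : K) else 0 := by
    apply ι.toRingHom.injective
    show ι _ = ι _
    rw [hα, alpha, gram_formula (IsPBlock_nonempty he), map_sum]
    refine Finset.sum_congr rfl fun ξ _ => ?_
    rw [map_sum]
    refine Finset.sum_congr rfl fun ξ' _ => ?_
    split_ifs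
    · rw [haa, haa, map_mul, map_mul, hconj, Complex.conj_natCast, cK_mul, map_mul, map_intCast, hN'a, hN'a]
      push_cast
      ring
    · rw [map_zero]
  have hav : av a χ = ∑ x, ∑ y, LL k (x * y⁻¹) * (qZ p e (m x) (m y) : ℝ) := by
    rw [hP.av_eq_trace, ha, trace_div_sum, hm, sum_qZ_piece]
  rw [hav]
  -- the decomposition of the section function
  have hF : secF p u e (χ : G → ℂ) = ∑ x, ι (cK k x) • vecL p e (m x) := by
    rw [secF_eq_vecC]
    unfold vecL vecC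
    simp_rw [Finset.smul_sum]
    rw [Finset.sum_comm]
    refine Finset.sum_congr rfl fun ξ _ => ?_
    by_cases hξ : ξ ∈ e
    · simp only [if_pos hξ]
      rw [Finset.sum_eq_single (ee ξ)]
      · rw [smul_smul, haa, hm]
        congr 2
        simp [pieceV, hN'a]
      · intro x _ hx
        rw [hm]
        simp [pieceV, Ne.symm hx]
      · simp
    · simp only [if_neg hξ, smul_zero]
      simp
  obtain ⟨z₁, hz₁, hz₁'⟩ := exists_ne_one_MuP (K := K) (p := p) k
  have hcard := one_lt_card_MuP k hz₁ hz₁'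
  -- nonvanishing
  obtain ⟨χ₀, hχ₀, hχ₀h⟩ : ∃ χ₀ ∈ B, blockHeight p B (χ₀ : G → ℂ) = 0 := by
    obtain ⟨χ₀, hχ₀, he₀⟩ := exists_height_zero (p := p) (IsPBlock_nonempty hBb)
    refine ⟨χ₀, hχ₀, ?_⟩
    unfold blockHeight
    rw [he₀]
    exact Nat.sub_self _
  have hF0 : secF p u e (χ : G → ℂ) ≠ 0 := by
    intro h0
    apply not_mem_alpha_div hM ⟨k, hk⟩ hind hq hχ₀ hχ₀h hχ
    unfold alpha
    rw [h0, classInner_def]
    simp only [Pi.zero_apply, zero_mul, Finset.sum_const_zero, mul_zero, zero_div]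
    exact memLocalIdeal_zero
  have hz₀ : ∃ (y₀ : Mu K p k) (z₀ : MuP K p k), vecL p e (m ((z₀ : Mu K p k) * y₀)) ≠ vecL p e (m y₀) := by
    by_contra hcon
    push Not at hcon
    have h5 : ι (cK k z₁) • secF p u e (χ : G → ℂ) = secF p u e (χ : G → ℂ) := by
      rw [hF, Finset.smul_sum]
      rw [← Equiv.sum_comp (Equiv.mulLeft z₁) (fun x => ι (cK k x) • vecL p e (m x))]
      refine Finset.sum_congr rfl fun x _ => ?_
      rw [smul_smul]
      show _ = ι (cK k (z₁ * x)) • vecL p e (m (z₁ * x))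
      rw [hcon x ⟨z₁, hz₁⟩, cK_mul, map_mul]
    have h6 : (ι (cK k z₁) - 1) • secF p u e (χ : G → ℂ) = 0 := by
      rw [sub_smul, one_smul, h5, sub_self]
    rcases smul_eq_zero.1 h6 with h7 | h7
    · apply hz₁'
      apply cK_injective k
      apply ι.toRingHom.injective
      show ι _ = ι _
      rw [cK_one, map_one]
      exact sub_eq_zero.1 h7
    · exact hF0 h7
  obtain ⟨y₀, z₀, hz₀⟩ := hz₀
  have hgap : ∀ x y, gapW (fun x y => (qZ p e (m x) (m y) : ℝ)) x y = (qZ p e (m x - m y) (m x - m y) : ℝ) := by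
    intro x y
    unfold gapW
    rw [qZ_sub]
    push_cast
    ring
  refine le_sum_L (MuP K p k) (fun x => vecL p e (m x)) (fun x y => (qZ p e (m x) (m y) : ℝ)) (fun x y => ?_) (LL k)
    ((Fintype.card (MuP K p k) : ℝ) - 1) rfl ?_ (LL_one k) (fun z hz h1 => LL_of_mem k hz h1) (fun x hx => LL_of_notMem k hx) 2
    (fun x y => ?_) (fun x y hxy => ?_) (y₀ := y₀) (z₀ := z₀) hz₀
  · rw [qZ_symm]
  · have h5 : (1 : ℝ) < (Fintype.card (MuP K p k) : ℝ) := by exact_mod_cast hcard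
    linarith
  · rw [hgap]
    exact_mod_cast qZ_nonneg (IsPBlock_nonempty he) (m x - m y)
  · rw [hgap]
    have h5 : vecL p e (m x - m y) ≠ 0 := by
      rw [vecL_sub]
      exact sub_ne_zero.2 hxy
    have h6 := qZ_pos (IsPBlock_nonempty he) h5
    have h7 := hno (m x - m y)
    have h8 : 2 ≤ qZ p e (m x - m y) (m x - m y) := by omega
    exact_mod_cast h8

open Classical in
/-- The case of no vector of norm one. -/
theorem card_le_of_no_unit_vec (hM : IsPModular p M) {k : ℕ} (hk : orderOf u = p ^ k)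
    (hind : IsInducedBlock M (Subgroup.centralizer ({u} : Set G)) e B) (hq : blockDefect p e = blockDefect p B)
    (hl : blockRank p e ≤ 2) (hno : ∀ m, qZ p e m m ≠ 1) :
    (Finset.univ.filter (· ∈ B)).card ≤ p ^ blockDefect p B := by
  haveI : NeZero (p ^ (k + 1)) := ⟨pow_ne_zero _ hp.out.ne_zero⟩
  haveI : NumberField (CyclotomicField (p ^ (k + 1)) ℚ) := IsCyclotomicExtension.numberField {p ^ (k + 1)} ℚ _
  have hN : u ^ p ^ (k + 1) = 1 := by
    rw [pow_succ, pow_mul, ← hk, pow_orderOf_eq_one, one_pow]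
  obtain ⟨c, a, hcc, hP, hα⟩ := exists_projMat (p := p) hN hM ⟨k, hk⟩ hind.1
  have h1 : ∀ χ ∈ Finset.univ.filter (· ∈ B), (2 : ℝ) ≤ av a χ := fun χ hχ =>
    two_le_av (cycEmb (p ^ (k + 1))) hk hM hind hq hno hP hα (by simpa using hχ)
  have h2 : ((Finset.univ.filter (· ∈ B)).card : ℝ) * 2 ≤ ∑ χ ∈ Finset.univ.filter (· ∈ B), av a χ := by
    rw [← nsmul_eq_mul, ← Finset.sum_const]
    exact Finset.sum_le_sum h1
  have h3 : ∑ χ ∈ Finset.univ.filter (· ∈ B), av a χ ≤ ∑ χ, av a χ :=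
    Finset.sum_le_sum_of_subset_of_nonneg (Finset.subset_univ _) fun χ _ _ => hP.av_nonneg χ
  rw [hP.sum_av] at h3
  have h4 : (blockRank p e : ℝ) ≤ 2 := by exact_mod_cast hl
  have h5 : ((p ^ blockDefect p e : ℕ) : ℝ) * (blockRank p e : ℝ) ≤ ((p ^ blockDefect p e : ℕ) : ℝ) * 2 :=
    mul_le_mul_of_nonneg_left h4 (Nat.cast_nonneg _)
  have h6 : ((Finset.univ.filter (· ∈ B)).card : ℝ) ≤ ((p ^ blockDefect p e : ℕ) : ℝ) := by
    linarith
  rw [← hq]
  exact_mod_cast h6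

/-- Main statement of S4539. -/
theorem sambale_S4539 (hM : IsPModular p M) (hB : IsPBlock M B) {D : Subgroup G} (hD : IsDefectGroup p M B D) {z : G}
    (hzD : z ∈ D) (hzc : ∀ d ∈ D, d * z = z * d) {b : Set (IrrCharacter (Subgroup.centralizer ({z} : Set G)))}
    (hb : IsInducedBlock M (Subgroup.centralizer ({z} : Set G)) b B)
    (hbD : IsDefectGroup p M b (D.subgroupOf (Subgroup.centralizer ({z} : Set G)))) (hl : blockRank p b ≤ 2) :
    Nat.card B ≤ p ^ blockDefect p B := by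
  classical
  obtain ⟨⟨k, hk⟩, hq⟩ := major_hyps hM hB hD hzD hzc hb.1 hbD
  rw [natCard_block_eq B]
  by_cases h : ∃ m, qZ p b m m = 1
  · obtain ⟨m, hm⟩ := h
    exact card_le_of_unit_vec hM ⟨k, hk⟩ hb hq hm
  · push Not at h
    exact card_le_of_no_unit_vec hM hk hb hq hl h

end CaseTwo

end Cfsg.Agent.Lib.BPair
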