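import Cfsg.Agent.Lib.BPair.Frob

/-!
# The fusion system of a block is saturated
-/

set_option autoImplicit false
set_option linter.unusedSectionVars false
set_option linter.unusedSimpArgs false
set_option linter.unusedVariables false

open scoped ComplexConjugate Pointwise
open Cfsg MonoidAlgebra
open Cfsg.Agent.Lib.Block Cfsg.Agent.Lib.Char Cfsg.Agent.Lib.CharExtra

namespace Cfsg.Agent.Lib.BPair

attribute [local instance] subFintype

section Sat

variable {G : Type*} [Group G] [Fintype G] {M : Ideal AlgInt} [hMp : M.IsPrime] {p : ℕ} [hp : Fact p.Prime]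
  {B : Set (IrrCharacter G)} {P : Subgroup G} {e : Set (IrrCharacter (Cen P))}

theorem eq_idx_of_chain (hM : IsPModular p M) (hPe : IsBrauerPair p M P e) {Q₀ : Subgroup G}
    {f₀ : Set (IrrCharacter (Cen Q₀))} (hle : SubpairLE p M Q₀ f₀ P e) {a : BrauerPairIdx G}
    (h : Relation.ReflTransGen (NormalSubpairRel p M) a ⟨P, e⟩) (ha : a.1 = Q₀) : a = ⟨Q₀, f₀⟩ := by
  obtain ⟨A, a2⟩ := a
  obtain rfl : A = Q₀ := ha
  have h' : SubpairLE p M A a2 P e := h
  have := (existsUnique_subpair hM hPe (le_of_subpairLE hle)).unique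
    ⟨(isBrauerPair_of_subpairLE hPe h').2, h'⟩ ⟨(isBrauerPair_of_subpairLE hPe hle).2, hle⟩
  rw [this]

/-- **Existence of the fusion system.** -/
theorem exists_blockFusion (hM : IsPModular p M) (hmax : IsMaximalBrauerPair p M B P e) :
    ∃ F : FusionSystem P, IsBlockFusionSystemOn p M B P e F := by
  classical
  have hPe := (isBrauerPairOf_iff.1 hmax.1).1
  refine ⟨{ Hom := fun Q => {φ | Q ≤ P ∧ ∃ g : G, (∀ u : Q, φ u = g * (u : G) * g⁻¹) ∧
              Q.map (MulAut.conj g).toMonoidHom ≤ P ∧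
              ∃ f : Set (IrrCharacter (Subgroup.centralizer (Q : Set G))),
                SubpairLE p M Q f P e ∧ SubpairLE p M (Q.map (MulAut.conj g).toMonoidHom) (conjBlock Q g f) P e}
            le_of_mem := ?_
            injective_of_mem := ?_
            conj_mem := ?_
            comp_mem := ?_
            inv_mem := ?_ }, hmax, fun Q φ => Iff.rfl⟩
  · rintro Q φ ⟨hQP, g, hg, hle, -⟩
    refine ⟨hQP, fun x => ?_⟩
    rw [hg]
    exact hle ⟨x, x.2, rfl⟩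
  · rintro Q φ ⟨-, g, hg, -⟩ a b hab
    have h : g * (a : G) * g⁻¹ = g * (b : G) * g⁻¹ := ((hg a).symm.trans hab).trans (hg b)
    exact Subtype.ext (mul_left_cancel (mul_right_cancel h))
  · intro Q g hQP hgP
    obtain ⟨f, ⟨hf, hfle⟩, -⟩ := existsUnique_subpair hM hPe hQP
    refine ⟨hQP, g, fun u => rfl, ?_, f, hfle, ?_⟩
    · rintro _ ⟨u, hu, rfl⟩
      exact P.mul_mem (P.mul_mem hgP (hQP hu)) (P.inv_mem hgP)
    · have h1 := chain_conj (p := p) (M := M) g hfle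
      have h2 : conjIdx g ⟨P, e⟩ = ⟨P, e⟩ := conjIdx_of_mem hgP e
      rw [h2] at h1
      exact h1
  · rintro Q R φ ψ ⟨hQP, g, hg, hle, f, hf, hgf⟩ ⟨hRP, k, hk, hle', f', hf', hkf⟩ h
    have hcjR : cj g Q ≤ R := by
      rintro _ ⟨u, hu, rfl⟩
      have := h ⟨u, hu⟩
      rw [hg] at this
      exact this
    refine ⟨hQP, k * g, fun x => ?_, ?_, f, hf, ?_⟩
    · show ψ (φ.codRestrict R h x) = _
      rw [hk]
      show k * φ x * k⁻¹ = _
      rw [hg, mul_inv_rev]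
      simp only [mul_assoc]
    · rintro _ ⟨u, hu, rfl⟩
      have h1 := hle' ⟨_, hcjR ⟨u, hu, rfl⟩, rfl⟩
      have e1 : (MulAut.conj (k * g)).toMonoidHom u = (MulAut.conj k).toMonoidHom ((MulAut.conj g).toMonoidHom u) := by
        simp [MulAut.conj_apply, mul_assoc]
      rw [e1]
      exact h1
    · have h1 := subpairLE_of_le hM hPe hgf hf' hcjR
      have h2 : Relation.ReflTransGen (NormalSubpairRel p M) (conjIdx k (conjIdx g ⟨Q, f⟩)) (conjIdx k ⟨R, f'⟩) :=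
        chain_conj k h1
      have h3 : Relation.ReflTransGen (NormalSubpairRel p M) (conjIdx k (conjIdx g ⟨Q, f⟩)) ⟨P, e⟩ := h2.trans hkf
      rw [conjIdx_mul] at h3
      exact h3
  · rintro Q φ ⟨hQP, g, hg, hle, f, hf, hgf⟩
    have hr : φ.range = cj g Q := by
      ext u
      constructor
      · rintro ⟨v, rfl⟩
        rw [hg]
        exact ⟨v, v.2, rfl⟩
      · rintro ⟨v, hv, rfl⟩
        exact ⟨⟨v, hv⟩, hg _⟩
    have key : ∀ R : Subgroup G, R = cj g Q → R ≤ P ∧ Subgroup.map (MulAut.conj g⁻¹).toMonoidHom R ≤ P ∧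
        ∃ f' : Set (IrrCharacter (Subgroup.centralizer (R : Set G))), SubpairLE p M R f' P e ∧
          SubpairLE p M (R.map (MulAut.conj g⁻¹).toMonoidHom) (conjBlock R g⁻¹ f') P e := by
      rintro _ rfl
      refine ⟨hle, ?_, _, hgf, ?_⟩
      · rw [show Subgroup.map (MulAut.conj g⁻¹).toMonoidHom (cj g Q) = Q from cj_inv_cj g Q]
        exact hQP
      · have h1 := conjIdx_inv g ⟨Q, f⟩
        have h2 : Relation.ReflTransGen (NormalSubpairRel p M) (conjIdx g⁻¹ (conjIdx g ⟨Q, f⟩)) ⟨P, e⟩ := by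
          rw [h1]
          exact hf
        exact h2
    obtain ⟨h1, h2, f', h3, h4⟩ := key _ hr
    refine ⟨conjHom φ.range g⁻¹, ⟨h1, g⁻¹, fun u => rfl, h2, f', h3, h4⟩, fun x => ?_⟩
    show g⁻¹ * φ x * g⁻¹⁻¹ = x
    rw [hg, inv_inv]
    group

variable {F : FusionSystem P}

/-- **Receptivity of fully normalized pairs.** -/
theorem isReceptive_of_fnorm (hM : IsPModular p M) (hF : IsBlockFusionSystemOn p M B P e F) {Q₀ : Subgroup G}
    {f₀ : Set (IrrCharacter (Cen Q₀))} (hle : SubpairLE p M Q₀ f₀ P e) (hfn : FNorm p M P ⟨Q₀, f₀⟩) :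
    F.IsReceptive Q₀ := by
  classical
  have hmax := hF.1
  have hPe := (isBrauerPairOf_iff.1 hmax.1).1
  refine ⟨le_of_subpairLE hle, fun R φ hφ hr => ?_⟩
  obtain ⟨hRP, g, hg, hcjP, f, hf, hgf⟩ := (hF.2 R φ).1 hφ
  have hr' : cj g R = Q₀ := by
    rw [← hr]
    ext u
    constructor
    · rintro ⟨v, hv, rfl⟩
      exact ⟨⟨v, hv⟩, hg _⟩
    · rintro ⟨v, rfl⟩
      rw [hg]
      exact ⟨v, v.2, rfl⟩
  subst hr'
  have hfe := eq_idx_of_chain hM hPe hle (a := ⟨cj g R, conjBlock R g f⟩) hgf rfl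
  have hfe' : f₀ = conjBlock R g f := by
    have := hfe
    simp only [Sigma.mk.injEq, heq_eq_eq, true_and] at this
    exact this.symm
  subst hfe'
  have hf' : IsPBlock M f := (isBrauerPair_of_subpairLE hPe hf).2
  obtain ⟨T₀, hT₀⟩ := exists_pairT (isPBlock_conjBlock (x := g) hf')
  obtain ⟨F₀, hF₀, hc₀, hdef⟩ := hfn T₀ hT₀
  obtain ⟨E, hE⟩ : ∃ E, E = FusionSystem.extender P R φ := ⟨_, rfl⟩
  rw [← hE]
  have hEP : E ≤ P := by
    rw [hE]
    exact (Subgroup.closure_le _).2 fun t ht => ht.1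
  have hEN : E ≤ Subgroup.normalizer (R : Set G) := by
    rw [hE]
    exact (Subgroup.closure_le _).2 fun t ht => ht.2.1
  have hRE : R ≤ E := by
    rw [hE]
    intro t ht
    apply Subgroup.subset_closure
    refine ⟨hRP ht, Subgroup.le_normalizer ht, g * t * g⁻¹, hcjP ⟨t, ht, rfl⟩, fun x hx => ?_⟩
    rw [hg, hg]
    show g * (t * x * t⁻¹) * g⁻¹ = _
    group
  have hEL : cj g E ≤ (P ⊓ Subgroup.normalizer ((cj g R : Subgroup G) : Set G)) ⊔ Cen (cj g R) := by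
    have hsub : E ≤ ((P ⊓ Subgroup.normalizer ((cj g R : Subgroup G) : Set G)) ⊔ Cen (cj g R)).comap
        (MulAut.conj g).toMonoidHom := by
      rw [hE]
      refine (Subgroup.closure_le _).2 ?_
      rintro t ⟨htP, htN, h, hh, hφt⟩
      show g * t * g⁻¹ ∈ ((P ⊓ Subgroup.normalizer ((cj g R : Subgroup G) : Set G)) ⊔ Cen (cj g R) : Subgroup G)
      have hact : ∀ y ∈ cj g R, (g * t * g⁻¹) * y * (g * t * g⁻¹)⁻¹ = h * y * h⁻¹ := by
        intro y hy
        have hy' := mem_cj.1 hy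
        have hx : t * (g⁻¹ * y * g) * t⁻¹ ∈ R := (Subgroup.mem_normalizer_iff.1 htN _).1 hy'
        have h1 := hφt ⟨g⁻¹ * y * g, hy'⟩ hx
        rw [hg, hg] at h1
        have e1 : g * (g⁻¹ * y * g) * g⁻¹ = y := by group
        have e2 : g * (t * (g⁻¹ * y * g) * t⁻¹) * g⁻¹ = (g * t * g⁻¹) * y * (g * t * g⁻¹)⁻¹ := by group
        simp only at h1
        rw [e2, e1] at h1
        exact h1
      have hwN : g * t * g⁻¹ ∈ Subgroup.normalizer ((cj g R : Subgroup G) : Set G) := conj_mem_normalizer_cj.2 htN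
      have hhN : h ∈ Subgroup.normalizer ((cj g R : Subgroup G) : Set G) := by
        apply mem_normalizer_of_cj_eq
        apply eq_of_cj_le
        rintro _ ⟨y, hy, rfl⟩
        show h * y * h⁻¹ ∈ cj g R
        rw [← hact y hy]
        exact (Subgroup.mem_normalizer_iff.1 hwN y).1 hy
      have hc : h⁻¹ * (g * t * g⁻¹) ∈ Cen (cj g R) := by
        rw [Subgroup.mem_centralizer_iff]
        intro y hy
        have h1 := hact y hy
        have e1 : y * (h⁻¹ * (g * t * g⁻¹)) = h⁻¹ * (h * y * h⁻¹) * (g * t * g⁻¹) := by group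
        rw [e1, ← h1]
        group
      have e2 : g * t * g⁻¹ = h * (h⁻¹ * (g * t * g⁻¹)) := by group
      rw [e2]
      exact Subgroup.mul_mem _ (Subgroup.mem_sup_left ⟨hh, hhN⟩) (Subgroup.mem_sup_right hc)
    rintro _ ⟨u, hu, rfl⟩
    exact hsub hu
  obtain ⟨s, ⟨hs, hsle⟩, -⟩ := existsUnique_subpair hM hPe hEP
  have hn := isNormalSubpair_of_le hM hPe hf hsle hRE hEN
  obtain ⟨c, hc, hch⟩ := exists_cen_conj hM hmax hle (isPBlock_conjBlock hf') hT₀ hF₀ hc₀ hdef hEL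
    (isNormalSubpair_conj (x := g) hn)
  have h1 : conjIdx c (conjIdx g ⟨E, s⟩) = conjIdx (c * g) ⟨E, s⟩ := conjIdx_mul c g _
  have hch' : Relation.ReflTransGen (NormalSubpairRel p M) (conjIdx c (conjIdx g ⟨E, s⟩)) ⟨P, e⟩ := hch
  rw [h1] at hch'
  refine ⟨conjHom E (c * g), (mem_hom_iff hM hF hsle _).2 ⟨_, fun u => rfl, hch'⟩, fun x hxR hxE => ?_⟩
  rw [hg]
  show c * g * x * (c * g)⁻¹ = g * x * g⁻¹
  have h3 : c * (g * x * g⁻¹) = (g * x * g⁻¹) * c :=
    (Subgroup.mem_centralizer_iff.1 hc _ (conj_mem_cj.2 hxR)).symm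
  have h4 : c * g * x * (c * g)⁻¹ = c * (g * x * g⁻¹) * c⁻¹ := by group
  rw [h4, h3]
  group

theorem pow_conj_aux {Q : Subgroup G} {α : MulAut Q} {t : G} (h : ∀ v : Q, ((α v : Q) : G) = t * v * t⁻¹) (n : ℕ)
    (v : Q) : (((α ^ n) v : Q) : G) = t ^ n * v * (t ^ n)⁻¹ := by
  induction n generalizing v with
  | zero => simp
  | succ n ih =>
    rw [pow_succ]
    show (((α ^ n) (α v) : Q) : G) = _
    rw [ih, h, pow_succ]
    group

/-- **Fully normalized pairs are fully automized.** -/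
theorem isFullyAutomized_of_fnorm (hM : IsPModular p M) (hF : IsBlockFusionSystemOn p M B P e F) {Q₀ : Subgroup G}
    {f₀ : Set (IrrCharacter (Cen Q₀))} (hle : SubpairLE p M Q₀ f₀ P e) (hfn : FNorm p M P ⟨Q₀, f₀⟩) :
    F.IsFullyAutomized p Q₀ := by
  classical
  have hmax := hF.1
  have hPe := (isBrauerPairOf_iff.1 hmax.1).1
  have hf₀ : IsPBlock M f₀ := (isBrauerPair_of_subpairLE hPe hle).2
  obtain ⟨T₀, hT₀⟩ := exists_pairT hf₀
  obtain ⟨F₀, hF₀, hc₀, hdef⟩ := hfn T₀ hT₀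
  have ha : ∀ α ∈ F.autGroup Q₀, ∃ t ∈ T₀, ∀ v : Q₀, ((α v : Q₀) : G) = t * v * t⁻¹ := by
    intro α hα
    induction hα using Subgroup.closure_induction with
    | mem α hα =>
      obtain ⟨g, hg, h₂⟩ := (mem_hom_iff hM hF hle _).1 hα
      have hcj : cj g Q₀ = Q₀ := by
        apply eq_of_cj_le
        rintro _ ⟨u, hu, rfl⟩
        have := hg ⟨u, hu⟩
        show g * u * g⁻¹ ∈ Q₀
        rw [← this]
        exact (α ⟨u, hu⟩).2
      have h3 := eq_idx_of_chain hM hPe hle (a := conjIdx g ⟨Q₀, f₀⟩) h₂ hcj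
      obtain ⟨h4, h5⟩ := stabilizes_of_conjIdx_eq hf₀ h3
      exact ⟨g, (hT₀ g).2 ⟨h4, h5⟩, fun v => hg v⟩
    | one => exact ⟨1, T₀.one_mem, fun v => by simp⟩
    | mul α β _ _ h1 h2 =>
      obtain ⟨t₁, ht₁, h1⟩ := h1
      obtain ⟨t₂, ht₂, h2⟩ := h2
      refine ⟨t₁ * t₂, T₀.mul_mem ht₁ ht₂, fun v => ?_⟩
      show ((α (β v) : Q₀) : G) = _
      rw [h1, h2]
      group
    | inv α _ h1 =>
      obtain ⟨t, ht, h1⟩ := h1
      refine ⟨t⁻¹, T₀.inv_mem ht, fun v => ?_⟩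
      have h2 := h1 (α⁻¹ v)
      have h3 : α (α⁻¹ v) = v := by simp
      rw [h3] at h2
      rw [h2]
      group
  have hb : ∀ t ∈ T₀, ∀ α : MulAut Q₀, (∀ v : Q₀, ((α v : Q₀) : G) = t * v * t⁻¹) → α ∈ F.autGroup Q₀ := by
    intro t ht α hα
    apply Subgroup.subset_closure
    obtain ⟨h1, h2⟩ := (hT₀ t).1 ht
    have h3 := conjIdx_eq_of_stabilizes hf₀ h1 h2
    refine (mem_hom_iff hM hF hle _).2 ⟨t, hα, ?_⟩
    have h4 : Relation.ReflTransGen (NormalSubpairRel p M) (conjIdx t ⟨Q₀, f₀⟩) ⟨P, e⟩ := by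
      rw [h3]
      exact hle
    exact h4
  have hc : ∀ α ∈ autInducedBy P Q₀, ∃ u ∈ P ⊓ Subgroup.normalizer (Q₀ : Set G),
      ∀ v : Q₀, ((α v : Q₀) : G) = u * v * u⁻¹ := by
    intro α hα
    induction hα using Subgroup.closure_induction with
    | mem α hα =>
      obtain ⟨g, hgP, hg⟩ := hα
      refine ⟨g, ⟨hgP, ?_⟩, hg⟩
      apply mem_normalizer_of_cj_eq
      apply eq_of_cj_le
      rintro _ ⟨u, hu, rfl⟩
      have := hg ⟨u, hu⟩
      show g * u * g⁻¹ ∈ Q₀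
      rw [← this]
      exact (α ⟨u, hu⟩).2
    | one => exact ⟨1, Subgroup.one_mem _, fun v => by simp⟩
    | mul α β _ _ h1 h2 =>
      obtain ⟨t₁, ht₁, h1⟩ := h1
      obtain ⟨t₂, ht₂, h2⟩ := h2
      refine ⟨t₁ * t₂, Subgroup.mul_mem _ ht₁ ht₂, fun v => ?_⟩
      show ((α (β v) : Q₀) : G) = _
      rw [h1, h2]
      group
    | inv α _ h1 =>
      obtain ⟨t, ht, h1⟩ := h1
      refine ⟨t⁻¹, Subgroup.inv_mem _ ht, fun v => ?_⟩
      have h2 := h1 (α⁻¹ v)
      have h3 : α (α⁻¹ v) = v := by simp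
      rw [h3] at h2
      rw [h2]
      group
  have hd : ∀ u ∈ P, ∀ α : MulAut Q₀, (∀ v : Q₀, ((α v : Q₀) : G) = u * v * u⁻¹) → α ∈ autInducedBy P Q₀ :=
    fun u hu α hα => Subgroup.subset_closure ⟨u, hu, hα⟩
  refine ⟨le_of_subpairLE hle, ⟨(autInducedBy P Q₀).subgroupOf (F.autGroup Q₀), ?_, ?_⟩, rfl⟩
  · rintro ⟨⟨α, hαA⟩, hαI⟩
    rw [Subgroup.mem_subgroupOf] at hαI
    obtain ⟨u, hu, huv⟩ := hc α hαI
    obtain ⟨k, hk⟩ := hPe.1 ⟨u, hu.1⟩
    have hk' : u ^ p ^ k = 1 := by simpa using congrArg Subtype.val hk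
    refine ⟨k, Subtype.ext (Subtype.ext (MulEquiv.ext fun v => Subtype.ext ?_))⟩
    have h1 := pow_conj_aux huv (p ^ k) v
    rw [hk'] at h1
    simpa using h1
  · intro A' hA'p hA'le
    refine le_antisymm ?_ hA'le
    -- the preimage `L`
    let L : Subgroup G :=
      { carrier := {t | t ∈ T₀ ∧ ∃ β ∈ A', ∀ v : Q₀, (((β : MulAut Q₀) v : Q₀) : G) = t * v * t⁻¹}
        mul_mem' := by
          rintro a b ⟨ha1, β₁, hβ₁, h1⟩ ⟨hb1, β₂, hβ₂, h2⟩
          refine ⟨T₀.mul_mem ha1 hb1, β₁ * β₂, A'.mul_mem hβ₁ hβ₂, fun v => ?_⟩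
          show (((β₁ : MulAut Q₀) ((β₂ : MulAut Q₀) v) : Q₀) : G) = _
          rw [h1, h2]
          group
        one_mem' := ⟨T₀.one_mem, 1, A'.one_mem, fun v => by simp⟩
        inv_mem' := by
          rintro a ⟨ha1, β, hβ, h1⟩
          refine ⟨T₀.inv_mem ha1, β⁻¹, A'.inv_mem hβ, fun v => ?_⟩
          have h2 := h1 ((β : MulAut Q₀)⁻¹ v)
          have h3 : (β : MulAut Q₀) ((β : MulAut Q₀)⁻¹ v) = v := by simp
          rw [h3] at h2
          show (((β : MulAut Q₀)⁻¹ v : Q₀) : G) = _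
          rw [h2]
          group }
    have hCL : Cen Q₀ ≤ L := by
      intro c hc'
      refine ⟨(hT₀ c).2 ⟨cen_le_normalizer Q₀ hc', stabilizes_of_mem_cen hc'⟩, 1, A'.one_mem, fun v => ?_⟩
      have h1 : c * (v : G) = v * c := (Subgroup.mem_centralizer_iff.1 hc' _ v.2).symm
      show (v : G) = _
      rw [h1]
      group
    have hD₀L : P ⊓ Subgroup.normalizer (Q₀ : Set G) ≤ L := by
      intro u hu
      have huT := inf_normalizer_le_T hM hmax hle hT₀ hu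
      refine ⟨huT, ⟨nConj hu.2, hb u huT _ (fun v => rfl)⟩, hA'le ?_, fun v => rfl⟩
      rw [Subgroup.mem_subgroupOf]
      exact hd u hu.1 _ (fun v => rfl)
    have hLT : L ≤ T₀ := fun t ht => ht.1
    have hidx : ∃ k : ℕ, ((Cen Q₀).subgroupOf L).index = p ^ k := by
      haveI hNn : ((Cen Q₀).subgroupOf L).Normal := by
        refine ⟨fun n hn t => ?_⟩
        rw [Subgroup.mem_subgroupOf] at hn ⊢
        exact (Subgroup.mem_normalizer_iff.1 (normalizer_le_normalizer_cen ((hT₀ t).1 (hLT t.2)).1) _).1 hn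
      have hpg : IsPGroup p (L ⧸ (Cen Q₀).subgroupOf L) := by
        intro g
        induction g using QuotientGroup.induction_on with
        | H t =>
          obtain ⟨-, β, hβ, h1⟩ := t.2
          obtain ⟨k, hk⟩ := hA'p ⟨β, hβ⟩
          refine ⟨k, ?_⟩
          rw [← QuotientGroup.mk_pow, QuotientGroup.eq_one_iff, Subgroup.mem_subgroupOf]
          rw [Subgroup.mem_centralizer_iff]
          intro v hv
          have h2 := pow_conj_aux h1 (p ^ k) ⟨v, hv⟩
          have h3 : ((β : MulAut Q₀)) ^ p ^ k = 1 := by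
            have := congrArg Subtype.val (congrArg Subtype.val hk)
            simpa using this
          rw [h3] at h2
          have h4 : v = (t : G) ^ p ^ k * v * ((t : G) ^ p ^ k)⁻¹ := h2
          have h5 : ((t ^ p ^ k : L) : G) = (t : G) ^ p ^ k := rfl
          rw [h5]
          rw [eq_mul_inv_iff_mul_eq] at h4
          exact h4.symm ▸ rfl
      obtain ⟨k, hk⟩ := IsPGroup.iff_card.1 hpg
      exact ⟨k, hk⟩
    have hLle := le_sup_of_pIndex hM hmax hle hf₀ hT₀ hF₀ hc₀ hdef hCL hD₀L hLT hidx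
    intro α hα
    rw [Subgroup.mem_subgroupOf]
    obtain ⟨t, ht, htv⟩ := ha α.1 α.2
    have htL : t ∈ L := ⟨ht, α, hα, htv⟩
    obtain ⟨u, hu, c, hc', rfl⟩ := mem_sup_cen inf_le_right (hLle htL)
    refine hd u hu.1 _ (fun v => ?_)
    rw [htv]
    have h1 : c * (v : G) = v * c := (Subgroup.mem_centralizer_iff.1 hc' _ v.2).symm
    have h2 : u * c * (v : G) * (u * c)⁻¹ = u * (c * v) * c⁻¹ * u⁻¹ := by group
    rw [h2, h1]
    group

/-- **Saturation.** -/
theorem isSaturated_of_block (hM : IsPModular p M) (hF : IsBlockFusionSystemOn p M B P e F) : F.IsSaturated p := by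
  classical
  have hmax := hF.1
  have hPe := (isBrauerPairOf_iff.1 hmax.1).1
  intro Q hQP
  obtain ⟨f, ⟨hf, hfle⟩, -⟩ := existsUnique_subpair hM hPe hQP
  obtain ⟨x, hx, hfn⟩ := exists_conj_fnorm hM hmax hfle hf
  exact ⟨cj x Q, (isConj_iff_block hM hF hfle _).2 ⟨x, rfl, hx⟩, isFullyAutomized_of_fnorm hM hF hx hfn,
    isReceptive_of_fnorm hM hF hx hfn⟩

end Sat

end Cfsg.Agent.Lib.BPair
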