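import Cfsg.Agent.Lib.BPair.MajorQ
import Cfsg.Agent.Lib.Block.CycAvg

/-!
# Averaging the matrix of a `2`-subsection over the Galois group
-/

set_option autoImplicit false
set_option linter.unusedSectionVars false
set_option linter.style.haveILetI false
set_option linter.unusedSimpArgs false
set_option linter.unnecessarySimpa false
set_option linter.unusedVariables false

open scoped ComplexConjugate
open Module

namespace Cfsg.Agent.Lib.BPair

open Cfsg Cfsg.Agent.Lib.Char Cfsg.Agent.Lib.Block Cfsg.Agent.Lib.Core Cfsg.Agent.Lib.CharExtra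

attribute [local instance] subFintype

section Abstract

variable {K : Type} [Field K] [NumberField K] {I : Type*} [Fintype I]

/-- A matrix with entries in a cyclotomic field, Hermitian and with square `P` times itself, and of trace `P l`. -/
structure ProjMat (n : ℕ) (c : Gal(K/ℚ)) (a : I → I → K) (P l : ℕ) : Prop where
  hc : ∀ (τ : K →ₐ[ℚ] ℂ) (x : K), conj (τ x) = τ (c x)
  herm : ∀ χ ψ, c (a χ ψ) = a ψ χ
  sq : ∀ χ χ', ∑ ψ, a χ ψ * a ψ χ' = (P : K) * a χ χ'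
  tr : ∑ χ, a χ χ = (P : K) * (l : K)
  pos : 0 < P

variable {n : ℕ} {c : Gal(K/ℚ)} {a : I → I → K} {P l : ℕ}

/-- The real part of the image of a diagonal entry. -/
noncomputable def tt (a : I → I → K) (τ : K →ₐ[ℚ] ℂ) (χ : I) : ℝ := (τ (a χ χ)).re

theorem ProjMat.row_complex (h : ProjMat n c a P l) (τ : K →ₐ[ℚ] ℂ) (χ : I) :
    ∑ ψ, ((Complex.normSq (τ (a χ ψ)) : ℝ) : ℂ) = (P : ℂ) * τ (a χ χ) := by
  have h1 := congrArg τ (h.sq χ χ)
  rw [map_sum, map_mul, map_natCast] at h1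
  rw [← h1]
  refine Finset.sum_congr rfl fun ψ _ => ?_
  rw [map_mul, ← h.herm χ ψ, ← h.hc, Complex.mul_conj]

theorem ProjMat.diag_eq (h : ProjMat n c a P l) (τ : K →ₐ[ℚ] ℂ) (χ : I) : τ (a χ χ) = (tt a τ χ : ℂ) := by
  have h1 := h.row_complex τ χ
  have hP : (P : ℂ) ≠ 0 := by exact_mod_cast h.pos.ne'
  have h2 : τ (a χ χ) = ((∑ ψ, Complex.normSq (τ (a χ ψ)) / P : ℝ) : ℂ) := by
    apply mul_left_cancel₀ hP
    rw [← h1]
    push_cast
    rw [Finset.mul_sum]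
    refine Finset.sum_congr rfl fun ψ _ => ?_
    field_simp
  unfold tt
  rw [h2, Complex.ofReal_re]

theorem ProjMat.row_real (h : ProjMat n c a P l) (τ : K →ₐ[ℚ] ℂ) (χ : I) :
    ∑ ψ, Complex.normSq (τ (a χ ψ)) = (P : ℝ) * tt a τ χ := by
  have h1 := h.row_complex τ χ
  rw [h.diag_eq τ χ] at h1
  exact_mod_cast h1

theorem ProjMat.tt_nonneg (h : ProjMat n c a P l) (τ : K →ₐ[ℚ] ℂ) (χ : I) : 0 ≤ tt a τ χ := by
  have h1 := h.row_real τ χ
  have h2 : 0 ≤ ∑ ψ, Complex.normSq (τ (a χ ψ)) := Finset.sum_nonneg fun ψ _ => Complex.normSq_nonneg _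
  rw [h1] at h2
  have hP : (0 : ℝ) < P := by exact_mod_cast h.pos
  exact nonneg_of_mul_nonneg_right h2 hP

theorem ProjMat.sum_tt (h : ProjMat n c a P l) (τ : K →ₐ[ℚ] ℂ) : ∑ χ, tt a τ χ = (P : ℝ) * l := by
  have h1 := congrArg τ h.tr
  rw [map_sum, map_mul, map_natCast, map_natCast] at h1
  have h2 : ((∑ χ, tt a τ χ : ℝ) : ℂ) = ((P : ℝ) * l : ℝ) := by
    push_cast
    rw [← h1]
    refine Finset.sum_congr rfl fun χ _ => ?_
    rw [h.diag_eq τ χ]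
  exact_mod_cast h2

/-- The average of the images of a diagonal entry. -/
noncomputable def av (a : I → I → K) (χ : I) : ℝ :=
  (∑ τ : K →ₐ[ℚ] ℂ, tt a τ χ) / (Fintype.card (K →ₐ[ℚ] ℂ) : ℝ)

omit [Fintype I] in
theorem card_emb_pos : (0 : ℝ) < (Fintype.card (K →ₐ[ℚ] ℂ) : ℝ) := by
  have : Nonempty (K →ₐ[ℚ] ℂ) := ⟨IsAlgClosed.lift⟩
  exact_mod_cast Fintype.card_pos

theorem ProjMat.av_nonneg (h : ProjMat n c a P l) (χ : I) : 0 ≤ av a χ :=
  div_nonneg (Finset.sum_nonneg fun τ _ => h.tt_nonneg τ χ) (Nat.cast_nonneg _)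

theorem ProjMat.sum_av (h : ProjMat n c a P l) : ∑ χ, av a χ = (P : ℝ) * l := by
  have hne := (card_emb_pos (K := K)).ne'
  unfold av
  rw [← Finset.sum_div, Finset.sum_comm]
  simp_rw [h.sum_tt]
  rw [Finset.sum_const, Finset.card_univ, nsmul_eq_mul]
  field_simp

end Abstract

section Bounds

variable {K : Type} [Field K] [NumberField K] {I : Type*} [Fintype I] {n : ℕ} {c : Gal(K/ℚ)} {a : I → I → K} {P l : ℕ}

/-- A nonzero integer of the field has average norm at least one. -/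
theorem one_le_avg_normSq [NeZero n] [IsCyclotomicExtension {n} ℚ K] {x : K} (h0 : x ≠ 0) (hi : IsIntegral ℤ x) :
    (Fintype.card (K →ₐ[ℚ] ℂ) : ℝ) ≤ ∑ τ : K →ₐ[ℚ] ℂ, Complex.normSq (τ x) :=
  card_le_sum_normSq_emb n h0 hi

/-- The lower bound for a weighted row. -/
theorem ProjMat.sum_pow_le [NeZero n] [IsCyclotomicExtension {n} ℚ K] (h : ProjMat n c a P l) (χ : I) (S : Finset I)
    (x : I → K) (hw : I → ℕ) (hS : ∀ ψ ∈ S, a χ ψ = (2 : K) ^ hw ψ * x ψ ∧ x ψ ≠ 0 ∧ IsIntegral ℤ (x ψ)) :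
    ∑ ψ ∈ S, ((4 : ℝ) ^ hw ψ) ≤ (P : ℝ) * av a χ := by
  have hne := (card_emb_pos (K := K))
  have h1 : ∑ ψ ∈ S, (4 : ℝ) ^ hw ψ * (Fintype.card (K →ₐ[ℚ] ℂ) : ℝ) ≤
      ∑ τ : K →ₐ[ℚ] ℂ, ∑ ψ, Complex.normSq (τ (a χ ψ)) := by
    calc ∑ ψ ∈ S, (4 : ℝ) ^ hw ψ * (Fintype.card (K →ₐ[ℚ] ℂ) : ℝ)
        ≤ ∑ ψ ∈ S, ∑ τ : K →ₐ[ℚ] ℂ, Complex.normSq (τ (a χ ψ)) := by
          refine Finset.sum_le_sum fun ψ hψ => ?_
          obtain ⟨e1, e2, e3⟩ := hS ψ hψ
          have h2 : ∑ τ : K →ₐ[ℚ] ℂ, Complex.normSq (τ (a χ ψ)) =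
              (4 : ℝ) ^ hw ψ * ∑ τ : K →ₐ[ℚ] ℂ, Complex.normSq (τ (x ψ)) := by
            rw [Finset.mul_sum]
            refine Finset.sum_congr rfl fun τ _ => ?_
            rw [e1, map_mul, map_pow, map_ofNat, Complex.normSq_mul, map_pow]
            congr 2
            simp [Complex.normSq_apply]
            norm_num
          rw [h2]
          exact mul_le_mul_of_nonneg_left (one_le_avg_normSq (n := n) e2 e3) (by positivity)
      _ = ∑ τ : K →ₐ[ℚ] ℂ, ∑ ψ ∈ S, Complex.normSq (τ (a χ ψ)) := Finset.sum_comm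
      _ ≤ ∑ τ : K →ₐ[ℚ] ℂ, ∑ ψ, Complex.normSq (τ (a χ ψ)) :=
          Finset.sum_le_sum fun τ _ => Finset.sum_le_sum_of_subset_of_nonneg (Finset.subset_univ _)
            fun ψ _ _ => Complex.normSq_nonneg _
  simp_rw [h.row_real] at h1
  rw [← Finset.sum_mul, ← Finset.mul_sum] at h1
  unfold av
  rw [mul_div_assoc', le_div_iff₀ hne]
  exact h1

/-- The concavity bound for the off-diagonal part of a row. -/
theorem ProjMat.sum_pow_le_mul [NeZero n] [IsCyclotomicExtension {n} ℚ K] (h : ProjMat n c a P l) (χ : I) (S : Finset I)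
    (hχ : χ ∉ S) (x : I → K) (hw : I → ℕ)
    (hS : ∀ ψ ∈ S, a χ ψ = (2 : K) ^ hw ψ * x ψ ∧ x ψ ≠ 0 ∧ IsIntegral ℤ (x ψ)) :
    ∑ ψ ∈ S, ((4 : ℝ) ^ hw ψ) ≤ av a χ * ((P : ℝ) - av a χ) := by
  classical
  have hne := (card_emb_pos (K := K))
  obtain ⟨T, hT⟩ : ∃ T : ℝ, T = (Fintype.card (K →ₐ[ℚ] ℂ) : ℝ) := ⟨_, rfl⟩
  rw [← hT] at hne
  have h1 : ∑ ψ ∈ S, (4 : ℝ) ^ hw ψ * T ≤
      ∑ τ : K →ₐ[ℚ] ℂ, ((P : ℝ) * tt a τ χ - tt a τ χ ^ 2) := by
    calc ∑ ψ ∈ S, (4 : ℝ) ^ hw ψ * T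
        ≤ ∑ ψ ∈ S, ∑ τ : K →ₐ[ℚ] ℂ, Complex.normSq (τ (a χ ψ)) := by
          refine Finset.sum_le_sum fun ψ hψ => ?_
          obtain ⟨e1, e2, e3⟩ := hS ψ hψ
          have h2 : ∑ τ : K →ₐ[ℚ] ℂ, Complex.normSq (τ (a χ ψ)) =
              (4 : ℝ) ^ hw ψ * ∑ τ : K →ₐ[ℚ] ℂ, Complex.normSq (τ (x ψ)) := by
            rw [Finset.mul_sum]
            refine Finset.sum_congr rfl fun τ _ => ?_
            rw [e1, map_mul, map_pow, map_ofNat, Complex.normSq_mul, map_pow]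
            congr 2
            simp [Complex.normSq_apply]
            norm_num
          rw [h2, hT]
          exact mul_le_mul_of_nonneg_left (one_le_avg_normSq (n := n) e2 e3) (by positivity)
      _ = ∑ τ : K →ₐ[ℚ] ℂ, ∑ ψ ∈ S, Complex.normSq (τ (a χ ψ)) := Finset.sum_comm
      _ ≤ ∑ τ : K →ₐ[ℚ] ℂ, ((P : ℝ) * tt a τ χ - tt a τ χ ^ 2) := by
          refine Finset.sum_le_sum fun τ _ => ?_
          have h3 := h.row_real τ χ
          have h4 : Complex.normSq (τ (a χ χ)) = tt a τ χ ^ 2 := by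
            rw [h.diag_eq τ χ, Complex.normSq_ofReal]
            ring
          have h5 : ∑ ψ ∈ insert χ S, Complex.normSq (τ (a χ ψ)) ≤ ∑ ψ, Complex.normSq (τ (a χ ψ)) :=
            Finset.sum_le_sum_of_subset_of_nonneg (Finset.subset_univ _) fun ψ _ _ => Complex.normSq_nonneg _
          rw [Finset.sum_insert hχ, h3, h4] at h5
          linarith
  -- Cauchy-Schwarz
  have h2 : (∑ τ : K →ₐ[ℚ] ℂ, tt a τ χ) ^ 2 ≤ T * ∑ τ : K →ₐ[ℚ] ℂ, tt a τ χ ^ 2 := by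
    have := sq_sum_le_card_mul_sum_sq (s := (Finset.univ : Finset (K →ₐ[ℚ] ℂ))) (f := fun τ => tt a τ χ)
    rw [hT]
    simpa using this
  obtain ⟨W, hW⟩ : ∃ W : ℝ, W = ∑ τ : K →ₐ[ℚ] ℂ, tt a τ χ := ⟨_, rfl⟩
  have hav : av a χ = W / T := by
    unfold av
    rw [hW, hT]
  rw [Finset.sum_sub_distrib, ← Finset.mul_sum, ← hW, ← Finset.sum_mul] at h1
  rw [← hW] at h2
  rw [hav]
  have h3 : (∑ ψ ∈ S, (4 : ℝ) ^ hw ψ) * T ≤ (P : ℝ) * W - W ^ 2 / T := by
    have h4 : W ^ 2 / T ≤ ∑ τ : K →ₐ[ℚ] ℂ, tt a τ χ ^ 2 := by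
      rw [div_le_iff₀ hne]
      linarith
    linarith
  have h5 : W / T * ((P : ℝ) - W / T) = ((P : ℝ) * W - W ^ 2 / T) / T := by
    field_simp
  rw [h5, le_div_iff₀ hne]
  exact h3

end Bounds

section Real

variable {K : Type} [Field K] [NumberField K] {I : Type*} [Fintype I] {n : ℕ} {c : Gal(K/ℚ)} {a : I → I → K} {P l : ℕ}

/-- The diagonal entries have an integer average. -/
theorem ProjMat.av_eq_int (j : ℕ) [IsCyclotomicExtension {2 ^ (j + 2)} ℚ K] (h : ProjMat n c a P l)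
    (hcc : ∀ y : K, y ^ 2 ^ (j + 2) = 1 → c y = y ^ (2 ^ (j + 2) - 1)) {χ : I} {w : ℕ} {x : K}
    (e : a χ χ = (2 : K) ^ w * x) (hi : IsIntegral ℤ x) {M : Ideal AlgInt} [M.IsPrime] (hM : IsPModular 2 M)
    (τ₀ : K →ₐ[ℚ] ℂ) :
    ∃ m : ℤ, av a χ = (2 : ℝ) ^ w * (m : ℝ) ∧ MemLocalIdeal M (τ₀ x - (m : ℂ)) := by
  have hcx : c x = x := by
    have h1 := h.herm χ χ
    rw [e, map_mul, map_pow, map_ofNat] at h1
    exact mul_left_cancel₀ (pow_ne_zero _ two_ne_zero) h1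
  obtain ⟨m, s, d, ζ, hζ, h1, h2⟩ := exists_int_of_real j c hcc hi hcx
  refine ⟨m, ?_, ?_⟩
  · have hne := (card_emb_pos (K := K))
    have h3 : ((∑ τ : K →ₐ[ℚ] ℂ, tt a τ χ : ℝ) : ℂ) =
        (((2 : ℝ) ^ w * (m : ℝ) * (Fintype.card (K →ₐ[ℚ] ℂ) : ℝ) : ℝ) : ℂ) := by
      push_cast
      simp_rw [← h.diag_eq _ χ, e, map_mul, map_pow, map_ofNat]
      rw [← Finset.mul_sum, sum_emb_eq_trace, h1]
      have h4 : ((Algebra.trace ℚ K 1 : ℚ) : ℂ) = (Fintype.card (K →ₐ[ℚ] ℂ) : ℂ) := by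
        rw [← sum_emb_eq_trace]
        simp
      push_cast
      rw [h4]
      ring
    have h4 : (∑ τ : K →ₐ[ℚ] ℂ, tt a τ χ : ℝ) = (2 : ℝ) ^ w * (m : ℝ) * (Fintype.card (K →ₐ[ℚ] ℂ) : ℝ) := by
      exact_mod_cast h3
    unfold av
    rw [h4]
    field_simp
  · have h3 : τ₀ x - (m : ℂ) = ∑ i ∈ s, (d i : ℂ) * (τ₀ ζ ^ (i + 1) - 1) := by
      rw [h2, map_add, map_sum]
      simp
    rw [h3]
    refine memLocalIdeal_sum _ _ fun i _ => memLocalIdeal_mul_left (memLocalRing_intCast _) ?_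
    have h4 : (τ₀ ζ ^ (i + 1)) ^ 2 ^ (j + 2) = 1 := by
      rw [← pow_mul, mul_comm, pow_mul, ← map_pow, hζ, map_one, one_pow]
    refine memLocalIdeal_sub_one_of_pow hM (j + 2) (memLocalRing_of_isIntegral ?_) h4
    refine IsIntegral.of_pow (n := 2 ^ (j + 2)) (by positivity) ?_
    rw [h4]
    exact isIntegral_one

end Real

section Block

variable {G : Type*} [Group G] [Fintype G] {p : ℕ} [hp : Fact p.Prime] {M : Ideal AlgInt}
  {u : G} [Fintype (Subgroup.centralizer ({u} : Set G))]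

variable {N : ℕ} [NeZero N]

theorem isCyc_aa_of_pow (hN : u ^ N = 1) (χ : IrrCharacter G) (ξ : IrrCharacter (Subgroup.centralizer ({u} : Set G))) :
    IsCyc N (aa u χ ξ) := by
  obtain ⟨ε, m, h1, h2, -, -⟩ := exists_eps_facts hN (NeZero.pos N) χ ξ
  obtain ⟨x, -, hx⟩ := Cfsg.Agent.Lib.Char.exists_root_preimage N (cycEmb N) h2
  rw [h1]
  exact (show IsCyc N ε from ⟨x, hx⟩).mul (isCyc_natCast m)

theorem isCyc_alpha_of_pow (hN : u ^ N = 1) (e : Set (IrrCharacter (Subgroup.centralizer ({u} : Set G)))) (he : e.Nonempty)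
    (χ ψ : IrrCharacter G) : IsCyc N (alpha p u e χ ψ) := by
  classical
  unfold alpha
  rw [gram_formula he]
  refine isCyc_sum _ _ fun ξ _ => isCyc_sum _ _ fun ξ' _ => ?_
  split_ifs
  · exact ((isCyc_aa_of_pow hN χ ξ).mul (isCyc_aa_of_pow hN ψ ξ').conj).mul (isCyc_intCast _)
  · exact isCyc_zero

theorem conj_alpha (e : Set (IrrCharacter (Subgroup.centralizer ({u} : Set G)))) (χ ψ : IrrCharacter G) :
    conj (alpha p u e χ ψ) = alpha p u e ψ χ := by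
  unfold alpha
  rw [map_mul, map_pow, Complex.conj_natCast, conj_classInner]

theorem sum_alpha_mul (hM : IsPModular p M) (hu : ∃ k, orderOf u = p ^ k)
    {e : Set (IrrCharacter (Subgroup.centralizer ({u} : Set G)))} (he : IsPBlock M e) (χ χ' : IrrCharacter G) :
    ∑ ψ, alpha p u e χ ψ * alpha p u e ψ χ' = ((p ^ blockDefect p e : ℕ) : ℂ) * alpha p u e χ χ' := by
  have h1 := sum_classInner_secF_mul hM hu he χ χ'
  unfold alpha
  rw [← h1, Finset.mul_sum, Finset.mul_sum]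
  refine Finset.sum_congr rfl fun ψ _ => ?_
  push_cast
  ring

theorem sum_alpha_self (hM : IsPModular p M) (hu : ∃ k, orderOf u = p ^ k)
    {e : Set (IrrCharacter (Subgroup.centralizer ({u} : Set G)))} (he : IsPBlock M e) :
    ∑ χ, alpha p u e χ χ = ((p ^ blockDefect p e : ℕ) : ℂ) * (blockRank p e : ℂ) := by
  have h1 := sum_classInner_secF hM hu he
  unfold alpha
  rw [← h1, Finset.mul_sum]
  push_cast
  rfl

/-- The matrix in the cyclotomic field. -/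
theorem exists_projMat (hN : u ^ N = 1) (hM : IsPModular p M) (hu : ∃ k, orderOf u = p ^ k)
    {e : Set (IrrCharacter (Subgroup.centralizer ({u} : Set G)))} (he : IsPBlock M e) :
    ∃ (c : Gal(CyclotomicField N ℚ/ℚ)) (a : IrrCharacter G → IrrCharacter G → CyclotomicField N ℚ),
      (∀ y : CyclotomicField N ℚ, y ^ N = 1 → c y = y ^ (N - 1)) ∧
      ProjMat N c a (p ^ blockDefect p e) (blockRank p e) ∧ ∀ χ ψ, cycEmb N (a χ ψ) = alpha p u e χ ψ := by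
  classical
  have := isPModular_isPrime hM
  have hne := IsPBlock_nonempty he
  obtain ⟨c, hc⟩ := exists_conj_aut (n := N)
  choose a ha using fun χ ψ : IrrCharacter G => isCyc_alpha_of_pow (p := p) hN e hne χ ψ
  have hinj : Function.Injective (cycEmb N) := (cycEmb N).toRingHom.injective
  refine ⟨c, a, hc, ⟨fun τ x => conj_emb_eq N τ c hc x, ?_, ?_, ?_, pow_pos hp.out.pos _⟩, ha⟩
  · intro χ ψ
    apply hinj
    rw [← conj_emb_eq N (cycEmb N) c hc, ha, ha, conj_alpha]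
  · intro χ χ'
    apply hinj
    rw [map_sum, map_mul, ha, map_natCast, ← sum_alpha_mul hM hu he]
    refine Finset.sum_congr rfl fun ψ _ => ?_
    rw [map_mul, ha, ha]
  · apply hinj
    rw [map_sum, map_mul, map_natCast, map_natCast, ← sum_alpha_self hM hu he]
    refine Finset.sum_congr rfl fun ψ _ => ?_
    rw [ha]

end Block

end Cfsg.Agent.Lib.BPair
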