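import Cfsg.Agent.Lib.BPair.AlperinDade2
import Cfsg.Agent.Lib.Char.OddOrder
import Cfsg.Agent.Lib.Degree.GaloisChar
import Cfsg.Agent.Lib.CharExtra.Knorr
import Cfsg.Agent.Lib.Block.MinMax

/-!
# Characters fixed by a `2`-power Galois automorphism inverting odd order elements
-/

set_option autoImplicit false
set_option linter.unusedSectionVars false
set_option linter.unusedSimpArgs false
set_option linter.unusedVariables false

open scoped ComplexConjugate
open Cfsg MonoidAlgebra
open Cfsg.Agent.Lib.Block Cfsg.Agent.Lib.Char Cfsg.Agent.Lib.CharExtra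

namespace Cfsg.Agent.Lib.BPair

attribute [local instance] subFintype

universe u

/-- A map of `2`-power order on a set of odd size has a fixed point. -/
theorem exists_fixed_of_two_power {α : Type*} (s : Finset α) (f : α → α) (hf : ∀ x ∈ s, f x ∈ s) (e : ℕ)
    (he : ∀ x ∈ s, f^[2 ^ e] x = x) (hodd : Odd s.card) : ∃ x ∈ s, f x = x := by
  classical
  let F₀ : s → s := fun x => ⟨f x, hf x x.2⟩
  have hit : ∀ (j : ℕ) (x : s), ((F₀^[j] x : s) : α) = f^[j] x := by
    intro j
    induction j with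
    | zero => intro x; rfl
    | succ j ih =>
      intro x
      rw [Function.iterate_succ_apply, Function.iterate_succ_apply, ih]
  have hid : F₀^[2 ^ e] = id := by
    funext x
    apply Subtype.ext
    rw [hit]
    exact he x x.2
  have hinj : Function.Injective F₀ := by
    have h1 : (2 ^ e - 1) + 1 = 2 ^ e := Nat.sub_add_cancel Nat.one_le_two_pow
    have h2 : Function.LeftInverse F₀^[2 ^ e - 1] F₀ := by
      intro x
      rw [← Function.iterate_succ_apply, Nat.succ_eq_add_one, h1, hid]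
      rfl
    exact h2.injective
  have hbij := Finite.injective_iff_bijective.mp hinj
  let F : Equiv.Perm s := Equiv.ofBijective F₀ hbij
  have hFpow : F ^ (2 ^ e) = 1 := by
    apply Equiv.ext
    intro x
    rw [← Equiv.Perm.iterate_eq_pow]
    have h3 : (⇑F) = F₀ := rfl
    rw [h3, hid]
    rfl
  haveI : Fact (Nat.Prime 2) := ⟨Nat.prime_two⟩
  have hH : IsPGroup 2 (Subgroup.zpowers F) := by
    intro g
    refine ⟨e, ?_⟩
    obtain ⟨z, hz⟩ := Subgroup.mem_zpowers_iff.mp g.2
    apply Subtype.ext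
    show (g : Equiv.Perm s) ^ (2 ^ e) = 1
    rw [← hz, ← zpow_natCast, ← zpow_mul, mul_comm, zpow_mul, zpow_natCast, hFpow, one_zpow]
  have hcard : ¬ 2 ∣ Nat.card s := by
    rw [Nat.card_eq_fintype_card, Fintype.card_coe]
    exact hodd.not_two_dvd_nat
  obtain ⟨x, hx⟩ := hH.nonempty_fixed_point_of_prime_not_dvd_card s hcard
  refine ⟨x, x.2, ?_⟩
  have h4 := hx ⟨F, Subgroup.mem_zpowers F⟩
  exact congrArg Subtype.val h4

section Trans

variable {X : Type*} [Group X] [Fintype X]

/-- Constituents of constituents are constituents. -/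
theorem constituent_trans (L : Subgroup X) {ψ : X → ℂ} (hψ : IsCharacter X ψ) {ζ : X → ℂ} (hζ : IsIrrCharacter X ζ)
    (h : classInner ψ ζ ≠ 0) {θ : L → ℂ} (hθ : IsIrrCharacter L θ) (h2 : classInner (fun n : L => ζ n) θ ≠ 0) :
    classInner (fun n : L => ψ n) θ ≠ 0 := by
  have hκ := isCharacter_sub_of_constituent hψ hζ h
  have e : (fun n : L => ψ n) = (fun n : L => ζ n) + fun n : L => (ψ - ζ) n := by
    funext n
    simp
  rw [e, classInner_add_left]
  obtain ⟨a, ha⟩ := classInner_isCharacter_nat (IsCharacter.restrict L (IsIrrCharacter.isCharacter hζ))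
    (IsIrrCharacter.isCharacter hθ)
  obtain ⟨b, hb⟩ := classInner_isCharacter_nat (IsCharacter.restrict L hκ) (IsIrrCharacter.isCharacter hθ)
  rw [ha] at h2 ⊢
  rw [hb]
  have ha0 : a ≠ 0 := by
    rintro rfl
    simp at h2
  norm_cast
  omega

end Trans

section Cover

variable {G : Type u} [Group G] [Fintype G] {M : Ideal AlgInt} {p : ℕ} [hp : Fact p.Prime]

/-- When `C_G(S) ≤ T` for every Sylow subgroup `S`, with `T` normal of index prime to `p`,
everything over the principal block of `T` lies in the principal block of `G`. -/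
theorem mem_principal_of_over {T : Subgroup G} [hT : T.Normal] (hM : IsPModular p M) (hidx : ¬ p ∣ T.index)
    (hC : ∀ S : Sylow p G, Subgroup.centralizer ((S : Subgroup G) : Set G) ≤ T) {ξ : IrrCharacter T}
    (hξ : ξ ∈ principalBlock M T) {χ : IrrCharacter G}
    (hov : classInner (fun n : T => (χ : G → ℂ) n) (ξ : T → ℂ) ≠ 0) : χ ∈ principalBlock M G := by
  classical
  haveI := isPModular_isPrime hM
  intro g
  by_cases hg : g ∈ T
  · -- inside `T`
    have h1 := (constituent_iff_centralChar T χ ξ).mp hov ⟨g, hg⟩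
    have hone : classInner (fun n : T => ((oneIrr G : IrrCharacter G) : G → ℂ) n) ((oneIrr T : IrrCharacter T) : T → ℂ) ≠ 0 := by
      rw [classInner_one_iff]
      intro n _
      rfl
    have h2 := (constituent_iff_centralChar T (oneIrr G) (oneIrr T)).mp hone ⟨g, hg⟩
    have h3 : centralChar (fun _ : G => (1 : ℂ)) g = inducedCentralChar T ((oneIrr T : IrrCharacter T) : T → ℂ) g := h2
    have h4 : centralChar (χ : G → ℂ) g = inducedCentralChar T (ξ : T → ℂ) g := h1
    rw [h3, h4, ← om_resAlg_classSum, ← om_resAlg_classSum]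
    exact memLocalIdeal_om_sub (oneIrr T).2 ξ.2 hξ (isCentralElt_resAlg T (isCentralElt_classSum g))
      (localCoeff_resAlg T (Block.localCoeff_classSum g))
  · have hSy : ∀ E : Subgroup G, Nat.card E = p ^ (Nat.card G).factorization p →
        ∀ y : G, y ∈ Subgroup.centralizer (E : Set G) → y ∈ T := by
      intro E hE y hy
      have h1 := hC (Sylow.ofCard E hE)
      rw [Sylow.coe_ofCard] at h1
      exact h1 hy
    have hcardT : p ^ (Nat.card T).factorization p = p ^ (Nat.card G).factorization p := by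
      have h1 := Subgroup.card_mul_index T
      have h2 : (Nat.card G).factorization p = (Nat.card T).factorization p := by
        rw [← h1, Nat.factorization_mul Nat.card_pos.ne' (Subgroup.index_ne_zero_of_finite)]
        simp [Nat.factorization_eq_zero_of_not_dvd hidx]
      rw [h2]
    -- the index is divisible by `p`
    have hK : p ∣ (Subgroup.centralizer ({g} : Set G)).index := by
      by_contra hnd
      obtain ⟨D⟩ : Nonempty (Sylow p (Subgroup.centralizer ({g} : Set G))) := inferInstance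
      set E : Subgroup G := (D : Subgroup (Subgroup.centralizer ({g} : Set G))).map (Subgroup.centralizer ({g} : Set G)).subtype with hE
      have hEc : Nat.card E = p ^ (Nat.card G).factorization p := by
        rw [hE, Subgroup.card_map_of_injective (Subgroup.subtype_injective _), Sylow.card_eq_multiplicity]
        have h1 := Subgroup.card_mul_index (Subgroup.centralizer ({g} : Set G))
        rw [← h1, Nat.factorization_mul Nat.card_pos.ne' (Subgroup.index_ne_zero_of_finite)]
        simp [Nat.factorization_eq_zero_of_not_dvd hnd]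
      apply hg
      apply hSy E hEc
      rw [Subgroup.mem_centralizer_iff]
      rintro _ ⟨u, _, rfl⟩
      have := u.2
      rw [Subgroup.mem_centralizer_singleton_iff] at this
      exact this
    have hfirst : MemLocalIdeal M (centralChar (fun _ : G => (1 : ℂ)) g) := by
      unfold centralChar
      simp only [mul_one, div_one]
      exact (memLocalIdeal_natCast_iff hM _).mpr hK
    have hsecond : MemLocalIdeal M (centralChar (χ : G → ℂ) g) := by
      by_contra hnot
      set B := blockOf M (χ : G → ℂ) with hBdef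
      have hB : IsPBlock M B := isPBlock_blockOf χ
      have hχB : χ ∈ B := mem_blockOf_self χ
      obtain ⟨DB, hDB⟩ := Block.exists_isDefectGroup hM hB
      obtain ⟨D₀⟩ : Nonempty (Sylow p T) := inferInstance
      have hD₀ : IsDefectGroup p M (principalBlock M T) (D₀ : Subgroup T) :=
        (isDefectGroup_principalBlock_iff hM _).mpr ⟨D₀, rfl⟩
      obtain ⟨x, hx⟩ := defect_le_conj_of_cover T hM hB isPBlock_principalBlock ⟨χ, hχB, ξ, hξ, hov⟩ hD₀ hDB
      have hdvd : Nat.card D₀ ∣ Nat.card DB := by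
        have h1 := Subgroup.card_dvd_of_le hx
        rw [Subgroup.card_map_of_injective (Subgroup.subtype_injective _),
          Subgroup.card_map_of_injective (MulAut.conj x).injective] at h1
        exact h1
      obtain ⟨d, hdc, Q, rfl⟩ := id hDB
      set E : Subgroup G := (Q : Subgroup (Subgroup.centralizer ({d} : Set G))).map (Subgroup.centralizer ({d} : Set G)).subtype with hE
      have hEp : IsPGroup p E := Q.isPGroup'.map _
      have hEc : Nat.card E = p ^ (Nat.card G).factorization p := by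
        rw [Sylow.card_eq_multiplicity, hcardT] at hdvd
        obtain ⟨m, hm⟩ := IsPGroup.iff_card.mp hEp
        have h1 : Nat.card E ∣ Nat.card G := Subgroup.card_subgroup_dvd_card E
        have h2 : Nat.card E ∣ p ^ (Nat.card G).factorization p := by
          rw [hm] at h1 ⊢
          exact (Nat.Prime.pow_dvd_iff_le_factorization hp.out Nat.card_pos.ne').mp h1 |> pow_dvd_pow p
        exact Nat.dvd_antisymm h2 hdvd
      have hEd : E ≤ Subgroup.centralizer ({d} : Set G) := by
        rintro _ ⟨u, _, rfl⟩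
        exact u.2
      obtain ⟨D⟩ : Nonempty (Sylow p (Subgroup.centralizer ({g} : Set G))) := inferInstance
      obtain ⟨y, hy⟩ := minmax_le hM hB hχB hnot hdc.2.1 hEp hEd D
      have h5 : y * g * y⁻¹ ∈ T := by
        apply hSy E hEc
        rw [Subgroup.mem_centralizer_iff]
        intro e he
        obtain ⟨a, ⟨u, _, rfl⟩, rfl⟩ := hy he
        have := u.2
        rw [Subgroup.mem_centralizer_singleton_iff] at this
        show y * (u : G) * y⁻¹ * (y * g * y⁻¹) = y * g * y⁻¹ * (y * (u : G) * y⁻¹)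
        have e2 : y * (u : G) * y⁻¹ * (y * g * y⁻¹) = y * ((u : G) * g) * y⁻¹ := by group
        have e3 : y * g * y⁻¹ * (y * (u : G) * y⁻¹) = y * (g * (u : G)) * y⁻¹ := by group
        rw [e2, e3]
        have e4 : (u : G) * g = g * (u : G) := this
        rw [e4]
      apply hg
      have h6 := hT.conj_mem _ h5 y⁻¹
      simpa [mul_assoc] using h6
    exact memLocalIdeal_sub hfirst hsecond

end Cover

section AD

variable {G : Type u} [Group G] [Fintype G] {M : Ideal AlgInt} {p : ℕ} [hp : Fact p.Prime]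
variable {N P : Subgroup G} [hN : N.Normal]

/-- Gallagher for the canonical extension. -/
theorem exists_beta (H : ADHyp p M N P) {θ : IrrCharacter N} (hθ : θ ∈ principalBlock M N) {ζ : IrrCharacter G}
    (hov : classInner (fun n : N => (ζ : G → ℂ) n) (θ : N → ℂ) ≠ 0) :
    ∃ ψ : IrrCharacter (G ⧸ N), ∀ g, (ζ : G → ℂ) g = (ψ : G ⧸ N → ℂ) (g : G ⧸ N) * thetaT H hθ g := by
  classical
  let φ : N → ℂ := fun _ => 1
  have hφ : IsIrrCharacter N φ := isIrrCharacter_one
  have hφinv : ∀ g, conjFn hN g φ = φ := fun g => rfl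
  have hprod0 : φ * (θ : N → ℂ) = θ := by
    funext n
    simp [φ]
  have hprod : IsIrrCharacter N (φ * (θ : N → ℂ)) := by
    rw [hprod0]
    exact θ.2
  have hB := gallagher_bijOn N hφ θ.2 hφinv hprod (thetaIrr H hθ).2 (fun n => thetaT_N H hθ n)
  have hχm : (ζ : G → ℂ) ∈ {ψ : G → ℂ | IsIrrCharacter G ψ ∧ classInner (indFun N (φ * (θ : N → ℂ))) ψ ≠ 0} := by
    refine ⟨ζ.2, ?_⟩
    rw [frobenius_reciprocity N _ _ (IsCharacter.isClassFunction (IsIrrCharacter.isCharacter ζ.2)), hprod0,
      ← conj_classInner]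
    exact (map_ne_zero _).mpr hov
  obtain ⟨β, ⟨hβ, hβi⟩, hβχ⟩ := hB.surjOn hχm
  have hβχ' : ∀ g, (ζ : G → ℂ) g = β g * thetaT H hθ g := fun g => (congrFun hβχ g).symm
  rw [frobenius_reciprocity N _ _ (IsCharacter.isClassFunction (IsIrrCharacter.isCharacter hβ))] at hβi
  have h1 : classInner (fun n : N => β n) φ ≠ 0 := by
    rw [← conj_classInner]
    exact (map_ne_zero _).mpr hβi
  have hker : Lib.Degree.KerContains N β := (classInner_one_iff (N := N) ⟨β, hβ⟩).mp h1
  obtain ⟨ψ, hψ⟩ := Lib.Degree.exists_inflate N (χ := ⟨β, hβ⟩) hker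
  have hψβ : ∀ g : G, β g = (ψ : G ⧸ N → ℂ) (g : G ⧸ N) := fun g => by
    have h2 := congrArg (fun X : IrrCharacter G => (X : G → ℂ) g) hψ
    exact h2.symm
  exact ⟨ψ, fun g => by rw [hβχ', hψβ]⟩

theorem exists_coset_ne_zero (H : ADHyp p M N P) {θ : IrrCharacter N} (hθ : θ ∈ principalBlock M N) (g₀ : G) :
    ∃ g : G, (g : G ⧸ N) = (g₀ : G ⧸ N) ∧ thetaT H hθ g ≠ 0 := by
  classical
  by_contra hcon
  push Not at hcon
  have h1 := thetaT_coset H hθ g₀
  rw [Finset.sum_eq_zero] at h1
  · have : Nat.card N ≠ 0 := Nat.card_pos.ne'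
    apply this
    exact_mod_cast h1.symm
  · intro g _
    split_ifs with h
    · rw [hcon g h, zero_mul]
    · rfl

/-- The extension of a `σ`-fixed character is `σ`-fixed. -/
theorem ext_unique (H : ADHyp p M N P) {θ : IrrCharacter N} {ζ ζ' : IrrCharacter G}
    (hext : ∀ n : N, (ζ : G → ℂ) n = (θ : N → ℂ) n) (hext' : ∀ n : N, (ζ' : G → ℂ) n = (θ : N → ℂ) n)
    (hU : ∀ c ∈ Subgroup.centralizer (P : Set G), MemLocalIdeal M ((ζ : G → ℂ) c / (θ : N → ℂ) 1 - 1))
    (hU' : ∀ c ∈ Subgroup.centralizer (P : Set G), MemLocalIdeal M ((ζ' : G → ℂ) c / (θ : N → ℂ) 1 - 1)) : ζ = ζ' := by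
  classical
  haveI := isPModular_isPrime H.hM
  have hirr : IsIrrCharacter N fun k : N => (ζ : G → ℂ) k := by
    have e : (fun k : N => (ζ : G → ℂ) k) = (θ : N → ℂ) := funext hext
    rw [e]
    exact θ.2
  obtain ⟨lam, hlK, hlam⟩ := exists_linear_of_two_ext N ζ ζ' (fun n => by rw [hext, hext']) hirr
  have hlC : ∀ x ∈ Subgroup.centralizer (P : Set G), lam x = 1 := by
    intro x hx
    have h1 := hU x hx
    have h2 := hU' x hx
    rw [hlam x] at h2
    have hlloc : MemLocalRing M (lam x : ℂ) := memLocalRing_unit_hom lam x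
    have h3 : MemLocalIdeal M ((lam x : ℂ) - 1) := by
      have h4 := memLocalIdeal_sub h2 (memLocalIdeal_mul_left hlloc h1)
      have e : (lam x : ℂ) * (ζ : G → ℂ) x / (θ : N → ℂ) 1 - 1 - (lam x : ℂ) * ((ζ : G → ℂ) x / (θ : N → ℂ) 1 - 1) =
          (lam x : ℂ) - 1 := by
        ring
      rwa [e] at h4
    have h5 : ((lam x : ℂˣ) : ℂ) ^ N.index = 1 := by
      rw [← Units.val_pow_eq_pow_val, ← map_pow, hlK _ (Subgroup.pow_index_mem _ x), Units.val_one]
    have h6 := eq_one_of_memLocalIdeal_sub_one H.hM H.hidx h5 Subgroup.index_ne_zero_of_finite h3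
    exact Units.ext h6
  have hlT : ∀ t : G, lam t = 1 := by
    intro t
    obtain ⟨n, hn, c, hc, rfl⟩ := H.hdec t
    rw [map_mul, hlK _ hn, hlC _ hc, one_mul]
  apply Subtype.ext
  funext t
  rw [hlam t, hlT t]
  simp

/-- The key theorem: a `σ`-fixed character over a member of the principal block lies in the principal block, when
`G = N C_G(P)`. -/
theorem sigma_fixed_mem (H : ADHyp 2 M N P) {k : ℕ} (hk : k.Coprime (Nat.card G))
    (hk₂ : ∀ g : G, Odd (orderOf g) → g ^ k = g⁻¹)
    {θ : IrrCharacter N} (hθ : θ ∈ principalBlock M N) {ζ : IrrCharacter G}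
    (hζ : ∀ g, (ζ : G → ℂ) (g ^ k) = (ζ : G → ℂ) g)
    (hov : classInner (fun n : N => (ζ : G → ℂ) n) (θ : N → ℂ) ≠ 0) : ζ ∈ principalBlock M G := by
  classical
  haveI := isPModular_isPrime H.hM
  have hinv : ∀ g, conjFn hN g (θ : N → ℂ) = θ := by
    intro g
    funext n
    exact theta_invariant H hθ g n
  have hcl := clifford_invariant hN ζ.2 θ.2 hinv hov
  have hres : ∀ n : N, (ζ : G → ℂ) n = classInner (fun n : N => (ζ : G → ℂ) n) (θ : N → ℂ) * (θ : N → ℂ) n := fun n =>
    congrFun hcl n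
  -- `θ` is fixed
  have hθfix : ∀ n : N, (θ : N → ℂ) (n ^ k) = (θ : N → ℂ) n := by
    intro n
    have h1 := hres (n ^ k)
    have h2 := hres n
    have h3 : (((n ^ k : N)) : G) = (n : G) ^ k := rfl
    rw [h3, hζ, h2] at h1
    exact (mul_left_cancel₀ hov h1).symm
  -- the canonical extension is fixed
  set T₀ := thetaIrr H hθ with hT₀
  let T₁ : IrrCharacter G := ⟨fun g => (T₀ : G → ℂ) (g ^ k), Lib.Degree.galois_isIrr T₀.2 hk⟩
  have hT₀₁ : T₀ = T₁ := by
    refine ext_unique H (θ := θ) (fun n => thetaT_N H hθ n) ?_ (fun c hc => thetaT_U H hθ hc) ?_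
    · intro n
      have h1 := thetaT_N H hθ (n ^ k)
      have h3 : (((n ^ k : N)) : G) = (n : G) ^ k := rfl
      rw [h3, hθfix] at h1
      exact h1
    · intro c hc
      exact thetaT_U H hθ (Subgroup.pow_mem _ hc k)
  have hTfix : ∀ g, thetaT H hθ (g ^ k) = thetaT H hθ g := by
    intro g
    have h1 := congrArg (fun X : IrrCharacter G => (X : G → ℂ) g) hT₀₁
    exact h1.symm
  obtain ⟨ψ, hψ⟩ := exists_beta H hθ hov
  have hqpow : ∀ q : G ⧸ N, q ^ k = q⁻¹ := by
    intro q
    obtain ⟨g, rfl⟩ := QuotientGroup.mk_surjective q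
    obtain ⟨a, b, hb, hm⟩ := Nat.exists_eq_two_pow_mul_odd (orderOf_pos g).ne'
    have hoddq : Odd (Nat.card (G ⧸ N)) := by
      rw [← Nat.not_even_iff_odd, even_iff_two_dvd]
      exact H.hidx
    have hco : Nat.Coprime (2 ^ a) (orderOf (g : G ⧸ N)) :=
      Nat.Coprime.pow_left _ (Nat.coprime_two_left.mpr (Odd.of_dvd_nat hoddq (orderOf_dvd_natCard _)))
    obtain ⟨u, hu⟩ := exists_pow_eq_self_of_coprime hco
    set g' : G := (g ^ (2 ^ a)) ^ u with hg'
    have hmk : (g' : G ⧸ N) = (g : G ⧸ N) := by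
      rw [hg']
      push_cast
      exact hu
    have hodd' : Odd (orderOf g') := by
      refine Odd.of_dvd_nat hb (orderOf_dvd_of_pow_eq_one ?_)
      have e1 : g' ^ b = (g ^ (2 ^ a * b)) ^ u := by
        rw [hg', ← pow_mul, ← pow_mul, ← pow_mul]
        congr 1
        ring
      rw [e1, ← hm, pow_orderOf_eq_one, one_pow]
    have h1 := hk₂ g' hodd'
    rw [← hmk]
    have h2 := congrArg (fun x : G => (x : G ⧸ N)) h1
    exact h2
  have hψfix : ∀ q : G ⧸ N, (ψ : G ⧸ N → ℂ) (q ^ k) = (ψ : G ⧸ N → ℂ) q := by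
    intro q
    obtain ⟨g₀, rfl⟩ := QuotientGroup.mk_surjective q
    obtain ⟨g, hg, hne⟩ := exists_coset_ne_zero H hθ g₀
    rw [← hg]
    have h1 := hζ g
    rw [hψ, hψ, hTfix] at h1
    exact mul_right_cancel₀ hne h1
  have hreal : ∀ q : G ⧸ N, ((ψ : G ⧸ N → ℂ) q).im = 0 := by
    intro q
    have h1 := hψfix q
    rw [hqpow, IsCharacter.map_inv' (IsIrrCharacter.isCharacter ψ.2) q] at h1
    exact Complex.conj_eq_iff_im.mp h1
  have hoddq : Odd (Nat.card (G ⧸ N)) := by
    rw [← Nat.not_even_iff_odd, even_iff_two_dvd]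
    exact H.hidx
  have hψ1 := irr_eq_one_of_real_of_odd hoddq ψ.2 hreal
  have hζT : ζ = T₀ := by
    apply Subtype.ext
    funext g
    rw [hψ, hψ1, one_mul]
    rfl
  obtain ⟨χ, hχ, hovχ⟩ := exists_over H hθ
  have h2 := eq_theta_of_over H hθ hχ hovχ
  rw [hζT, hT₀, ← h2]
  exact hχ

end AD

section Main

variable {G : Type u} [Group G] [Fintype G] {M : Ideal AlgInt}

theorem sylow_le_of_not_dvd {p : ℕ} [Fact p.Prime] (N : Subgroup G) [N.Normal] (hidx : ¬ p ∣ N.index) (P : Sylow p G) :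
    (P : Subgroup G) ≤ N := by
  have h1 : IsPGroup p ((P : Subgroup G).map (QuotientGroup.mk' N)) := P.isPGroup'.map _
  obtain ⟨k, hk⟩ := IsPGroup.iff_card.mp h1
  have h2 : Nat.card ((P : Subgroup G).map (QuotientGroup.mk' N)) ∣ N.index := by
    have := Subgroup.card_subgroup_dvd_card ((P : Subgroup G).map (QuotientGroup.mk' N))
    exact this
  have hk0 : k = 0 := by
    by_contra hk0
    apply hidx
    rw [hk] at h2
    exact (dvd_pow_self p hk0).trans h2
  rw [hk0, pow_zero, Subgroup.card_eq_one] at hk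
  rw [Subgroup.map_eq_bot_iff, QuotientGroup.ker_mk'] at hk
  exact hk

/-- The set of constituents of a restriction to a normal subgroup has size dividing the index. -/
theorem card_constituents_dvd (T : Subgroup G) [hT : T.Normal] (χ : IrrCharacter G) (ζ : IrrCharacter T)
    (hζ : classInner (fun n : T => (χ : G → ℂ) n) (ζ : T → ℂ) ≠ 0) :
    (Finset.univ.filter fun φ : IrrCharacter T => classInner (fun n : T => (χ : G → ℂ) n) (φ : T → ℂ) ≠ 0).card ∣ T.index := by
  classical
  have h1 : (Finset.univ.filter fun φ : IrrCharacter T => classInner (fun n : T => (χ : G → ℂ) n) (φ : T → ℂ) ≠ 0) =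
      cliffordOrbit hT (ζ : T → ℂ) := by
    ext φ
    rw [Finset.mem_filter, mem_cliffordOrbit]
    constructor
    · rintro ⟨_, h⟩
      exact clifford_constituent_conj hT χ.2 ζ.2 φ.2 hζ h
    · rintro ⟨g, hg⟩
      refine ⟨Finset.mem_univ _, ?_⟩
      rw [hg, classInner_restrict_conjFn hT g (IsCharacter.isClassFunction (IsIrrCharacter.isCharacter χ.2))]
      exact hζ
  rw [h1, card_cliffordOrbit hT ζ.2]
  exact Subgroup.index_dvd_of_le (le_inertia hT (IsCharacter.isClassFunction (IsIrrCharacter.isCharacter ζ.2)))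

theorem sigma_block (hM : IsPModular 2 M) (N : Subgroup G) [hN : N.Normal] (hidx : Odd N.index) (k e : ℕ)
    (hk : Nat.Coprime k (Nat.card G)) (hke : k ^ (2 ^ e) ≡ 1 [MOD Nat.card G])
    (hk₂ : ∀ g : G, Odd (orderOf g) → g ^ k = g⁻¹) {θ : IrrCharacter N} (hθ : θ ∈ principalBlock M N)
    {χ : IrrCharacter G} (hχ : ∀ g : G, (χ : G → ℂ) (g ^ k) = (χ : G → ℂ) g)
    (hover : classInner (fun n : N => (χ : G → ℂ) n) (θ : N → ℂ) ≠ 0) : χ ∈ principalBlock M G := by
  classical
  haveI := isPModular_isPrime hM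
  have hidx2 : ¬ 2 ∣ N.index := hidx.not_two_dvd_nat
  obtain ⟨P⟩ : Nonempty (Sylow 2 G) := inferInstance
  have hPN : (P : Subgroup G) ≤ N := sylow_le_of_not_dvd N hidx2 P
  set C : Subgroup G := Subgroup.centralizer ((P : Subgroup G) : Set G) with hC
  set T : Subgroup G := N ⊔ C with hTdef
  have hNT : N ≤ T := le_sup_left
  have hCT : C ≤ T := le_sup_right
  -- `T` is normal
  have hTn : T.Normal := by
    refine ⟨fun t ht g => ?_⟩
    have hg : g ∈ N ⊔ Subgroup.normalizer ((P : Subgroup G) : Set G) := by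
      have h0 : Subgroup.normalizer ((P : Subgroup G) : Set G) ⊔ N = ⊤ := Sylow.normalizer_sup_eq_top' (N := N) P hPN
      rw [sup_comm, h0]
      exact Subgroup.mem_top g
    rw [← SetLike.mem_coe, Subgroup.normal_mul, Set.mem_mul] at hg
    obtain ⟨n, hn, h, hh, rfl⟩ := hg
    have ht' : t ∈ (N ⊔ C : Subgroup G) := ht
    rw [← SetLike.mem_coe, Subgroup.normal_mul, Set.mem_mul] at ht'
    obtain ⟨n₁, hn₁, c₁, hc₁, rfl⟩ := ht'
    have h1 : h * n₁ * h⁻¹ ∈ N := hN.conj_mem _ hn₁ h
    have h2 : h * c₁ * h⁻¹ ∈ C := by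
      rw [hC, Subgroup.mem_centralizer_iff]
      intro y hy
      have h3 : h⁻¹ * y * h ∈ (P : Subgroup G) := by
        have := (Subgroup.mem_normalizer_iff.mp (Subgroup.inv_mem _ hh) y).mp hy
        simpa using this
      have h4 := Subgroup.mem_centralizer_iff.mp hc₁ _ h3
      have e1 : y * (h * c₁ * h⁻¹) = h * ((h⁻¹ * y * h) * c₁) * h⁻¹ := by group
      have e2 : (h * c₁ * h⁻¹) * y = h * (c₁ * (h⁻¹ * y * h)) * h⁻¹ := by group
      rw [e1, e2, h4]
    have e : n * h * (n₁ * c₁) * (n * h)⁻¹ = n * (h * n₁ * h⁻¹) * (h * c₁ * h⁻¹) * n⁻¹ := by group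
    rw [e]
    exact T.mul_mem (T.mul_mem (T.mul_mem (hNT hn) (hNT h1)) (hCT h2)) (T.inv_mem (hNT hn))
  haveI := hTn
  have hCall : ∀ S : Sylow 2 G, Subgroup.centralizer ((S : Subgroup G) : Set G) ≤ T := by
    intro S c hc
    obtain ⟨y, hy⟩ := MulAction.exists_smul_eq G P S
    have h1 : y⁻¹ * c * y ∈ C := by
      rw [hC, Subgroup.mem_centralizer_iff]
      intro a ha
      have h2 : y * a * y⁻¹ ∈ (S : Subgroup G) := by
        rw [← hy, Sylow.coe_subgroup_smul]
        exact ⟨a, ha, rfl⟩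
      have h3 := Subgroup.mem_centralizer_iff.mp hc _ h2
      have e1 : a * (y⁻¹ * c * y) = y⁻¹ * ((y * a * y⁻¹) * c) * y := by group
      have e2 : (y⁻¹ * c * y) * a = y⁻¹ * (c * (y * a * y⁻¹)) * y := by group
      rw [e1, e2, h3]
    have h4 := hTn.conj_mem _ (hCT h1) y
    have e : y * (y⁻¹ * c * y) * y⁻¹ = c := by group
    rwa [e] at h4
  have hTidx : ¬ 2 ∣ T.index := fun hd => hidx2 (hd.trans (Subgroup.index_dvd_of_le hNT))
  have hcT : Nat.card T ∣ Nat.card G := Subgroup.card_subgroup_dvd_card T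
  have hkT : k.Coprime (Nat.card T) := Nat.Coprime.coprime_dvd_right hcT hk
  -- the fixed point
  obtain ⟨ζ₁, hζ₁⟩ := exists_constituent T χ
  let f : IrrCharacter T → IrrCharacter T := fun φ => ⟨fun t => (φ : T → ℂ) (t ^ k), Lib.Degree.galois_isIrr φ.2 hkT⟩
  have hfit : ∀ (j : ℕ) (φ : IrrCharacter T) (t : T), ((f^[j] φ : IrrCharacter T) : T → ℂ) t = (φ : T → ℂ) (t ^ (k ^ j)) := by
    intro j
    induction j with
    | zero =>
      intro φ t
      simp
    | succ j ih =>
      intro φ t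
      rw [Function.iterate_succ_apply, ih]
      show (φ : T → ℂ) ((t ^ k ^ j) ^ k) = _
      rw [← pow_mul, pow_succ]
  set Y := (Finset.univ.filter fun φ : IrrCharacter T => classInner (fun n : T => (χ : G → ℂ) n) (φ : T → ℂ) ≠ 0) with hY
  have hYodd : Odd Y.card := by
    have h1 := card_constituents_dvd T χ ζ₁ hζ₁
    rw [← hY] at h1
    rw [← Nat.not_even_iff_odd, even_iff_two_dvd]
    exact fun hd => hTidx (hd.trans h1)
  have hYf : ∀ φ ∈ Y, f φ ∈ Y := by
    intro φ hφ
    rw [hY, Finset.mem_filter] at hφ ⊢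
    refine ⟨Finset.mem_univ _, ?_⟩
    have h1 := Lib.Degree.classInner_galois (fun n : T => (χ : G → ℂ) n) (φ : T → ℂ) hkT
    have h2 : (fun t : T => (fun n : T => (χ : G → ℂ) n) (t ^ k)) = fun n : T => (χ : G → ℂ) n := by
      funext t
      exact hχ t
    rw [h2] at h1
    show classInner (fun n : T => (χ : G → ℂ) n) (fun t => (φ : T → ℂ) (t ^ k)) ≠ 0
    rw [h1]
    exact hφ.2
  have hYid : ∀ φ ∈ Y, f^[2 ^ e] φ = φ := by
    intro φ _
    apply Subtype.ext
    funext t
    rw [hfit]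
    congr 1
    have h1 : t ^ (k ^ 2 ^ e) = t ^ 1 := by
      rw [pow_eq_pow_iff_modEq]
      exact hke.of_dvd ((orderOf_dvd_natCard t).trans hcT)
    rw [h1, pow_one]
  obtain ⟨ζ₀, hζ₀Y, hζ₀f⟩ := exists_fixed_of_two_power Y f hYf e hYid hYodd
  have hζ₀fix : ∀ t : T, (ζ₀ : T → ℂ) (t ^ k) = (ζ₀ : T → ℂ) t := by
    intro t
    exact congrFun (congrArg Subtype.val hζ₀f) t
  have hζ₀ov : classInner (fun n : T => (χ : G → ℂ) n) (ζ₀ : T → ℂ) ≠ 0 := (Finset.mem_filter.mp hζ₀Y).2
  -- the constituent in `N`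
  haveI hN₁ : (N.subgroupOf T).Normal := inferInstance
  obtain ⟨θ₁, hθ₁⟩ := exists_constituent (N.subgroupOf T) ζ₀
  let ee : N.subgroupOf T ≃* N := Subgroup.subgroupOfEquivOfLe hNT
  have hχ₁ : classInner (fun n : N.subgroupOf T => (χ : G → ℂ) ((n : T) : G)) (θ₁ : N.subgroupOf T → ℂ) ≠ 0 :=
    constituent_trans (N.subgroupOf T) (IsCharacter.restrict T (IsIrrCharacter.isCharacter χ.2)) ζ₀.2 hζ₀ov θ₁.2 hθ₁
  have hθ₀ : classInner (fun n : N => (χ : G → ℂ) n) ((mapIrr ee θ₁ : IrrCharacter N) : N → ℂ) ≠ 0 := by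
    have h1 := classInner_comp_equiv ee (fun n : N => (χ : G → ℂ) n) ((mapIrr ee θ₁ : IrrCharacter N) : N → ℂ)
    have e2 : ((mapIrr ee θ₁ : IrrCharacter N) : N → ℂ) ∘ ee = θ₁ := funext (mapIrr_apply ee θ₁)
    rw [← h1, e2]
    exact hχ₁
  obtain ⟨g, hg⟩ := clifford_constituent_conj hN χ.2 θ.2 (mapIrr ee θ₁).2 hover hθ₀
  have hθ₀m : mapIrr ee θ₁ ∈ principalBlock M N := by
    have h1 := isStable_principal (M := M) N g θ hθ
    have h2 : mapIrr ee θ₁ = conjIrr N g θ := Subtype.ext hg
    rw [h2]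
    exact h1
  have hθ₁m : θ₁ ∈ principalBlock M (N.subgroupOf T) := (mapIrr_mem_principal ee).mp hθ₀m
  -- apply the `T`-level theorem
  have HT : ADHyp 2 M (N.subgroupOf T) ((P : Subgroup G).subgroupOf T) := by
    refine ⟨hM, fun x hx => Subgroup.mem_subgroupOf.mpr (hPN (Subgroup.mem_subgroupOf.mp hx)), ?_, ?_, ?_⟩
    · intro hd
      have h5 := Subgroup.relIndex_mul_index (hPN.trans hNT)
      apply P.not_dvd_index
      rw [← h5]
      exact Dvd.dvd.mul_right hd _
    · exact fun hd => hidx2 (hd.trans (Subgroup.relIndex_dvd_index_of_normal N T))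
    · intro t
      have ht' : (t : G) ∈ (N ⊔ C : Subgroup G) := t.2
      rw [← SetLike.mem_coe, Subgroup.normal_mul, Set.mem_mul] at ht'
      obtain ⟨n, hn, c, hc, e⟩ := ht'
      have hcT : c ∈ T := hCT hc
      refine ⟨⟨n, hNT hn⟩, Subgroup.mem_subgroupOf.mpr hn, ⟨c, hcT⟩, ?_, Subtype.ext e.symm⟩
      rw [Subgroup.mem_centralizer_iff]
      intro y hy
      apply Subtype.ext
      exact Subgroup.mem_centralizer_iff.mp hc _ (Subgroup.mem_subgroupOf.mp hy)
  have hζ₀m : ζ₀ ∈ principalBlock M T := by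
    refine sigma_fixed_mem HT hkT ?_ hθ₁m hζ₀fix hθ₁
    intro t ht
    apply Subtype.ext
    have h1 : orderOf (t : G) = orderOf t := Subgroup.orderOf_coe t
    exact hk₂ t (h1 ▸ ht)
  exact mem_principal_of_over hM hTidx hCall hζ₀m hζ₀ov

theorem principal_constituent {p : ℕ} [Fact p.Prime] (hM : IsPModular p M) (N : Subgroup G) [hN : N.Normal]
    {χ : IrrCharacter G} (h : χ ∈ principalBlock M G) {θ : IrrCharacter N}
    (hover : classInner (fun n : N => (χ : G → ℂ) n) (θ : N → ℂ) ≠ 0) : θ ∈ principalBlock M N := by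
  classical
  haveI := isPModular_isPrime hM
  have hU : IsStable N (principalBlock M N) := isStable_principal N
  have hU' : IsBlockUnion M (principalBlock M N) := isBlockUnion_of_isPBlock ⟨oneIrr N, rfl⟩
  have hone := principal_subset_over N hM (oneIrr_mem_principalBlock (M := M) (G := G))
  exact constituent_mem_of_sameBlock N hU hU'
    (show SameBlock M ((oneIrr G : IrrCharacter G) : G → ℂ) (χ : G → ℂ) from h) hone hover

end Main

end Cfsg.Agent.Lib.BPair
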