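import Cfsg.Agent.Lib.BPair.MajorFacts

/-!
# Combinations of the regular parts of the characters of a block
-/

set_option autoImplicit false
set_option linter.unusedSectionVars false
set_option linter.style.haveILetI false
set_option linter.unusedSimpArgs false
set_option linter.unnecessarySimpa false
set_option linter.unusedVariables false

open scoped ComplexConjugate
open Module

namespace Cfsg.Agent.Lib.BPair

open Cfsg Cfsg.Agent.Lib.Char Cfsg.Agent.Lib.Block Cfsg.Agent.Lib.Core Cfsg.Agent.Lib.CharExtra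

attribute [local instance] subFintype

section VecC

variable {C : Type*} [Group C] [Fintype C] {p : ℕ} [hp : Fact p.Prime] {M : Ideal AlgInt}

open Classical in
/-- Complex combinations of the regular parts of the characters of `b`. -/
noncomputable def vecC (p : ℕ) (b : Set (IrrCharacter C)) (f : IrrCharacter C → ℂ) : C → ℂ :=
  ∑ ξ : IrrCharacter C, if ξ ∈ b then f ξ • pRegularPart p (ξ : C → ℂ) else 0

open Classical in
/-- The form on coefficient vectors. -/
noncomputable def qC (p : ℕ) [Fact p.Prime] (b : Set (IrrCharacter C)) (f g : IrrCharacter C → ℂ) : ℂ :=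
  ∑ ξ : IrrCharacter C, ∑ ξ' : IrrCharacter C, if ξ ∈ b ∧ ξ' ∈ b then f ξ * conj (g ξ') * (rr p b ξ ξ' : ℂ) else 0

theorem classInner_vecC {b : Set (IrrCharacter C)} (he : b.Nonempty) (f g : IrrCharacter C → ℂ) :
    (p : ℂ) ^ blockDefect p b * classInner (vecC p b f) (vecC p b g) = qC p b f g := by
  classical
  unfold vecC qC
  rw [classInner_sum_left, Finset.mul_sum]
  refine Finset.sum_congr rfl fun ξ _ => ?_
  rw [classInner_sum_right, Finset.mul_sum]
  refine Finset.sum_congr rfl fun ξ' _ => ?_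
  by_cases hξ : ξ ∈ b
  · by_cases hξ' : ξ' ∈ b
    · rw [if_pos hξ, if_pos hξ', if_pos ⟨hξ, hξ'⟩, classInner_smul_left, classInner_smul_right,
        classInner_reg_left (fun y hy => pRegularPart_eq_zero_of_dvd _ hy), classInner_pRegularPart_irr,
        regCoeff_eq_rr hξ ξ']
      have h1 : blockDefect p b + minExp p b = (Nat.card C).factorization p := by
        have h2 := minExp_le_factorization_card (p := p) he
        have h3 : blockDefect p b = (Nat.card C).factorization p - minExp p b := rfl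
        omega
      have h4 : ((p ^ (Nat.card C).factorization p : ℕ) : ℂ) = (p : ℂ) ^ blockDefect p b * (p : ℂ) ^ minExp p b := by
        rw [← h1, pow_add]
        push_cast
        ring
      have h5 : ((p : ℂ) ^ blockDefect p b) ≠ 0 := pow_ne_zero _ (by exact_mod_cast hp.out.ne_zero)
      have h6 : ((p : ℂ) ^ minExp p b) ≠ 0 := pow_ne_zero _ (by exact_mod_cast hp.out.ne_zero)
      rw [h4]
      push_cast
      field_simp
    · rw [if_neg hξ', if_neg (fun h : ξ ∈ b ∧ ξ' ∈ b => hξ' h.2)]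
      simp [classInner_def]
  · rw [if_neg hξ, if_neg (fun h : ξ ∈ b ∧ ξ' ∈ b => hξ h.1)]
    simp [classInner_def]

theorem vecC_mem (b : Set (IrrCharacter C)) (f : IrrCharacter C → ℂ) : vecC p b f ∈ regSpan p b := by
  classical
  unfold vecC
  refine Submodule.sum_mem _ fun ξ _ => ?_
  split_ifs with hξ
  · exact Submodule.smul_mem _ _ (Submodule.subset_span ⟨ξ, hξ, rfl⟩)
  · exact Submodule.zero_mem _

theorem isIntegral_vecC (b : Set (IrrCharacter C)) {f : IrrCharacter C → ℂ} (hf : ∀ ξ, IsIntegral ℤ (f ξ)) (s : C) :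
    IsIntegral ℤ (vecC p b f s) := by
  classical
  unfold vecC
  rw [Finset.sum_apply]
  refine IsIntegral.sum _ fun ξ _ => ?_
  split_ifs
  · rw [Pi.smul_apply, smul_eq_mul]
    refine (hf ξ).mul ?_
    by_cases hs : p ∣ orderOf s
    · rw [pRegularPart_of_sing hs]
      exact isIntegral_zero
    · rw [pRegularPart_of_reg hs]
      exact IsCharacter.isIntegral' (IsIrrCharacter.isCharacter ξ.2) s
  · exact isIntegral_zero

theorem isIntegral_qC (b : Set (IrrCharacter C)) {f g : IrrCharacter C → ℂ} (hf : ∀ ξ, IsIntegral ℤ (f ξ))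
    (hg : ∀ ξ, IsIntegral ℤ (conj (g ξ))) : IsIntegral ℤ (qC p b f g) := by
  classical
  unfold qC
  refine IsIntegral.sum _ fun ξ _ => IsIntegral.sum _ fun ξ' _ => ?_
  split_ifs
  · exact ((hf ξ).mul (hg ξ')).mul (isIntegral_intCast _)
  · exact isIntegral_zero

theorem isCyc_qC {n : ℕ} [NeZero n] (b : Set (IrrCharacter C)) {f g : IrrCharacter C → ℂ} (hf : ∀ ξ, IsCyc n (f ξ))
    (hg : ∀ ξ, IsCyc n (g ξ)) : IsCyc n (qC p b f g) := by
  classical
  unfold qC
  refine isCyc_sum _ _ fun ξ _ => isCyc_sum _ _ fun ξ' _ => ?_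
  split_ifs
  · exact ((hf ξ).mul (hg ξ').conj).mul (isCyc_intCast _)
  · exact isCyc_zero

open Classical in
/-- The congruence for the form. -/
theorem qC_congr {b : Set (IrrCharacter C)} {K₀ : ℂ}
    (hr : ∀ ξ ∈ b, ∀ ξ' ∈ b, MemLocalIdeal M ((rr p b ξ ξ' : ℂ) - K₀ * (qq p b ξ : ℂ) * (qq p b ξ' : ℂ)))
    [M.IsPrime] {f g f₁ g₁ : IrrCharacter C → ℂ} (hf₁ : ∀ ξ, MemLocalRing M (f₁ ξ)) (hg₁ : ∀ ξ, MemLocalRing M (g₁ ξ))
    (hg : ∀ ξ, MemLocalRing M (conj (g ξ)))
    (hf : ∀ ξ, MemLocalIdeal M (f ξ - f₁ ξ)) (hg' : ∀ ξ, MemLocalIdeal M (conj (g ξ) - g₁ ξ)) :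
    MemLocalIdeal M (qC p b f g - K₀ * (∑ ξ, if ξ ∈ b then f₁ ξ * (qq p b ξ : ℂ) else 0) *
      (∑ ξ, if ξ ∈ b then g₁ ξ * (qq p b ξ : ℂ) else 0)) := by
  unfold qC
  rw [mul_assoc, Finset.sum_mul_sum, Finset.mul_sum, ← Finset.sum_sub_distrib]
  refine memLocalIdeal_sum _ _ fun ξ _ => ?_
  rw [Finset.mul_sum, ← Finset.sum_sub_distrib]
  refine memLocalIdeal_sum _ _ fun ξ' _ => ?_
  by_cases hξ : ξ ∈ b
  · by_cases hξ' : ξ' ∈ b
    · rw [if_pos ⟨hξ, hξ'⟩, if_pos hξ, if_pos hξ']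
      have e1 : f ξ * conj (g ξ') * (rr p b ξ ξ' : ℂ) - K₀ * (f₁ ξ * (qq p b ξ : ℂ) * (g₁ ξ' * (qq p b ξ' : ℂ))) =
          (f ξ - f₁ ξ) * (conj (g ξ') * (rr p b ξ ξ' : ℂ)) + f₁ ξ * ((conj (g ξ') - g₁ ξ') * (rr p b ξ ξ' : ℂ)) +
            f₁ ξ * g₁ ξ' * ((rr p b ξ ξ' : ℂ) - K₀ * (qq p b ξ : ℂ) * (qq p b ξ' : ℂ)) := by ring
      rw [e1]
      have hrl : MemLocalRing M (rr p b ξ ξ' : ℂ) := memLocalRing_intCast _
      refine memLocalIdeal_add (memLocalIdeal_add ?_ ?_) ?_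
      · exact memLocalIdeal_mul_right (hf ξ) (memLocalRing_mul (hg ξ') hrl)
      · exact memLocalIdeal_mul_left (hf₁ ξ) (memLocalIdeal_mul_right (hg' ξ') hrl)
      · exact memLocalIdeal_mul_left (memLocalRing_mul (hf₁ ξ) (hg₁ ξ')) (hr ξ hξ ξ' hξ')
    · rw [if_neg (fun h : ξ ∈ b ∧ ξ' ∈ b => hξ' h.2), if_neg hξ']
      simpa using memLocalIdeal_zero
  · rw [if_neg (fun h : ξ ∈ b ∧ ξ' ∈ b => hξ h.1), if_neg hξ]
    simpa using memLocalIdeal_zero

/-- Integer combinations. -/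
noncomputable def vecL (p : ℕ) (b : Set (IrrCharacter C)) (m : IrrCharacter C → ℤ) : C → ℂ :=
  vecC p b (fun ξ => (m ξ : ℂ))

open Classical in
/-- The integer form on coefficient vectors. -/
noncomputable def qZ (p : ℕ) [Fact p.Prime] (b : Set (IrrCharacter C)) (m m' : IrrCharacter C → ℤ) : ℤ :=
  ∑ ξ : IrrCharacter C, ∑ ξ' : IrrCharacter C, if ξ ∈ b ∧ ξ' ∈ b then m ξ * m' ξ' * rr p b ξ ξ' else 0

theorem qC_int (b : Set (IrrCharacter C)) (m m' : IrrCharacter C → ℤ) :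
    qC p b (fun ξ => (m ξ : ℂ)) (fun ξ => (m' ξ : ℂ)) = (qZ p b m m' : ℂ) := by
  classical
  unfold qC qZ
  push_cast
  refine Finset.sum_congr rfl fun ξ _ => Finset.sum_congr rfl fun ξ' _ => ?_
  split_ifs
  · simp
  · rfl

theorem classInner_vecL {b : Set (IrrCharacter C)} (he : b.Nonempty) (m m' : IrrCharacter C → ℤ) :
    (p : ℂ) ^ blockDefect p b * classInner (vecL p b m) (vecL p b m') = (qZ p b m m' : ℂ) := by
  unfold vecL
  rw [classInner_vecC he, qC_int]

theorem vecL_sub (b : Set (IrrCharacter C)) (m m' : IrrCharacter C → ℤ) :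
    vecL p b (m - m') = vecL p b m - vecL p b m' := by
  classical
  unfold vecL vecC
  rw [← Finset.sum_sub_distrib]
  refine Finset.sum_congr rfl fun ξ _ => ?_
  split_ifs
  · rw [← sub_smul]
    simp
  · simp

theorem rr_comm (b : Set (IrrCharacter C)) (ξ ξ' : IrrCharacter C) : rr p b ξ ξ' = rr p b ξ' ξ := by
  unfold rr
  rw [regCoeff_comm]

theorem qZ_symm (b : Set (IrrCharacter C)) (m m' : IrrCharacter C → ℤ) : qZ p b m m' = qZ p b m' m := by
  classical
  unfold qZ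
  rw [Finset.sum_comm]
  refine Finset.sum_congr rfl fun ξ _ => Finset.sum_congr rfl fun ξ' _ => ?_
  by_cases h : ξ ∈ b ∧ ξ' ∈ b
  · rw [if_pos h, if_pos ⟨h.2, h.1⟩, rr_comm b ξ ξ']
    ring
  · rw [if_neg h, if_neg (fun h' : ξ' ∈ b ∧ ξ ∈ b => h ⟨h'.2, h'.1⟩)]

theorem qZ_sub (b : Set (IrrCharacter C)) (m m' : IrrCharacter C → ℤ) :
    qZ p b (m - m') (m - m') = qZ p b m m + qZ p b m' m' - qZ p b m m' - qZ p b m' m := by
  classical
  unfold qZ
  rw [← Finset.sum_add_distrib, ← Finset.sum_sub_distrib, ← Finset.sum_sub_distrib]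
  refine Finset.sum_congr rfl fun ξ _ => ?_
  rw [← Finset.sum_add_distrib, ← Finset.sum_sub_distrib, ← Finset.sum_sub_distrib]
  refine Finset.sum_congr rfl fun ξ' _ => ?_
  split_ifs
  · simp only [Pi.sub_apply]
    ring
  · simp

theorem qZ_eq_real {b : Set (IrrCharacter C)} (he : b.Nonempty) (m : IrrCharacter C → ℤ) :
    (qZ p b m m : ℝ) = (p : ℝ) ^ blockDefect p b * ((Nat.card C : ℝ)⁻¹ * ∑ g, Complex.normSq (vecL p b m g)) := by
  have h1 := classInner_vecL (p := p) he m m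
  rw [classInner_def] at h1
  have h2 : ((qZ p b m m : ℝ) : ℂ) = (((p : ℝ) ^ blockDefect p b * ((Nat.card C : ℝ)⁻¹ * ∑ g, Complex.normSq (vecL p b m g)) : ℝ) : ℂ) := by
    push_cast
    have h3 := h1.symm
    push_cast at h3
    rw [h3]
    congr 2
    refine Finset.sum_congr rfl fun g _ => ?_
    rw [Complex.mul_conj]
  exact_mod_cast h2

theorem qZ_nonneg {b : Set (IrrCharacter C)} (he : b.Nonempty) (m : IrrCharacter C → ℤ) : 0 ≤ qZ p b m m := by
  have h1 := qZ_eq_real (p := p) he m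
  have h2 : (0 : ℝ) ≤ (qZ p b m m : ℝ) := by
    rw [h1]
    have h3 : 0 ≤ ∑ g, Complex.normSq (vecL p b m g) := Finset.sum_nonneg fun g _ => Complex.normSq_nonneg _
    positivity
  exact_mod_cast h2

theorem qZ_pos {b : Set (IrrCharacter C)} (he : b.Nonempty) {m : IrrCharacter C → ℤ} (h : vecL p b m ≠ 0) :
    0 < qZ p b m m := by
  have h1 := qZ_eq_real (p := p) he m
  obtain ⟨g₀, hg₀⟩ := Function.ne_iff.1 h
  have h2 : (0 : ℝ) < (qZ p b m m : ℝ) := by
    rw [h1]
    have h3 : 0 < ∑ g, Complex.normSq (vecL p b m g) := by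
      refine Finset.sum_pos' (fun g _ => Complex.normSq_nonneg _) ⟨g₀, Finset.mem_univ _, ?_⟩
      exact Complex.normSq_pos.2 hg₀
    have hp0 : (0 : ℝ) < p := by exact_mod_cast hp.out.pos
    have hc : (0 : ℝ) < (Nat.card C : ℝ) := by exact_mod_cast Nat.card_pos
    positivity
  exact_mod_cast h2

end VecC

end Cfsg.Agent.Lib.BPair
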